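import Mathlib

/-!
A finite group is not the union of the conjugates of a proper subgroup (Jordan).
-/

set_option autoImplicit false

namespace Cfsg.Agent.H75

variable {G : Type*} [Group G]

theorem eq_top_of_conj_cover [Finite G] (H : Subgroup G)
    (h : ∀ g : G, ∃ a : G, a * g * a⁻¹ ∈ H) : H = ⊤ := by
  classical
  by_contra hne
  have : Fintype G := Fintype.ofFinite G
  have : Fintype (G ⧸ H) := Fintype.ofFinite _
  have : Fintype (Quotient (MulAction.orbitRel G (G ⧸ H))) := Fintype.ofFinite _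
  have key := MulAction.sum_card_fixedBy_eq_card_orbits_mul_card_group G (G ⧸ H)
  have : Subsingleton (Quotient (MulAction.orbitRel G (G ⧸ H))) := by
    refine ⟨fun a b => Quotient.inductionOn₂ a b fun x y => Quotient.sound ?_⟩
    exact MulAction.exists_smul_eq G y x
  have horb : Fintype.card (Quotient (MulAction.orbitRel G (G ⧸ H))) = 1 :=
    Fintype.card_eq_one_iff.2
      ⟨Quotient.mk'' ((1 : G) : G ⧸ H), fun y => Subsingleton.elim _ _⟩
  rw [horb, one_mul] at key
  have hpos : ∀ g : G, 1 ≤ Fintype.card (MulAction.fixedBy (G ⧸ H) g) := by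
    intro g
    obtain ⟨a, ha⟩ := h g
    refine Fintype.card_pos_iff.2 ⟨⟨((a⁻¹ : G) : G ⧸ H), ?_⟩⟩
    show ((g * a⁻¹ : G) : G ⧸ H) = ((a⁻¹ : G) : G ⧸ H)
    rw [QuotientGroup.eq]
    have : (g * a⁻¹)⁻¹ * a⁻¹ = (a * g * a⁻¹)⁻¹ := by group
    rw [this]
    exact H.inv_mem ha
  have hone : 1 < Fintype.card (MulAction.fixedBy (G ⧸ H) (1 : G)) := by
    have hi : 1 < H.index := Nat.lt_of_le_of_ne (Nat.one_le_iff_ne_zero.2 H.index_ne_zero_of_finite)
      (fun e => hne (Subgroup.index_eq_one.1 e.symm))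
    rw [Subgroup.index_eq_card, Nat.card_eq_fintype_card] at hi
    refine hi.trans_le (le_of_eq ?_)
    exact (Fintype.card_congr (Equiv.subtypeUnivEquiv fun x => one_smul G x)).symm
  have : ∑ g : G, 1 < ∑ g : G, Fintype.card (MulAction.fixedBy (G ⧸ H) g) :=
    Finset.sum_lt_sum (fun g _ => hpos g) ⟨1, Finset.mem_univ _, hone⟩
  rw [key] at this
  simp at this

end Cfsg.Agent.H75
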