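import Mathlib

/-!
Elementary helpers: class sizes, prime parts of elements, Sylow containing centralised subgroups.
-/

set_option autoImplicit false

namespace Cfsg.Agent.H75

open Subgroup

variable {G : Type*} [Group G]

/-- The size of a conjugacy class is the index of the centraliser. -/
theorem ncard_carrier (x : G) :
    (ConjClasses.mk x).carrier.ncard = (centralizer ({x} : Set G)).index := by
  have h : MulAction.stabilizer (ConjAct G) x = centralizer ({x} : Set G) :=
    ConjAct.stabilizer_eq_centralizer x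
  rw [← ConjAct.orbit_eq_carrier_conjClasses, ← MulAction.index_stabilizer]
  exact congrArg Subgroup.index h

/-- `x` is the product of a `p`-element and an element of order prime to `p`, both powers of `x`. -/
theorem exists_split [Finite G] (x : G) {p : ℕ} (hp : p.Prime) :
    ∃ u v : G, u ∈ zpowers x ∧ v ∈ zpowers x ∧ u * v = x ∧
      (∃ k : ℕ, orderOf u = p ^ k) ∧ (orderOf v).Coprime p ∧
      orderOf u ∣ orderOf x ∧ orderOf v ∣ orderOf x := by
  have hn : orderOf x ≠ 0 := (orderOf_pos x).ne'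
  set n := orderOf x with hndef
  set a := n.factorization p
  have hdec : p ^ a * (n / p ^ a) = n := Nat.ordProj_mul_ordCompl_eq_self n p
  have hcop : Nat.Coprime (p ^ a) (n / p ^ a) :=
    Nat.Coprime.pow_left a (Nat.coprime_ordCompl hp hn)
  set m := n / p ^ a
  -- u = x ^ (m s), v = x ^ (p^a t)
  have hb : (Nat.gcd (p ^ a) m : ℤ) = (p ^ a : ℕ) * Nat.gcdA (p ^ a) m + (m : ℕ) * Nat.gcdB (p ^ a) m :=
    Nat.gcd_eq_gcd_ab _ _
  rw [hcop.gcd_eq_one] at hb
  set s := Nat.gcdA (p ^ a) m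
  set t := Nat.gcdB (p ^ a) m
  have hx : (x : G) ^ (n : ℤ) = 1 := by rw [zpow_natCast, hndef, pow_orderOf_eq_one]
  refine ⟨x ^ ((m : ℤ) * t), x ^ (((p ^ a : ℕ) : ℤ) * s), zpow_mem (mem_zpowers x) _,
    zpow_mem (mem_zpowers x) _, ?_, ?_, ?_, ?_, ?_⟩
  · rw [← zpow_add, add_comm, ← hb, Nat.cast_one, zpow_one]
  · have h : orderOf (x ^ ((m : ℤ) * t)) ∣ p ^ a := by
      rw [orderOf_dvd_iff_pow_eq_one, ← zpow_natCast, ← zpow_mul]
      have : (m : ℤ) * t * (p ^ a : ℕ) = (n : ℤ) * t := by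
        rw [← hdec]; push_cast; ring
      rw [this, zpow_mul, hx, one_zpow]
    obtain ⟨k, -, hk⟩ := (Nat.dvd_prime_pow hp).1 h
    exact ⟨k, hk⟩
  · have h : orderOf (x ^ (((p ^ a : ℕ) : ℤ) * s)) ∣ m := by
      rw [orderOf_dvd_iff_pow_eq_one, ← zpow_natCast, ← zpow_mul]
      have : ((p ^ a : ℕ) : ℤ) * s * (m : ℕ) = (n : ℤ) * s := by
        rw [← hdec]; push_cast; ring
      rw [this, zpow_mul, hx, one_zpow]
    exact Nat.Coprime.coprime_dvd_left h (Nat.coprime_ordCompl hp hn).symm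
  all_goals
    rw [orderOf_dvd_iff_pow_eq_one, ← zpow_natCast, ← zpow_mul, mul_comm, zpow_mul, hx, one_zpow]

/-- An element all of whose prime power order powers lie in `H` lies in `H`. -/
theorem mem_of_primePower_parts [Finite G] (H : Subgroup G) (x : G)
    (h : ∀ y ∈ zpowers x, (∃ r k : ℕ, r.Prime ∧ orderOf y = r ^ k) → y ∈ H) : x ∈ H := by
  induction hn : orderOf x using Nat.strong_induction_on generalizing x with
  | _ n ih =>
    by_cases h1 : x = 1
    · rw [h1]; exact H.one_mem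
    obtain ⟨r, hr, hdvd⟩ := Nat.exists_prime_and_dvd (n := orderOf x)
      (fun e => h1 (orderOf_eq_one_iff.1 e))
    obtain ⟨u, v, hu, hv, huv, ⟨k, hk⟩, hcop, -, hvd⟩ := exists_split x hr
    rw [← huv]
    refine H.mul_mem (h u hu ⟨r, k, hr, hk⟩) ?_
    refine ih (orderOf v) ?_ v (fun y hy => h y (zpowers_le.2 hv hy)) rfl
    rw [← hn]
    refine lt_of_le_of_ne (Nat.le_of_dvd (orderOf_pos x) hvd) fun e => ?_
    rw [e] at hcop
    exact hr.one_lt.ne' (Nat.dvd_one.1 (hcop ▸ Nat.dvd_gcd hdvd dvd_rfl))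

/-- A subgroup whose index is prime to `p` contains a Sylow `p`-subgroup. -/
theorem exists_sylow_le [Finite G] {p : ℕ} [Fact p.Prime] {C : Subgroup G} (h : ¬ p ∣ C.index) :
    ∃ P : Sylow p G, (P : Subgroup G) ≤ C := by
  obtain ⟨S⟩ := (inferInstance : Nonempty (Sylow p C))
  obtain ⟨P, hP⟩ := (S.isPGroup'.map C.subtype).exists_le_sylow
  refine ⟨P, ?_⟩
  have hcard : Nat.card ((S : Subgroup C).map C.subtype) = Nat.card (P : Subgroup G) := by
    rw [card_map_of_injective C.subtype_injective, S.card_eq_multiplicity, P.card_eq_multiplicity]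
    congr 1
    rw [← C.card_mul_index, Nat.factorization_mul Nat.card_pos.ne' Subgroup.index_ne_zero_of_finite]
    simp [Nat.factorization_eq_zero_of_not_dvd h]
  rw [← Subgroup.eq_of_le_of_card_ge hP hcard.ge]
  exact map_subtype_le _

end Cfsg.Agent.H75
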