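import Mathlib

/-!
The arithmetic for groups with one orbit on elements of each of three prime orders.
-/

set_option autoImplicit false

namespace Cfsg.Agent.H75.PrimeOrbit

/-- What the elements of order `q` can number. -/
def CountOpt (A R Q X : ℕ) : Prop :=
  2 * X = A * R * (Q - 1) ∨ (3 * X = A * R * (Q - 1) ∧ 3 ∣ Q - 1) ∨ 4 * X ≤ A * R * Q

theorem CountOpt.bound {A R Q X : ℕ} (h : CountOpt A R Q X) :
    2 * X = A * R * (Q - 1) ∨ 3 * X ≤ A * R * Q := by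
  rcases h with h | ⟨h, -⟩ | h
  · exact Or.inl h
  · exact Or.inr (h ▸ Nat.mul_le_mul_left _ (Nat.sub_le _ _))
  · exact Or.inr (by omega)

theorem four_case {Q R X Y : ℕ} (hQ : 3 ≤ Q) (hR : 3 ≤ R) (hR3 : ∃ c, R = 3 ^ c)
    (heq : 4 * Q * R = 1 + Q * R + X + Y) (hX : CountOpt 4 R Q X) (hY : CountOpt 4 Q R Y) :
    2 * X = 4 * R * (Q - 1) ∧ 2 * Y = 4 * Q * (R - 1) := by
  obtain ⟨Q', rfl⟩ : ∃ Q', Q = Q' + 1 := ⟨Q - 1, by omega⟩
  obtain ⟨R', rfl⟩ : ∃ R', R = R' + 1 := ⟨R - 1, by omega⟩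
  simp only [Nat.add_sub_cancel] at hX hY ⊢
  unfold CountOpt at hX hY
  simp only [Nat.add_sub_cancel] at hX hY
  rcases hY with hY | ⟨-, hY⟩ | hY
  · rcases hX with hX | ⟨hX, h3⟩ | hX
    · exact ⟨hX, hY⟩
    · exfalso
      obtain ⟨k, rfl⟩ := h3
      obtain ⟨c, hc⟩ := hR3
      rcases Nat.lt_or_ge c 2 with h | h
      · interval_cases c
        · simp at hc; omega
        · obtain rfl : R' = 2 := by simp at hc; omega
          omega
      · obtain ⟨j, hj⟩ : 9 ∣ R' + 1 := hc ▸ (pow_dvd_pow 3 h)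
        rw [hj] at heq hX
        have hY' : 2 * Y + 4 * (3 * k + 1) = 4 * (3 * k + 1) * (9 * j) := by
          rw [hY, ← hj]; ring
        generalize hw : k * j = w
        have e1 : 4 * (3 * k + 1) * (9 * j) = 108 * w + 36 * j := by rw [← hw]; ring
        have e2 : (3 * k + 1) * (9 * j) = 27 * w + 9 * j := by rw [← hw]; ring
        have e3 : 4 * (9 * j) * (3 * k) = 108 * w := by rw [← hw]; ring
        rw [e1] at hY' heq
        rw [e2] at heq
        rw [e3] at hX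
        omega
    · exfalso; nlinarith
  · exfalso
    obtain ⟨c, hc⟩ := hR3
    rcases Nat.eq_zero_or_pos c with rfl | h
    · simp at hc; omega
    · have : 3 ∣ R' + 1 := hc ▸ dvd_pow_self 3 h.ne'
      omega
  · exfalso
    rcases hX with hX | ⟨hX, -⟩ | hX <;> nlinarith

/-- All the counts are the generic ones. -/
theorem both_two {A Q R X Y : ℕ} (hA : A = 4 ∨ 8 ≤ A) (hQ : 3 ≤ Q) (hR : 3 ≤ R)
    (h3 : A = 4 → (∃ c, Q = 3 ^ c) ∨ ∃ c, R = 3 ^ c)
    (heq : A * Q * R = 1 + Q * R + X + Y) (hX : CountOpt A R Q X) (hY : CountOpt A Q R Y) :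
    2 * Q * R + 2 = A * Q + A * R ∧ 2 * X = A * R * (Q - 1) ∧ 2 * Y = A * Q * (R - 1) := by
  have key : 2 * X = A * R * (Q - 1) ∧ 2 * Y = A * Q * (R - 1) := by
    rcases hA with rfl | hA
    · rcases h3 rfl with h | h
      · exact (four_case hR hQ h (by ring_nf at heq ⊢; omega) hY hX).symm
      · exact four_case hQ hR h heq hX hY
    · have bX := hX.bound
      have bY := hY.bound
      have h9 : 9 ≤ Q * R := Nat.mul_le_mul hQ hR
      obtain ⟨Q', rfl⟩ : ∃ Q', Q = Q' + 1 := ⟨Q - 1, by omega⟩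
      obtain ⟨R', rfl⟩ : ∃ R', R = R' + 1 := ⟨R - 1, by omega⟩
      simp only [Nat.add_sub_cancel] at bX bY ⊢
      rcases bX with bX | bX <;> rcases bY with bY | bY
      · exact ⟨bX, bY⟩
      all_goals exfalso; nlinarith [Nat.mul_le_mul_right ((Q' + 1) * (R' + 1)) hA]
  refine ⟨?_, key⟩
  obtain ⟨hX', hY'⟩ := key
  obtain ⟨Q', rfl⟩ : ∃ Q', Q = Q' + 1 := ⟨Q - 1, by omega⟩
  obtain ⟨R', rfl⟩ : ∃ R', R = R' + 1 := ⟨R - 1, by omega⟩
  simp only [Nat.add_sub_cancel] at hX' hY'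
  nlinarith

theorem pow_three_add_one {n b : ℕ} (h : 2 ^ n = 3 ^ b + 1) : n ≤ 2 := by
  have : ∀ b, 3 ^ b % 8 = 1 ∨ 3 ^ b % 8 = 3 := by
    intro b
    induction b with
    | zero => simp
    | succ b ih => rw [pow_succ, Nat.mul_mod]; rcases ih with h | h <;> simp [h]
  by_contra hn
  have h8 : 8 ∣ 2 ^ n := (show (8 : ℕ) = 2 ^ 3 by norm_num) ▸ pow_dvd_pow 2 (by omega)
  rcases this b with h' | h' <;> omega

theorem pow_three_sub_one {n b : ℕ} (h : 2 ^ n + 1 = 3 ^ b) : n ≤ 3 := by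
  rcases Nat.even_or_odd b with ⟨c, rfl⟩ | ⟨c, rfl⟩
  · obtain ⟨u, hu⟩ : ∃ u, 3 ^ c = u + 1 := ⟨3 ^ c - 1, by have := Nat.one_le_pow c 3 (by norm_num); omega⟩
    have hprod : u * (u + 2) = 2 ^ n := by
      rw [pow_add, hu] at h
      nlinarith
    obtain ⟨i, -, hi⟩ := (Nat.dvd_prime_pow Nat.prime_two).1 ⟨_, hprod.symm⟩
    obtain ⟨j, -, hj⟩ := (Nat.dvd_prime_pow Nat.prime_two).1 ⟨u, hprod.symm.trans (mul_comm u _)⟩
    have hu0 : u ≠ 0 := by
      rintro rfl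
      rw [zero_mul] at hprod
      exact pow_ne_zero n two_ne_zero hprod.symm
    have hi2 : i ≤ 1 := by
      by_contra hc
      have h1 : 2 ^ 2 ∣ u := hi ▸ pow_dvd_pow 2 (by omega)
      norm_num at h1
      rcases Nat.lt_or_ge j 2 with h' | h'
      · interval_cases j <;> simp at hj <;> omega
      · have h2 : 2 ^ 2 ∣ u + 2 := hj ▸ pow_dvd_pow 2 h'
        norm_num at h2
        omega
    have hu2 : u ≤ 2 := hi ▸ (Nat.pow_le_pow_right (by norm_num) hi2).trans (by norm_num)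
    have hle : 2 ^ n ≤ 2 ^ 3 := by rw [← hprod]; nlinarith
    exact (Nat.pow_le_pow_iff_right (by norm_num)).1 hle
  · have h4 : 3 ^ (2 * c + 1) % 4 = 3 := by
      rw [pow_succ, pow_mul, Nat.mul_mod, Nat.pow_mod]
      norm_num
    by_contra hn
    have : 2 ^ 2 ∣ 2 ^ n := pow_dvd_pow 2 (by omega)
    rw [show (2 : ℕ) ^ 2 = 4 from rfl] at this
    generalize 3 ^ (2 * c + 1) = z at h h4
    generalize 2 ^ n = w at h this
    omega

/-- The possible orders. -/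
theorem orders {A Q R n q r a b : ℕ} (hn : A = 2 ^ n) (hA4 : 4 ≤ A) (hq : q.Prime) (hr : r.Prime)
    (hQ : Q = q ^ a) (hR : R = r ^ b) (hQ3 : 3 ≤ Q) (hR3 : 3 ≤ R) (hQo : Odd Q)
    (hdvd : A - 1 ∣ Q) (heq : 2 * Q * R + 2 = A * Q + A * R) :
    (A = 4 ∧ Q = 3 ∧ R = 5) ∨ (A = 8 ∧ Q = 7 ∧ R = 9) := by
  obtain ⟨t, rfl⟩ : ∃ t, A = t + 1 := ⟨A - 1, by omega⟩
  simp only [Nat.add_sub_cancel] at hdvd
  obtain ⟨m, rfl⟩ := hdvd
  have hR2 : t ∣ R - 2 := by
    have hi : (R : ℤ) - 2 = (t : ℤ) * (2 * m * R - (t + 1) * m - R) := by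
      have : (2 * (t * m) * R + 2 : ℤ) = (t + 1) * (t * m) + (t + 1) * R := by exact_mod_cast heq
      linarith
    have : (t : ℤ) ∣ ((R - 2 : ℕ) : ℤ) := by
      rw [Nat.cast_sub (by omega)]
      exact ⟨_, hi⟩
    exact_mod_cast this
  have hRt : t + 2 ≤ R := by
    have := Nat.le_of_dvd (by omega) hR2
    omega
  have hm : m = 1 := by
    by_contra hm
    have hm2 : 2 ≤ m := by
      rcases Nat.eq_zero_or_pos m with rfl | h
      · simp at hQ3
      · omega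
    have e : (R : ℤ) * (2 * t * m - t - 1) = t * (t + 1) * m - 2 := by
      have : (2 * (t * m) * R + 2 : ℤ) = (t + 1) * (t * m) + (t + 1) * R := by exact_mod_cast heq
      linarith
    have hR' : (t : ℤ) + 2 ≤ R := by exact_mod_cast hRt
    have hm' : (2 : ℤ) ≤ m := by exact_mod_cast hm2
    have ht : (3 : ℤ) ≤ t := by exact_mod_cast (show 3 ≤ t by omega)
    have hpos : (0 : ℤ) < (t * (t + 3)) * (m - 1) := mul_pos (by nlinarith) (by linarith)
    nlinarith [mul_le_mul_of_nonneg_right hR' (show (0 : ℤ) ≤ 2 * t * m - t - 1 by nlinarith)]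
  subst hm
  rw [mul_one] at hQ heq hQ3 hQo ⊢
  have hR' : R = t + 2 := by
    rcases lt_or_eq_of_le hRt with h | h
    · nlinarith
    · exact h.symm
  subst hR'
  have h3 : 3 ∣ t ∨ 3 ∣ t + 2 := by
    by_contra h
    have : 3 ∣ 2 ^ n := by rw [← hn]; omega
    exact absurd (Nat.prime_three.dvd_of_dvd_pow this) (by norm_num)
  have hn3 : n ≤ 3 := by
    rcases h3 with h | h
    · rw [hQ] at h
      have h3q : q = 3 := ((Nat.prime_dvd_prime_iff_eq Nat.prime_three hq).1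
        (Nat.prime_three.dvd_of_dvd_pow h)).symm
      exact (pow_three_add_one (b := a) (by rw [← h3q, ← hQ, ← hn])).trans (by norm_num)
    · rw [hR] at h
      have h3r : r = 3 := ((Nat.prime_dvd_prime_iff_eq Nat.prime_three hr).1
        (Nat.prime_three.dvd_of_dvd_pow h)).symm
      exact pow_three_sub_one (b := b) (by rw [← h3r, ← hR, ← hn])
  interval_cases n <;> simp at hn <;> omega

end Cfsg.Agent.H75.PrimeOrbit
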