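import Mathlib
import Cfsg.Agent.H26.Invol

/-!
Finite groups in which every non-trivial element has prime order and in which elements of the same
order are carried to each other by automorphisms: Sylow subgroups, centralisers and counting.
-/

set_option autoImplicit false

namespace Cfsg.Agent.H75.PrimeOrbit

open Subgroup

variable {G : Type*} [Group G] [Finite G]

/-- All non-trivial elements of prime order, and one automorphism orbit for each order. -/
structure Hyp (G : Type*) [Group G] : Prop where
  prime : ∀ x : G, x ≠ 1 → (orderOf x).Prime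
  orbit : ∀ x y : G, orderOf x = orderOf y → ∃ φ : MulAut G, φ x = y

theorem centralizer_isPGroup (hG : Hyp G) {p : ℕ} [hp : Fact p.Prime] {x : G} (hx : orderOf x = p) :
    IsPGroup p (centralizer ({x} : Set G)) := by
  refine IsPGroup.iff_orderOf.2 fun y => ?_
  by_cases hy : (y : G) = 1
  · exact ⟨0, by rw [← Subgroup.orderOf_coe, hy, orderOf_one, pow_zero]⟩
  refine ⟨1, ?_⟩
  rw [← Subgroup.orderOf_coe, pow_one]
  by_contra hne
  have hyp := hG.prime _ hy
  have hc : Commute x (y : G) := by
    have := mem_centralizer_singleton_iff.1 y.2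
    exact this.symm
  have hord : orderOf (x * y) = p * orderOf (y : G) := by
    rw [hc.orderOf_mul_eq_mul_orderOf_of_coprime, hx]
    rw [hx]
    exact (Nat.coprime_primes hp.out hyp).2 (Ne.symm hne)
  have h1 : x * y ≠ 1 := fun h => by
    rw [h, orderOf_one] at hord
    exact hp.out.one_lt.ne' (Nat.eq_one_of_mul_eq_one_right hord.symm)
  have := hG.prime _ h1
  rw [hord] at this
  exact Nat.not_prime_mul hp.out.ne_one hyp.ne_one this

/-- A non-trivial element of a `p`-subgroup has order `p`. -/
theorem orderOf_eq (hG : Hyp G) {p : ℕ} [hp : Fact p.Prime] {H : Subgroup G} (hH : IsPGroup p H)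
    {x : G} (hx : x ∈ H) (h1 : x ≠ 1) : orderOf x = p := by
  obtain ⟨k, hk⟩ := IsPGroup.iff_orderOf.1 hH ⟨x, hx⟩
  rw [Subgroup.orderOf_mk] at hk
  have := hG.prime _ h1
  rw [hk] at this ⊢
  rw [Nat.Prime.eq_one_of_pow this, pow_one]

/-- A central element of a Sylow subgroup has that Sylow subgroup as centraliser. -/
theorem centralizer_eq_sylow (hG : Hyp G) {p : ℕ} [Fact p.Prime] (P : Sylow p G) {z : G}
    (hz : z ∈ (P : Subgroup G)) (hc : ∀ y ∈ (P : Subgroup G), y * z = z * y) (h1 : z ≠ 1) :
    centralizer ({z} : Set G) = P :=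
  P.is_maximal' (centralizer_isPGroup hG (orderOf_eq hG P.isPGroup' hz h1))
    fun _ hy => mem_centralizer_singleton_iff.2 (hc _ hy)

/-- Every element of order `p` is central in a Sylow subgroup, its centraliser. -/
theorem exists_sylow_centralizer (hG : Hyp G) {p : ℕ} [hp : Fact p.Prime] {x : G}
    (hx : orderOf x = p) :
    ∃ P : Sylow p G, (P : Subgroup G) = centralizer ({x} : Set G) := by
  obtain ⟨P⟩ := (inferInstance : Nonempty (Sylow p G))
  haveI : Nontrivial (P : Subgroup G) := by
    rw [Subgroup.nontrivial_iff_ne_bot]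
    exact P.ne_bot_of_dvd_card (hx ▸ orderOf_dvd_natCard x)
  haveI : Nontrivial (center (P : Subgroup G)) := P.isPGroup'.center_nontrivial
  obtain ⟨⟨⟨z, hzP⟩, hz⟩, hz1⟩ := exists_ne (1 : center (P : Subgroup G))
  have hz1' : z ≠ 1 := fun h => hz1 (Subtype.ext (Subtype.ext h))
  have hcz : centralizer ({z} : Set G) = P := centralizer_eq_sylow hG P hzP
    (fun y hy => congrArg Subtype.val (Subgroup.mem_center_iff.1 hz ⟨y, hy⟩)) hz1'
  obtain ⟨φ, hφ⟩ := hG.orbit z x ((orderOf_eq hG P.isPGroup' hzP hz1').trans hx.symm)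
  refine ⟨Sylow.ofCard (centralizer ({x} : Set G)) ?_, rfl⟩
  have hmap : centralizer ({x} : Set G) = (centralizer ({z} : Set G)).map φ.toMonoidHom := by
    ext y
    rw [mem_map_equiv, mem_centralizer_singleton_iff, mem_centralizer_singleton_iff, ← hφ,
      ← φ.injective.eq_iff (a := φ.symm y * z), map_mul, map_mul, φ.apply_symm_apply]
  rw [hmap, card_map_of_injective φ.injective, hcz, P.card_eq_multiplicity]

/-- The set of elements of order `p`. -/
noncomputable def elems (G : Type*) [Group G] [Finite G] (p : ℕ) : Finset G :=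
  letI := Fintype.ofFinite G
  Finset.univ.filter fun x => orderOf x = p

theorem mem_elems {p : ℕ} {x : G} : x ∈ elems G p ↔ orderOf x = p := by
  simp [elems]

/-- There are `n_p (|Z(P)| - 1)` elements of order `p`. -/
theorem card_elems (hG : Hyp G) {p : ℕ} [hp : Fact p.Prime] (P : Sylow p G) :
    (elems G p).card = Nat.card (Sylow p G) * (Nat.card (center (P : Subgroup G)) - 1) := by
  classical
  have : Fintype G := Fintype.ofFinite G
  have : Fintype (Sylow p G) := Fintype.ofFinite _
  have hex := fun x : G => fun hx : x ∈ elems G p => exists_sylow_centralizer hG (mem_elems.1 hx)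
  let f : G → Sylow p G := fun x => if hx : x ∈ elems G p then (hex x hx).choose else P
  have hf : ∀ x ∈ elems G p, (f x : Subgroup G) = centralizer ({x} : Set G) := fun x hx => by
    simp only [f, dif_pos hx]
    exact (hex x hx).choose_spec
  rw [Finset.card_eq_sum_card_fiberwise (f := f) (t := Finset.univ) fun _ _ => Finset.mem_univ _]
  have hfib : ∀ Q : Sylow p G, ((elems G p).filter fun x => f x = Q).card =
      Nat.card (center (P : Subgroup G)) - 1 := by
    intro Q
    rw [Nat.card_congr (Subgroup.centerCongr (Sylow.equiv P Q)).toEquiv]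
    have : ((elems G p).filter fun x => f x = Q) =
        ((Finset.univ.erase (1 : center (Q : Subgroup G))).image
          fun x : center (Q : Subgroup G) => ((x : (Q : Subgroup G)) : G)) := by
      ext x
      rw [Finset.mem_filter, Finset.mem_image]
      constructor
      · rintro ⟨hx, hQ⟩
        have hC := hQ ▸ hf x hx
        have hxQ : x ∈ (Q : Subgroup G) := by
          rw [hC]; exact mem_centralizer_singleton_iff.2 rfl
        refine ⟨⟨⟨x, hxQ⟩, Subgroup.mem_center_iff.2 fun y => Subtype.ext ?_⟩,
          Finset.mem_erase.2 ⟨?_, Finset.mem_univ _⟩, rfl⟩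
        · have hy : (y : G) ∈ centralizer ({x} : Set G) := hC ▸ y.2
          exact mem_centralizer_singleton_iff.1 hy
        · intro h
          have : x = 1 := congrArg (fun z : center (Q : Subgroup G) => ((z : (Q : Subgroup G)) : G)) h
          rw [mem_elems, this, orderOf_one] at hx
          exact hp.out.one_lt.ne hx
      · rintro ⟨⟨⟨z, hzQ⟩, hz⟩, hne, rfl⟩
        have hz1 : z ≠ 1 := fun h => (Finset.mem_erase.1 hne).1 (Subtype.ext (Subtype.ext h))
        have hzp : z ∈ elems G p := mem_elems.2 (orderOf_eq hG Q.isPGroup' hzQ hz1)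
        exact ⟨hzp, Sylow.ext ((hf z hzp).trans (centralizer_eq_sylow hG Q hzQ
          (fun y hy => congrArg Subtype.val (Subgroup.mem_center_iff.1 hz ⟨y, hy⟩)) hz1))⟩
    rw [this, Finset.card_image_of_injective _ fun a b h => Subtype.ext (Subtype.ext h),
      Finset.card_erase_of_mem (Finset.mem_univ _), Finset.card_univ,
      Nat.card_eq_fintype_card]
  rw [Finset.sum_congr rfl fun Q _ => hfib Q, Finset.sum_const, smul_eq_mul, Finset.card_univ,
    Nat.card_eq_fintype_card (α := Sylow p G)]

/-- The group is the disjoint union of its elements of the various prime orders. -/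
theorem card_eq (hG : Hyp G) {p q r : ℕ} (hpq : p ≠ q) (hpr : p ≠ r) (hqr : q ≠ r)
    (h : ∀ x : G, x ≠ 1 → orderOf x = p ∨ orderOf x = q ∨ orderOf x = r)
    (hp : p ≠ 1) (hq : q ≠ 1) (hr : r ≠ 1) :
    Nat.card G = 1 + (elems G p).card + (elems G q).card + (elems G r).card := by
  classical
  have : Fintype G := Fintype.ofFinite G
  have hd : ∀ a b : ℕ, a ≠ b → Disjoint (elems G a) (elems G b) := fun a b hab =>
    Finset.disjoint_left.2 fun x hx hx' => hab ((mem_elems.1 hx).symm.trans (mem_elems.1 hx'))
  have hu : (Finset.univ : Finset G) = elems G 1 ∪ elems G p ∪ elems G q ∪ elems G r := by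
    ext x
    simp only [Finset.mem_univ, Finset.mem_union, mem_elems, true_iff]
    by_cases hx : x = 1
    · exact Or.inl (Or.inl (Or.inl (by rw [hx, orderOf_one])))
    · rcases h x hx with h | h | h <;> simp [h]
  have h1 : (elems G 1).card = 1 := by
    rw [Finset.card_eq_one]
    exact ⟨1, by ext x; simp [mem_elems]⟩
  rw [Nat.card_eq_fintype_card, ← Finset.card_univ, hu,
    Finset.card_union_of_disjoint, Finset.card_union_of_disjoint, Finset.card_union_of_disjoint, h1]
  · exact hd 1 p hp.symm
  · exact Finset.disjoint_union_left.2 ⟨hd 1 q hq.symm, hd p q hpq⟩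
  · exact Finset.disjoint_union_left.2
      ⟨Finset.disjoint_union_left.2 ⟨hd 1 r hr.symm, hd p r hpr⟩, hd q r hqr⟩

/-- An element of an abelian Sylow subgroup has that subgroup as centraliser. -/
theorem centralizer_eq_of_comm (hG : Hyp G) {p : ℕ} [Fact p.Prime] (P : Sylow p G)
    (hab : IsMulCommutative (P : Subgroup G)) {x : G} (hx : x ∈ (P : Subgroup G)) (h1 : x ≠ 1) :
    centralizer ({x} : Set G) = P :=
  centralizer_eq_sylow hG P hx
    (fun y hy => congrArg Subtype.val (hab.is_comm.comm ⟨y, hy⟩ ⟨x, hx⟩)) h1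

/-- No simple such group has a self-normalising abelian Sylow subgroup. -/
theorem normalizer_ne_self [IsSimpleGroup G] {p : ℕ} [hp : Fact p.Prime]
    (P : Sylow p G) (hab : IsMulCommutative (P : Subgroup G)) (hdvd : p ∣ Nat.card G)
    (hnot : ¬ IsPGroup p G) :
    normalizer ((P : Subgroup G) : Set G) ≠ P := by
  intro h
  have hle : normalizer ((P : Subgroup G) : Set G) ≤ centralizer ((P : Subgroup G) : Set G) := by
    rw [h]
    intro x hx
    exact mem_centralizer_iff.2 fun y hy => congrArg Subtype.val (hab.is_comm.comm ⟨y, hy⟩ ⟨x, hx⟩)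
  have hc := MonoidHom.ker_transferSylow_isComplement' P hle
  rcases (MonoidHom.normal_ker (MonoidHom.transferSylow P hle)).eq_bot_or_eq_top with hb | ht
  · rw [hb, isComplement'_bot_left] at hc
    exact hnot ((hc ▸ P.isPGroup').of_equiv Subgroup.topEquiv)
  · rw [ht, isComplement'_top_left] at hc
    exact P.ne_bot_of_dvd_card hdvd hc

/-- Conjugate elements of an abelian Sylow subgroup are conjugate in its normaliser. -/
theorem mem_normalizer_of_conj (hG : Hyp G) {p : ℕ} [Fact p.Prime] (P : Sylow p G)
    (hab : IsMulCommutative (P : Subgroup G)) {x : G} (hx : x ∈ (P : Subgroup G)) (h1 : x ≠ 1)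
    {g : G} (hg : g * x * g⁻¹ ∈ (P : Subgroup G)) : g ∈ normalizer ((P : Subgroup G) : Set G) := by
  have hy1 : g * x * g⁻¹ ≠ 1 := fun h => h1 (by simpa using h)
  have e1 := centralizer_eq_of_comm hG P hab hx h1
  have e2 := centralizer_eq_of_comm hG P hab hg hy1
  rw [mem_normalizer_iff]
  intro h
  constructor
  · intro hh
    rw [← e2, mem_centralizer_singleton_iff]
    rw [← e1, mem_centralizer_singleton_iff] at hh
    calc g * h * g⁻¹ * (g * x * g⁻¹) = g * (h * x) * g⁻¹ := by group
      _ = g * (x * h) * g⁻¹ := by rw [hh]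
      _ = _ := by group
  · intro hh
    rw [← e1, mem_centralizer_singleton_iff]
    rw [← e2, mem_centralizer_singleton_iff] at hh
    calc h * x = g⁻¹ * (g * h * g⁻¹ * (g * x * g⁻¹)) * g := by group
      _ = g⁻¹ * (g * x * g⁻¹ * (g * h * g⁻¹)) * g := by rw [hh]
      _ = x * h := by group

/-- An element of prime order `s ≠ p` in the normaliser of an abelian Sylow subgroup moves every
non-trivial element, so `s` divides `|P| - 1`. -/
theorem prime_dvd_sub_one (hG : Hyp G) {p : ℕ} [hp : Fact p.Prime] (P : Sylow p G)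
    (hab : IsMulCommutative (P : Subgroup G)) {s : ℕ} (hs : s.Prime) (hsp : s ≠ p)
    (hdvd : s ∣ Nat.card (normalizer ((P : Subgroup G) : Set G))) :
    s ∣ Nat.card (P : Subgroup G) - 1 := by
  haveI : Fact s.Prime := ⟨hs⟩
  obtain ⟨y, hy⟩ := exists_prime_orderOf_dvd_card' s hdvd
  letI : MulAction (zpowers y) (P : Subgroup G) :=
    { smul := fun a x => ⟨((a : normalizer ((P : Subgroup G) : Set G)) : G) * x *
        ((a : normalizer ((P : Subgroup G) : Set G)) : G)⁻¹,
        ((mem_normalizer_iff.1 (a : normalizer ((P : Subgroup G) : Set G)).2) x).1 x.2⟩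
      one_smul := fun x => Subtype.ext (by show (1 : G) * x * (1 : G)⁻¹ = x; group)
      mul_smul := fun a b x => Subtype.ext (by
        show (((a : normalizer ((P : Subgroup G) : Set G)) : G) * (b : normalizer ((P : Subgroup G) : Set G))) * x *
          (((a : normalizer ((P : Subgroup G) : Set G)) : G) * (b : normalizer ((P : Subgroup G) : Set G)))⁻¹ =
          ((a : normalizer ((P : Subgroup G) : Set G)) : G) * (((b : normalizer ((P : Subgroup G) : Set G)) : G) * x *
          ((b : normalizer ((P : Subgroup G) : Set G)) : G)⁻¹) * ((a : normalizer ((P : Subgroup G) : Set G)) : G)⁻¹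
        group) }
  have hpg : IsPGroup s (zpowers y) := IsPGroup.of_card (n := 1) (by rw [Nat.card_zpowers, hy, pow_one])
  have hfix : MulAction.fixedPoints (zpowers y) (P : Subgroup G) = {1} := by
    ext x
    constructor
    · intro hx
      rw [Set.mem_singleton_iff]
      by_contra hx1
      have hx1' : (x : G) ≠ 1 := fun h => hx1 (Subtype.ext h)
      have h := congrArg Subtype.val (hx ⟨y, mem_zpowers y⟩)
      change (y : G) * x * (y : G)⁻¹ = (x : G) at h
      have hyC : (y : G) ∈ centralizer ({(x : G)} : Set G) := by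
        rw [mem_centralizer_singleton_iff]
        exact mul_inv_eq_iff_eq_mul.1 h
      rw [centralizer_eq_of_comm hG P hab x.2 hx1'] at hyC
      have hy1 : (y : G) ≠ 1 := fun h => hs.one_lt.ne (by
        rw [← hy, ← Subgroup.orderOf_coe, h, orderOf_one])
      exact hsp (((Subgroup.orderOf_coe y).trans hy).symm.trans (orderOf_eq hG P.isPGroup' hyC hy1))
    · intro hx a
      rw [Set.mem_singleton_iff] at hx
      subst hx
      exact Subtype.ext (by show _ * (1 : G) * _ = (1 : G); group)
  have := hpg.card_modEq_card_fixedPoints (P : Subgroup G)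
  rw [hfix, Nat.card_coe_set_eq, Set.ncard_singleton] at this
  exact (Nat.modEq_iff_dvd' Nat.card_pos).1 this.symm

end Cfsg.Agent.H75.PrimeOrbit
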