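import Mathlib
import Cfsg.Agent.H75.PrimeOrbit

/-!
Groups with one orbit on elements of each prime order: the Sylow 2-subgroup and its normaliser.
-/

set_option autoImplicit false

namespace Cfsg.Agent.H75.PrimeOrbit

open Subgroup

variable {G : Type*} [Group G] [Finite G]

instance fact_two : Fact (Nat.Prime 2) := ⟨Nat.prime_two⟩

theorem two_comm (hG : Hyp G) (S : Sylow 2 G) : IsMulCommutative (S : Subgroup G) := by
  have h2 : ∀ a : (S : Subgroup G), a * a = 1 := by
    intro a
    by_cases ha : (a : G) = 1
    · exact Subtype.ext (by simp [ha])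
    · have := pow_orderOf_eq_one (a : G)
      rw [orderOf_eq hG S.isPGroup' a.2 ha, pow_two] at this
      exact Subtype.ext this
  refine ⟨⟨fun a b => ?_⟩⟩
  calc a * b = (b * b) * (a * b) * (a * a) := by rw [h2, h2, one_mul, mul_one]
    _ = b * ((b * a) * (b * a)) * a := by group
    _ = b * a := by rw [h2, mul_one]

theorem mem_sylow_of_mem_normalizer (hG : Hyp G) {p : ℕ} [Fact p.Prime] (P : Sylow p G) {y : G}
    (hy : y ∈ normalizer ((P : Subgroup G) : Set G)) (ho : orderOf y = p) : y ∈ (P : Subgroup G) := by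
  have hpy : IsPGroup p (zpowers y) := IsPGroup.of_card (n := 1) (by rw [Nat.card_zpowers, ho, pow_one])
  have h := IsPGroup.to_sup_of_normal_right' hpy P.isPGroup' (zpowers_le.2 hy)
  rw [← P.is_maximal' h le_sup_right]
  exact mem_sup_left (mem_zpowers y)

/-- All involutions are conjugate. -/
theorem isConj_involutions [IsSimpleGroup G] (hG : Hyp G) (hnc : ∃ a b : G, a * b ≠ b * a) {i j : G}
    (hi : orderOf i = 2) (hj : orderOf j = 2) : IsConj i j := by
  by_contra hij
  have hsq : ∀ x : G, orderOf x = 2 → x * x = 1 := fun x hx => by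
    have := pow_orderOf_eq_one x
    rwa [hx, pow_two] at this
  have hcomm : ∀ a b : G, IsConj i a → IsConj j b → a * b = b * a := by
    intro a b ha hb
    have hao : orderOf a = 2 := by obtain ⟨c, rfl⟩ := isConj_iff.1 ha; rw [← hi]; exact (MulAut.conj c).orderOf_eq i
    have hbo : orderOf b = 2 := by obtain ⟨c, rfl⟩ := isConj_iff.1 hb; rw [← hj]; exact (MulAut.conj c).orderOf_eq j
    have hev := Cfsg.Agent.H26.even_orderOf_of_not_isConj (hsq a hao) (hsq b hbo)
      (fun h => hij ((ha.trans h).trans hb.symm))
    have hne : a * b ≠ 1 := fun h => by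
      rw [h, orderOf_one] at hev
      exact absurd hev (by decide)
    have h2 : orderOf (a * b) = 2 :=
      ((Nat.prime_dvd_prime_iff_eq Nat.prime_two (hG.prime _ hne)).1 (even_iff_two_dvd.1 hev)).symm
    have := hsq _ h2
    calc a * b = a * b * (a * b) * (b⁻¹ * a⁻¹) := by group
      _ = b⁻¹ * a⁻¹ := by rw [this, one_mul]
      _ = b * a := by
        rw [inv_eq_of_mul_eq_one_right (hsq a hao), inv_eq_of_mul_eq_one_right (hsq b hbo)]
  have hle : normalClosure ({i} : Set G) ≤ centralizer ({j} : Set G) := by
    refine (closure_le _).2 fun y hy => ?_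
    obtain ⟨c, hc, hcy⟩ := Group.mem_conjugatesOfSet_iff.1 hy
    rw [Set.mem_singleton_iff] at hc
    rw [hc] at hcy
    exact mem_centralizer_singleton_iff.2 (hcomm y j hcy (IsConj.refl j))
  have hi1 : i ≠ 1 := fun h => by rw [h, orderOf_one] at hi; omega
  rcases (normalClosure_normal (s := ({i} : Set G))).eq_bot_or_eq_top with h | h
  · exact hi1 (mem_bot.1 (h ▸ subset_normalClosure rfl))
  · have hj' : j ∈ center G := Subgroup.mem_center_iff.2 fun y =>
      mem_centralizer_singleton_iff.1 (hle (h ▸ mem_top y))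
    rcases (inferInstance : (center G).Normal).eq_bot_or_eq_top with hb | ht
    · rw [hb, mem_bot] at hj'
      rw [hj', orderOf_one] at hj
      omega
    · obtain ⟨a, b, hab⟩ := hnc
      exact hab ((Subgroup.mem_center_iff.1 (ht ▸ mem_top b) a))

/-- The normaliser of a Sylow 2-subgroup is transitive on its involutions. -/
theorem card_normalizer_two [IsSimpleGroup G] (hG : Hyp G) (hnc : ∃ a b : G, a * b ≠ b * a)
    (S : Sylow 2 G) (hdvd : 2 ∣ Nat.card G) :
    Nat.card (normalizer ((S : Subgroup G) : Set G)) =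
      Nat.card (S : Subgroup G) * (Nat.card (S : Subgroup G) - 1) := by
  classical
  have : Fintype (S : Subgroup G) := Fintype.ofFinite _
  set N := normalizer ((S : Subgroup G) : Set G) with hN
  haveI : Nontrivial (S : Subgroup G) := (Subgroup.nontrivial_iff_ne_bot _).2 (S.ne_bot_of_dvd_card hdvd)
  obtain ⟨x, hx⟩ := exists_ne (1 : (S : Subgroup G))
  have hx1 : (x : G) ≠ 1 := fun h => hx (Subtype.ext h)
  have hCx := centralizer_eq_of_comm hG S (two_comm hG S) x.2 hx1
  let f : N ⧸ (S : Subgroup G).subgroupOf N → {z : (S : Subgroup G) // z ≠ 1} := fun c =>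
    Quotient.liftOn' c (fun n : N => ⟨⟨(n : G) * x * (n : G)⁻¹, ((mem_normalizer_iff.1 n.2) x).1 x.2⟩,
      fun h => hx1 (by simpa using congrArg Subtype.val h)⟩) fun a b hab => by
        have h := QuotientGroup.leftRel_apply.1 hab
        rw [mem_subgroupOf, ← hCx, mem_centralizer_singleton_iff] at h
        push_cast at h
        apply Subtype.ext; apply Subtype.ext
        show (a : G) * x * (a : G)⁻¹ = (b : G) * x * (b : G)⁻¹
        calc (a : G) * x * (a : G)⁻¹ = a * ((x : G) * ((a : G)⁻¹ * b)) * (b : G)⁻¹ := by group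
          _ = a * (((a : G)⁻¹ * b) * x) * (b : G)⁻¹ := by rw [h]
          _ = _ := by group
  have hf : Function.Bijective f := by
    constructor
    · intro c d
      induction c using QuotientGroup.induction_on with
      | H a =>
      induction d using QuotientGroup.induction_on with
      | H b =>
      intro h
      have h' : (a : G) * x * (a : G)⁻¹ = (b : G) * x * (b : G)⁻¹ :=
        congrArg (fun z : {z : (S : Subgroup G) // z ≠ 1} => ((z : (S : Subgroup G)) : G)) h
      rw [QuotientGroup.eq, mem_subgroupOf, ← hCx, mem_centralizer_singleton_iff]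
      push_cast
      calc (a : G)⁻¹ * b * x = (a : G)⁻¹ * ((b : G) * x * (b : G)⁻¹) * b := by group
        _ = (a : G)⁻¹ * ((a : G) * x * (a : G)⁻¹) * b := by rw [h']
        _ = x * ((a : G)⁻¹ * b) := by group
    · rintro ⟨⟨z, hz⟩, hz1⟩
      have hz1' : z ≠ 1 := fun h => hz1 (Subtype.ext h)
      obtain ⟨g, hg⟩ := isConj_iff.1 (isConj_involutions hG hnc
        (orderOf_eq hG S.isPGroup' x.2 hx1) (orderOf_eq hG S.isPGroup' hz hz1'))
      have hgN : g ∈ N := mem_normalizer_of_conj hG S (two_comm hG S) x.2 hx1 (hg ▸ hz)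
      exact ⟨QuotientGroup.mk (⟨g, hgN⟩ : N), Subtype.ext (Subtype.ext hg)⟩
  have hc := Nat.card_eq_of_bijective f hf
  have hne : Nat.card {z : (S : Subgroup G) // z ≠ 1} = Nat.card (S : Subgroup G) - 1 := by
    rw [Nat.card_eq_fintype_card, Fintype.card_subtype, Finset.filter_ne',
      Finset.card_erase_of_mem (Finset.mem_univ _), Finset.card_univ, Nat.card_eq_fintype_card]
  have hsub : Nat.card ((S : Subgroup G).subgroupOf N) = Nat.card (S : Subgroup G) :=
    Nat.card_congr (subgroupOfEquivOfLe le_normalizer).toEquiv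
  rw [← ((S : Subgroup G).subgroupOf N).card_mul_index, hsub]
  exact congrArg _ (hc.trans hne)

/-- The case of order 504 does not occur: some element would have order 9. -/
theorem card_ne_504 (hG : Hyp G) (hord : ∀ x : G, x ≠ 1 → orderOf x = 2 ∨ orderOf x = 3 ∨ orderOf x = 7)
    (S : Sylow 2 G) (hS : Nat.card (S : Subgroup G) = 8) (hns : ¬ (S : Subgroup G).Normal)
    (hN : (normalizer ((S : Subgroup G) : Set G)).index = 9) : False := by
  classical
  have hab := two_comm hG S
  set N := normalizer ((S : Subgroup G) : Set G) with hNdef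
  have : Fintype G := Fintype.ofFinite G
  have : Fintype (G ⧸ N) := Fintype.ofFinite _
  have : Fintype (S : Subgroup G) := Fintype.ofFinite _
  let o : G ⧸ N := QuotientGroup.mk 1
  have hfix : ∀ g : G, g • o = o ↔ g ∈ N := fun g => by
    rw [show g • o = QuotientGroup.mk (g * 1) from rfl, mul_one, QuotientGroup.eq, mul_one, inv_mem_iff]
  -- an involution fixes at most one point
  have huniq : ∀ x : G, orderOf x = 2 → ∀ a b : G ⧸ N, x • a = a → x • b = b → a = b := by
    intro x hx a b
    induction a using QuotientGroup.induction_on with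
    | H g =>
    induction b using QuotientGroup.induction_on with
    | H h =>
    intro ha hb
    have hmem : ∀ g : G, x • (QuotientGroup.mk g : G ⧸ N) = QuotientGroup.mk g →
        g⁻¹ * x * g ∈ (S : Subgroup G) := fun g hg => by
      have h1 : g⁻¹ * x * g ∈ N := by
        rw [show x • (QuotientGroup.mk g : G ⧸ N) = QuotientGroup.mk (x * g) from rfl, QuotientGroup.eq] at hg
        have := inv_mem hg
        simpa [mul_assoc] using this
      refine mem_sylow_of_mem_normalizer hG S h1 ?_
      rw [← hx]
      simpa using (MulAut.conj g⁻¹).orderOf_eq x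
    have h1 := hmem g ha
    have h2 := hmem h hb
    rw [QuotientGroup.eq]
    have hne : g⁻¹ * x * g ≠ 1 := fun e => by
      have : x = 1 := by
        calc x = g * (g⁻¹ * x * g) * g⁻¹ := by group
          _ = 1 := by rw [e]; group
      rw [this, orderOf_one] at hx
      omega
    have := mem_normalizer_of_conj hG S hab h1 hne (g := h⁻¹ * g) (by
      rwa [show h⁻¹ * g * (g⁻¹ * x * g) * (h⁻¹ * g)⁻¹ = h⁻¹ * x * h by group])
    have := inv_mem this
    simpa [hNdef, mul_assoc] using this
  -- an involution outside N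
  obtain ⟨t, ht, htN⟩ : ∃ t : G, orderOf t = 2 ∧ t ∉ N := by
    by_contra hall
    push Not at hall
    refine hns ⟨fun s hs g => ?_⟩
    by_cases h1 : s = 1
    · simp [h1]
    have ho : orderOf (g * s * g⁻¹) = 2 :=
      ((MulAut.conj g).orderOf_eq s).trans (orderOf_eq hG S.isPGroup' hs h1)
    exact mem_sylow_of_mem_normalizer hG S (hall _ ho) ho
  have ht2 : t * t = 1 := by rw [← pow_two, ← ht, pow_orderOf_eq_one]
  set z := t • o with hz
  have hzo : z ≠ o := fun h => htN ((hfix t).1 h)
  have htz : t • z = o := by rw [hz, smul_smul, ht2, one_smul]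
  -- `S` is regular on the other points
  have hSo : ∀ s ∈ (S : Subgroup G), s • o = o := fun s hs => (hfix s).2 (le_normalizer hs)
  have hfree : ∀ s ∈ (S : Subgroup G), ∀ a, a ≠ o → s • a = a → s = 1 := by
    intro s hs a ha hsa
    by_contra h1
    exact ha (huniq s (orderOf_eq hG S.isPGroup' hs h1) a o hsa (hSo s hs))
  have hinj : Function.Injective fun s : (S : Subgroup G) => (s : G) • z := by
    intro a b h
    have h' : ((b⁻¹ * a : (S : Subgroup G)) : G) • z = z := by
      push_cast
      rw [mul_smul, show (a : G) • z = (b : G) • z from h, inv_smul_smul]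
    have := hfree _ (b⁻¹ * a).2 z hzo h'
    exact (inv_mul_eq_one.1 (Subtype.ext this : b⁻¹ * a = 1)).symm
  have himg : (Finset.univ.image fun s : (S : Subgroup G) => (s : G) • z) = Finset.univ.erase o := by
    refine Finset.eq_of_subset_of_card_le (fun y hy => ?_) ?_
    · obtain ⟨s, -, rfl⟩ := Finset.mem_image.1 hy
      refine Finset.mem_erase.2 ⟨fun h => hzo ?_, Finset.mem_univ _⟩
      rw [← inv_smul_smul (s : G) z, h]
      exact hSo _ (inv_mem s.2)
    · rw [Finset.card_erase_of_mem (Finset.mem_univ _), Finset.card_univ,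
        Finset.card_image_of_injective _ hinj, Finset.card_univ, ← Nat.card_eq_fintype_card,
        ← Nat.card_eq_fintype_card, ← index_eq_card, hN, hS]
  have hσ : ∀ y : G ⧸ N, y ≠ o → ∃ s : (S : Subgroup G), (s : G) • z = y := fun y hy => by
    have : y ∈ Finset.univ.image fun s : (S : Subgroup G) => (s : G) • z :=
      himg ▸ Finset.mem_erase.2 ⟨hy, Finset.mem_univ _⟩
    obtain ⟨s, -, hs⟩ := Finset.mem_image.1 this
    exact ⟨s, hs⟩
  let σ : G ⧸ N → (S : Subgroup G) := fun y => if hy : y ≠ o then (hσ y hy).choose else 1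
  have hσs : ∀ y, y ≠ o → (σ y : G) • z = y := fun y hy => by
    simp only [σ, dif_pos hy]
    exact (hσ y hy).choose_spec
  -- the fixed point of t
  obtain ⟨w, hw⟩ : ∃ w : G ⧸ N, t • w = w := by
    have hpg : IsPGroup 2 (zpowers t) := IsPGroup.of_card (n := 1) (by rw [Nat.card_zpowers, ht, pow_one])
    obtain ⟨w, hw⟩ := hpg.nonempty_fixed_point_of_prime_not_dvd_card (G ⧸ N)
      (by rw [← index_eq_card, hN]; decide)
    exact ⟨w, hw ⟨t, mem_zpowers t⟩⟩
  let F : G ⧸ N → (S : Subgroup G) := fun y => σ y * σ (t • y)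
  let W : Finset (G ⧸ N) := ((Finset.univ.erase o).erase z).erase w
  have hW : W.card ≤ 6 := by
    have hwo : w ≠ o := fun h => hzo (by rw [hz, ← h, hw])
    have hwz : w ≠ z := fun h => hwo (hw.symm.trans (by rw [h, htz]))
    rw [Finset.card_erase_of_mem (Finset.mem_erase.2 ⟨hwz, Finset.mem_erase.2 ⟨hwo, Finset.mem_univ _⟩⟩),
      Finset.card_erase_of_mem (Finset.mem_erase.2 ⟨hzo, Finset.mem_univ _⟩),
      Finset.card_erase_of_mem (Finset.mem_univ _), Finset.card_univ, ← Nat.card_eq_fintype_card,
      ← index_eq_card, hN]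
  have hcov : ((Finset.univ.erase (1 : (S : Subgroup G))).erase (σ w)) ⊆ W.image F := by
    intro s hs
    simp only [Finset.mem_erase, Finset.mem_univ, and_true] at hs
    have hs1 : (s : G) ≠ 1 := fun h => hs.2 (Subtype.ext h)
    set u := (s : G) * t with hu
    have hu1 : u ≠ 1 := fun h => htN (by
      rw [eq_inv_of_mul_eq_one_right h]; exact inv_mem (le_normalizer s.2))
    have hss : (s : G) * s = 1 := by
      have := pow_orderOf_eq_one (s : G)
      rwa [orderOf_eq hG S.isPGroup' s.2 hs1, pow_two] at this
    have huo : u • o = (s : G) • z := by rw [hu, mul_smul]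
    rcases hord u hu1 with h2 | h3 | h7
    · exfalso
      have hc : t ∈ centralizer ({(s : G)} : Set G) := by
        rw [mem_centralizer_singleton_iff]
        have : u * u = 1 := by rw [← pow_two, ← h2, pow_orderOf_eq_one]
        calc t * s = (s : G) * s * t * s * (t * t) := by rw [hss, ht2, one_mul, mul_one]
          _ = (s : G) * (u * u) * t := by rw [hu]; group
          _ = _ := by rw [this, mul_one]
      rw [centralizer_eq_of_comm hG S hab s.2 hs1] at hc
      exact htN (le_normalizer hc)
    · exfalso
      have hu3 : u * u * u = 1 := by rw [← pow_three', ← h3, pow_orderOf_eq_one]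
      have h2o : u • (u • o) = z := by
        rw [smul_smul, eq_inv_of_mul_eq_one_left hu3, hu, mul_inv_rev, mul_smul,
          hSo _ (inv_mem s.2), inv_eq_of_mul_eq_one_right ht2]
      rw [huo, hu, mul_smul] at h2o
      have hfixw : t • ((s : G) • z) = (s : G) • z := by
        have := congrArg ((s : G) • ·) h2o
        rwa [smul_smul, hss, one_smul] at this
      have e := huniq t ht _ _ hfixw hw
      have hwo : w ≠ o := fun h => hzo (by rw [hz, ← h, hw])
      exact hs.1 (hinj (e.trans (hσs w hwo).symm))
    · obtain ⟨y, hy⟩ : ∃ y : G ⧸ N, u • y = y := by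
        haveI : Fact (Nat.Prime 7) := ⟨by norm_num⟩
        have hpg : IsPGroup 7 (zpowers u) := IsPGroup.of_card (n := 1) (by rw [Nat.card_zpowers, h7, pow_one])
        obtain ⟨y, hy⟩ := hpg.nonempty_fixed_point_of_prime_not_dvd_card (G ⧸ N)
          (by rw [← index_eq_card, hN]; decide)
        exact ⟨y, hy ⟨u, mem_zpowers u⟩⟩
      rw [hu, mul_smul] at hy
      have hyo : y ≠ o := by
        intro h
        rw [h, ← hz] at hy
        exact hzo (by rw [← inv_smul_smul (s : G) z, hy]; exact hSo _ (inv_mem s.2))
      have hyz : y ≠ z := by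
        intro h
        rw [h, htz, hSo _ s.2] at hy
        exact hzo hy.symm
      have hto : t • y ≠ o := fun h => hyz (by
        rw [hz, ← h, smul_smul, ht2, one_smul])
      have hyw : y ≠ w := fun h => hs1 (by
        rw [h, hw] at hy
        exact hfree _ s.2 w (h ▸ hyo) hy)
      refine Finset.mem_image.2 ⟨y, by simp [W, hyo, hyz, hyw], ?_⟩
      have h1 : s * σ (t • y) = σ y := hinj (by
        show ((s * σ (t • y) : (S : Subgroup G)) : G) • z = (σ y : G) • z
        push_cast
        rw [mul_smul, hσs _ hto, hy, hσs _ hyo])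
      show σ y * σ (t • y) = s
      have hsq : σ (t • y) * σ (t • y) = 1 := by
        apply Subtype.ext
        by_cases h : (σ (t • y) : G) = 1
        · simp [h]
        · push_cast
          have := pow_orderOf_eq_one (σ (t • y) : G)
          rwa [orderOf_eq hG S.isPGroup' (σ (t • y)).2 h, pow_two] at this
      rw [← h1, mul_assoc, hsq, mul_one]
  have hfib : ∀ v ∈ W.image F, 2 ≤ (W.filter fun y => F y = v).card := by
    intro v hv
    obtain ⟨y, hy, rfl⟩ := Finset.mem_image.1 hv
    simp only [W, Finset.mem_erase, Finset.mem_univ, and_true] at hy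
    obtain ⟨hyw, hyz, hyo⟩ := hy
    have hne : t • y ≠ y := fun h => hyw (huniq t ht y w h hw)
    refine (Finset.card_pair hne).ge.trans ?_
    refine Finset.card_le_card fun c hc => ?_
    simp only [Finset.mem_insert, Finset.mem_singleton] at hc
    have hinv : t • t • y = y := by rw [smul_smul, ht2, one_smul]
    rcases hc with rfl | rfl
    · simp only [W, Finset.mem_filter, Finset.mem_erase, Finset.mem_univ, and_true, F, hinv]
      refine ⟨⟨fun h => hyw ?_, fun h => hyo ?_, fun h => hyz ?_⟩, hab.is_comm.comm _ _⟩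
      · rw [← hinv, h, hw]
      · rw [← hinv, h, htz]
      · rw [← hinv, h]
    · simp [W, F, hyo, hyz, hyw]
  have hsum := Finset.card_eq_sum_card_image F W
  have h2 := Finset.card_nsmul_le_sum (W.image F) (fun v => (W.filter fun y => F y = v).card) 2 hfib
  have h6 : 6 ≤ (W.image F).card := by
    refine le_trans ?_ (Finset.card_le_card hcov)
    have := Finset.pred_card_le_card_erase (a := σ w) (s := Finset.univ.erase (1 : (S : Subgroup G)))
    rw [Finset.card_erase_of_mem (Finset.mem_univ _), Finset.card_univ, ← Nat.card_eq_fintype_card,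
      hS] at this
    omega
  rw [smul_eq_mul] at h2
  omega

end Cfsg.Agent.H75.PrimeOrbit
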