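import Mathlib
import Cfsg.Agent.H75.PrimeOrbit
import Cfsg.Agent.H75.PrimeOrbitTwo

/-!
Groups with one orbit on elements of each prime order: bounds on the numbers of elements, and the
order of a complement in the normaliser of a Sylow 2-subgroup.
-/

set_option autoImplicit false

namespace Cfsg.Agent.H75.PrimeOrbit

open Subgroup

variable {G : Type*} [Group G] [Finite G]

/-- The alternatives for a prime `p`: either the Sylow subgroup is abelian, `e = |N(P) : P| ≥ 2`, and
there are `|G : P| (|P| - 1) / e` elements of order `p`; or there are at most `|G| / 9` of them. -/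
theorem elems_cases [IsSimpleGroup G] (hG : Hyp G) {p : ℕ} [hp : Fact p.Prime]
    (P : Sylow p G) (hdvd : p ∣ Nat.card G) (hnot : ¬ IsPGroup p G) :
    (∃ e, 2 ≤ e ∧ IsMulCommutative (P : Subgroup G) ∧
        Nat.card (normalizer ((P : Subgroup G) : Set G)) = Nat.card (P : Subgroup G) * e ∧
        e * (elems G p).card = (P : Subgroup G).index * (Nat.card (P : Subgroup G) - 1) ∧
        e ∣ Nat.card G ∧ ∀ s : ℕ, s.Prime → s ∣ e → s ≠ p ∧ s ∣ Nat.card (P : Subgroup G) - 1) ∨
      (p ≠ 2 ∧ p ^ 2 * (elems G p).card ≤ Nat.card G) := by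
  classical
  set N := normalizer ((P : Subgroup G) : Set G) with hN
  have hcard := card_elems hG P
  have hidx : Nat.card (Sylow p G) * Nat.card N = Nat.card G := by
    rw [P.card_eq_index_normalizer]; exact (normalizer _).index_mul_card
  have hle : (P : Subgroup G) ≤ N := le_normalizer
  obtain ⟨e, he⟩ := card_dvd_of_le hle
  by_cases hab : IsMulCommutative (P : Subgroup G)
  · left
    have hz : center (P : Subgroup G) = ⊤ := by
      rw [eq_top_iff]
      exact fun x _ => Subgroup.mem_center_iff.2 fun y => hab.is_comm.comm y x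
    rw [hz, card_top] at hcard
    have hI : Nat.card (Sylow p G) * e = (P : Subgroup G).index := by
      refine Nat.eq_of_mul_eq_mul_left (Nat.card_pos (α := (P : Subgroup G))) ?_
      rw [(P : Subgroup G).card_mul_index, ← hidx, he]
      ring
    have hsP : ∀ s : ℕ, s.Prime → s ∣ e → s ≠ p ∧ s ∣ Nat.card (P : Subgroup G) - 1 := by
      intro s hs hse
      have hsp : s ≠ p := by
        rintro rfl
        exact P.not_dvd_index (hI ▸ hse.mul_left _)
      exact ⟨hsp, prime_dvd_sub_one hG P hab hs hsp (he ▸ hse.mul_left _)⟩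
    refine ⟨e, ?_, hab, he, ?_, ?_, hsP⟩
    · by_contra hlt
      have hP1 : 0 < Nat.card N := Nat.card_pos
      have he1 : e = 1 := by
        rcases Nat.eq_zero_or_pos e with rfl | h
        · rw [mul_zero] at he; omega
        · omega
      rw [he1, mul_one] at he
      exact normalizer_ne_self P hab hdvd hnot (eq_of_le_of_card_ge hle he.le).symm
    · rw [hcard, ← hI]; ring
    · exact ⟨Nat.card (P : Subgroup G) * Nat.card (Sylow p G), by rw [← hidx, he]; ring⟩
  · right
    refine ⟨?_, ?_⟩
    · rintro rfl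
      exact hab (two_comm hG P)
    have hz : p ^ 2 * Nat.card (center (P : Subgroup G)) ≤ Nat.card (P : Subgroup G) := by
      rw [← (center (P : Subgroup G)).index_mul_card]
      refine Nat.mul_le_mul_right _ ?_
      obtain ⟨k, hk⟩ := IsPGroup.index P.isPGroup' (center (P : Subgroup G))
      rcases Nat.lt_or_ge k 2 with h | h
      · exfalso
        apply hab
        haveI : IsCyclic ((P : Subgroup G) ⧸ center (P : Subgroup G)) := by
          interval_cases k
          · rw [pow_zero, index_eq_card] at hk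
            haveI := (Nat.card_eq_one_iff_unique.1 hk).1
            infer_instance
          · rw [pow_one, index_eq_card] at hk
            exact isCyclic_of_prime_card hk
        exact isMulCommutative_of_isCyclic_quotient_center_self _
      · rw [hk]
        exact Nat.pow_le_pow_right hp.out.pos h
    calc p ^ 2 * (elems G p).card
        ≤ p ^ 2 * (Nat.card (Sylow p G) * Nat.card (center (P : Subgroup G))) := by
          rw [hcard]; exact Nat.mul_le_mul_left _ (Nat.mul_le_mul_left _ (Nat.sub_le _ _))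
      _ = Nat.card (Sylow p G) * (p ^ 2 * Nat.card (center (P : Subgroup G))) := by ring
      _ ≤ Nat.card (Sylow p G) * Nat.card (P : Subgroup G) := Nat.mul_le_mul_left _ hz
      _ ≤ Nat.card (Sylow p G) * Nat.card N := Nat.mul_le_mul_left _ (card_le_of_le hle)
      _ = Nat.card G := hidx

/-- A Sylow subgroup for an odd prime in the normaliser of a Sylow 2-subgroup is its own
normaliser there, when the ambient normaliser has order twice a power of the prime. -/
theorem index_mul_sub_one_le (hG : Hyp G) (S : Sylow 2 G) {q : ℕ} [hq : Fact q.Prime] (hq2 : q ≠ 2)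
    (hN : ∀ Q : Sylow q G, IsMulCommutative (Q : Subgroup G) ∧
      ∃ a, Nat.card (normalizer ((Q : Subgroup G) : Set G)) = q ^ a * 2)
    {K : Subgroup G} (hK : K ≤ normalizer ((S : Subgroup G) : Set G)) (M : Sylow q K)
    (hM : (M : Subgroup K) ≠ ⊥) :
    (M : Subgroup K).index * (Nat.card (M : Subgroup K) - 1) ≤
      Nat.card {y : K // orderOf y = q} := by
  classical
  have : Fintype K := Fintype.ofFinite _
  have : Fintype (Sylow q K) := Fintype.ofFinite _
  have hint : ∀ M₁ M₂ : Sylow q K, ∀ m : K, m ∈ (M₁ : Subgroup K) → m ∈ (M₂ : Subgroup K) → m ≠ 1 →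
      M₁ = M₂ := by
    intro M₁ M₂ m h1 h2 hm
    have hm' : (m : G) ≠ 1 := fun h => hm (Subtype.ext h)
    have hmo : orderOf (m : G) = q := orderOf_eq hG (M₁.isPGroup'.map K.subtype) (mem_map_of_mem _ h1) hm'
    obtain ⟨Q, hQ⟩ := exists_sylow_centralizer hG hmo
    have key : ∀ M' : Sylow q K, m ∈ (M' : Subgroup K) →
        (centralizer ({(m : G)} : Set G)).subgroupOf K = M' := by
      intro M' hm'
      refine M'.is_maximal' (by rw [← hQ]; exact Q.isPGroup'.comap_subtype) fun x hx => ?_
      obtain ⟨Q', hQ'⟩ := (M'.isPGroup'.map K.subtype).exists_le_sylow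
      rw [mem_subgroupOf, mem_centralizer_singleton_iff]
      exact congrArg Subtype.val ((hN Q').1.is_comm.comm ⟨x, hQ' (mem_map_of_mem _ hx)⟩
        ⟨m, hQ' (mem_map_of_mem _ hm')⟩)
    exact Sylow.ext ((key M₁ h1).symm.trans (key M₂ h2))
  -- self-normalising
  have hself : normalizer ((M : Subgroup K) : Set K) = M := by
    haveI : Nontrivial (M : Subgroup K) := (Subgroup.nontrivial_iff_ne_bot _).2 hM
    obtain ⟨⟨m, hmM⟩, hm⟩ := exists_ne (1 : (M : Subgroup K))
    have hm1 : (m : G) ≠ 1 := fun h => hm (Subtype.ext (Subtype.ext h))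
    obtain ⟨Q, hQ⟩ := (M.isPGroup'.map K.subtype).exists_le_sylow
    obtain ⟨hQab, a, ha⟩ := hN Q
    have hmQ : (m : G) ∈ (Q : Subgroup G) := hQ (mem_map_of_mem _ hmM)
    refine M.is_maximal' (IsPGroup.iff_orderOf.2 fun y => ?_) le_normalizer
    by_cases hy1 : ((y : K) : G) = 1
    · exact ⟨0, by rw [← Subgroup.orderOf_coe, ← Subgroup.orderOf_coe, hy1, orderOf_one, pow_zero]⟩
    refine ⟨1, ?_⟩
    rw [← Subgroup.orderOf_coe, ← Subgroup.orderOf_coe, pow_one]
    have hym : ((y : K) : G) * m * ((y : K) : G)⁻¹ ∈ (Q : Subgroup G) :=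
      hQ ⟨_, ((mem_normalizer_iff.1 y.2) m).1 hmM, rfl⟩
    have hyN := mem_normalizer_of_conj hG Q hQab hmQ hm1 hym
    have hdvd := orderOf_dvd_natCard (⟨_, hyN⟩ : normalizer ((Q : Subgroup G) : Set G))
    rw [Subgroup.orderOf_mk, ha] at hdvd
    have hyp := hG.prime _ hy1
    rcases (Nat.Prime.dvd_mul hyp).1 hdvd with h | h
    · exact (Nat.prime_dvd_prime_iff_eq hyp hq.out).1 (hyp.dvd_of_dvd_pow h)
    · exfalso
      have hy2 : orderOf ((y : K) : G) = 2 := (Nat.prime_dvd_prime_iff_eq hyp Nat.prime_two).1 h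
      have hyS := mem_sylow_of_mem_normalizer hG S (hK (y : K).2) hy2
      -- the commutator with m lies in S and in the q-group
      have h1 : (m : G) * (y : K) * (m : G)⁻¹ * ((y : K) : G)⁻¹ ∈ (S : Subgroup G) :=
        mul_mem (((mem_normalizer_iff.1 (hK m.2)) _).1 hyS) (inv_mem hyS)
      have h2 : (m : G) * (y : K) * (m : G)⁻¹ * ((y : K) : G)⁻¹ ∈ (Q : Subgroup G) := by
        have := (mul_mem hmQ (inv_mem hym))
        simpa [mul_assoc] using this
      have h3 : (m : G) * (y : K) * (m : G)⁻¹ * ((y : K) : G)⁻¹ = 1 := by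
        by_contra hne
        have e1 := orderOf_eq hG S.isPGroup' h1 hne
        have e2 := orderOf_eq hG Q.isPGroup' h2 hne
        exact hq2 (e2.symm.trans e1)
      have h4 : ((y : K) : G) ∈ centralizer ({(m : G)} : Set G) := by
        rw [mem_centralizer_singleton_iff]
        calc ((y : K) : G) * m = (m : G) * (y : K) * (m : G)⁻¹ * ((y : K) : G)⁻¹ * ((y : K) * m) := by
              rw [h3, one_mul]
          _ = _ := by group
      rw [centralizer_eq_of_comm hG Q hQab hmQ hm1] at h4
      exact hq2 ((orderOf_eq hG Q.isPGroup' h4 hy1).symm.trans hy2)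
  have hn : Fintype.card (Sylow q K) = (M : Subgroup K).index := by
    rw [← Nat.card_eq_fintype_card, M.card_eq_index_normalizer]
    exact congrArg Subgroup.index hself
  let F : Sylow q K → Finset K := fun M' => Finset.univ.filter fun y => y ∈ (M' : Subgroup K) ∧ y ≠ 1
  have hF : ∀ M' : Sylow q K, (F M').card = Nat.card (M : Subgroup K) - 1 := by
    intro M'
    have : F M' = ((Finset.univ.filter fun y => y ∈ (M' : Subgroup K)) : Finset K).erase 1 := by
      ext y; simp [F, and_comm]
    rw [this, Finset.card_erase_of_mem (by simp), ← Fintype.card_subtype, ← Nat.card_eq_fintype_card]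
    congr 1
    rw [M.card_eq_multiplicity]
    exact M'.card_eq_multiplicity
  have hdisj : ((Finset.univ : Finset (Sylow q K)) : Set (Sylow q K)).PairwiseDisjoint F := by
    intro a _ b _ hab
    simp only [Function.onFun, Finset.disjoint_left, F, Finset.mem_filter, Finset.mem_univ, true_and]
    exact fun y hy hy' => hab (hint a b y hy.1 hy'.1 hy.2)
  rw [Nat.card_eq_fintype_card (α := {y : K // orderOf y = q}), Fintype.card_subtype]
  refine le_trans (le_of_eq ?_) (Finset.card_le_card (s := Finset.univ.biUnion F) fun y hy => ?_)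
  · rw [Finset.card_biUnion hdisj, Finset.sum_congr rfl fun M' _ => hF M', Finset.sum_const,
      Finset.card_univ, hn, smul_eq_mul]
  · simp only [Finset.mem_biUnion, Finset.mem_univ, true_and, F, Finset.mem_filter] at hy ⊢
    obtain ⟨M', hyM, hy1⟩ := hy
    rw [← Subgroup.orderOf_coe]
    exact orderOf_eq hG (M'.isPGroup'.map K.subtype) (mem_map_of_mem _ hyM) fun h => hy1 (Subtype.ext h)

/-- The complement in the normaliser of a Sylow 2-subgroup cannot involve two odd primes. -/
theorem not_two_primes (hG : Hyp G) (S : Sylow 2 G) {q r : ℕ} [hq : Fact q.Prime] [hr : Fact r.Prime]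
    (hq2 : q ≠ 2) (hr2 : r ≠ 2) (hqr : q ≠ r) {i j : ℕ} (hi : i ≠ 0) (hj : j ≠ 0)
    (hcard : Nat.card (normalizer ((S : Subgroup G) : Set G)) =
      Nat.card (S : Subgroup G) * (q ^ i * r ^ j))
    (hA : 1 < Nat.card (S : Subgroup G))
    (hNq : ∀ Q : Sylow q G, IsMulCommutative (Q : Subgroup G) ∧
      ∃ a, Nat.card (normalizer ((Q : Subgroup G) : Set G)) = q ^ a * 2)
    (hNr : ∀ Q : Sylow r G, IsMulCommutative (Q : Subgroup G) ∧
      ∃ a, Nat.card (normalizer ((Q : Subgroup G) : Set G)) = r ^ a * 2) : False := by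
  classical
  set K := normalizer ((S : Subgroup G) : Set G) with hK
  have : Fintype K := Fintype.ofFinite _
  obtain ⟨a, ha⟩ := IsPGroup.iff_card.1 S.isPGroup'
  have hS2 : ∀ s : ℕ, s.Prime → s ≠ 2 → ¬ s ∣ Nat.card (S : Subgroup G) := fun s hs hs2 h =>
    hs2 ((Nat.prime_dvd_prime_iff_eq hs Nat.prime_two).1 (hs.dvd_of_dvd_pow (ha ▸ h)))
  obtain ⟨Mq⟩ := (inferInstance : Nonempty (Sylow q K))
  obtain ⟨Mr⟩ := (inferInstance : Nonempty (Sylow r K))
  have hfac : ∀ (s t : ℕ), s.Prime → t.Prime → s ≠ t → s ≠ 2 → ∀ m n : ℕ,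
      (Nat.card (S : Subgroup G) * (s ^ m * t ^ n)).factorization s = m := by
    intro s t hs ht hst hs2 m n
    rw [Nat.factorization_mul Nat.card_pos.ne' (mul_ne_zero (pow_ne_zero _ hs.ne_zero) (pow_ne_zero _ ht.ne_zero)),
      Nat.factorization_mul (pow_ne_zero _ hs.ne_zero) (pow_ne_zero _ ht.ne_zero)]
    simp [hs.factorization_pow, ht.factorization_pow, Nat.factorization_eq_zero_of_not_dvd (hS2 s hs hs2),
      Ne.symm hst]
  have hq' : Nat.card (Mq : Subgroup K) = q ^ i := by
    rw [Mq.card_eq_multiplicity, hcard, hfac q r hq.out hr.out hqr hq2]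
  have hr' : Nat.card (Mr : Subgroup K) = r ^ j := by
    rw [Mr.card_eq_multiplicity, hcard, mul_comm (q ^ i), hfac r q hr.out hq.out hqr.symm hr2]
  have hidq : (Mq : Subgroup K).index = Nat.card (S : Subgroup G) * r ^ j := by
    refine Nat.eq_of_mul_eq_mul_left (Nat.card_pos (α := (Mq : Subgroup K))) ?_
    rw [(Mq : Subgroup K).card_mul_index, hcard, hq']; ring
  have hidr : (Mr : Subgroup K).index = Nat.card (S : Subgroup G) * q ^ i := by
    refine Nat.eq_of_mul_eq_mul_left (Nat.card_pos (α := (Mr : Subgroup K))) ?_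
    rw [(Mr : Subgroup K).card_mul_index, hcard, hr']; ring
  have h1q : 1 < q ^ i := Nat.one_lt_pow hi hq.out.one_lt
  have h1r : 1 < r ^ j := Nat.one_lt_pow hj hr.out.one_lt
  have hMq : (Mq : Subgroup K) ≠ ⊥ := fun h => by rw [h, card_bot] at hq'; omega
  have hMr : (Mr : Subgroup K) ≠ ⊥ := fun h => by rw [h, card_bot] at hr'; omega
  have c1 := index_mul_sub_one_le hG S hq2 hNq le_rfl Mq hMq
  have c2 := index_mul_sub_one_le hG S hr2 hNr le_rfl Mr hMr
  rw [hidq, hq'] at c1
  rw [hidr, hr'] at c2
  have c0 : 1 ≤ Nat.card {y : K // orderOf y = 1} :=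
    Nat.one_le_iff_ne_zero.2 (Nat.card_ne_zero.2 ⟨⟨⟨1, orderOf_one⟩⟩, inferInstance⟩)
  have hle : Nat.card {y : K // orderOf y = 1} + Nat.card {y : K // orderOf y = q} +
      Nat.card {y : K // orderOf y = r} ≤ Nat.card K := by
    simp only [Nat.card_eq_fintype_card, Fintype.card_subtype]
    rw [← Finset.card_union_of_disjoint, ← Finset.card_union_of_disjoint]
    · exact Finset.card_le_univ _
    · rw [Finset.disjoint_union_left]
      constructor <;>
        refine Finset.disjoint_left.2 fun y hy hy' => ?_ <;>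
        simp only [Finset.mem_filter, Finset.mem_univ, true_and] at hy hy' <;>
        rw [hy] at hy'
      · exact hr.out.one_lt.ne hy'
      · exact hqr hy'
    · refine Finset.disjoint_left.2 fun y hy hy' => ?_
      simp only [Finset.mem_filter, Finset.mem_univ, true_and] at hy hy'
      rw [hy] at hy'
      exact hq.out.one_lt.ne hy'
  rw [hcard] at hle
  obtain ⟨x, hx⟩ : ∃ x, q ^ i = x + 1 := ⟨q ^ i - 1, by omega⟩
  obtain ⟨y, hy⟩ : ∃ y, r ^ j = y + 1 := ⟨r ^ j - 1, by omega⟩
  rw [hx, hy] at c1 c2 hle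
  simp only [Nat.add_sub_cancel] at c1 c2
  have hx1 : 2 ≤ x := by
    have : q ≤ q ^ i := Nat.le_self_pow hi q
    have := hq.out.two_le
    omega
  have hy1 : 2 ≤ y := by
    have : r ≤ r ^ j := Nat.le_self_pow hj r
    have := hr.out.two_le
    omega
  nlinarith [Nat.mul_le_mul_left (Nat.card (S : Subgroup G)) (Nat.mul_le_mul hx1 hy1)]

end Cfsg.Agent.H75.PrimeOrbit
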