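import Cfsg.Agent.H75.CaminaPair
import Cfsg.Agent.H34.FreeKernelChar
import Cfsg.Agent.CharInduce.CoprimeExt
import Cfsg.Agent.CharInduce.Induce
import Cfsg.Agent.CharInduce.Ops
import Cfsg.Agent.H83.StarResidue

/-!
Camina pairs: a prime dividing both `|G : N|` and `|N|` divides `|N : N'|`.
-/

set_option autoImplicit false

namespace Cfsg.Agent.H75.Camina

open scoped ComplexConjugate
open Cfsg.Agent.CharBasic Cfsg.Agent.CharInduce

universe u

variable {G : Type u} [Group G] [Fintype G] {N : Subgroup G} [N.Normal]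

/-- Characters not trivial on `N` vanish off `N`. -/
theorem Pair.vanish (h : Pair N) {χ : G → ℂ} (hχ : Cfsg.IsIrrCharacter G χ)
    (hN : H34.NotTrivialOn N χ) {x : G} (hx : x ∉ N) : χ x = 0 := by
  classical
  haveI : Fintype (G ⧸ N) := Fintype.ofFinite _
  set q := QuotientGroup.mk' N
  have hsurj := QuotientGroup.mk'_surjective N
  let infl : Cfsg.IrrCharacter (G ⧸ N) → Cfsg.IrrCharacter G := fun η =>
    ⟨fun y => (η : G ⧸ N → ℂ) (q y), CharInduce.IsIrr.comp η.2 q hsurj⟩
  have hinj : Function.Injective infl := fun a b h => Subtype.ext (funext fun z => by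
    obtain ⟨y, rfl⟩ := hsurj z
    exact congrFun (congrArg Subtype.val h) y)
  let f : Cfsg.IrrCharacter G → ℝ := fun ψ => ‖(ψ : G → ℂ) x‖ ^ 2
  have htot : ∑ ψ : Cfsg.IrrCharacter G, f ψ =
      (Nat.card (Subgroup.centralizer ({x} : Set G)) : ℝ) := by
    have e := second_orthogonality_self (G := G) x
    simp only [Complex.mul_conj'] at e
    exact_mod_cast e
  have hquot : ∑ η : Cfsg.IrrCharacter (G ⧸ N), f (infl η) =
      (Nat.card (Subgroup.centralizer ({q x} : Set (G ⧸ N))) : ℝ) := by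
    have e := second_orthogonality_self (G := G ⧸ N) (q x)
    simp only [Complex.mul_conj'] at e
    exact_mod_cast e
  let s : Finset (Cfsg.IrrCharacter G) := Finset.univ.image infl
  have hs : ∑ ψ ∈ s, f ψ = ∑ η : Cfsg.IrrCharacter (G ⧸ N), f (infl η) :=
    Finset.sum_image (hinj.injOn)
  have hχs : (⟨χ, hχ⟩ : Cfsg.IrrCharacter G) ∉ s := by
    intro h
    obtain ⟨η, -, hη⟩ := Finset.mem_image.1 h
    obtain ⟨k, hk, hne⟩ := hN
    apply hne
    have e : ∀ y, χ y = (η : G ⧸ N → ℂ) (q y) := fun y =>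
      (congrFun (congrArg Subtype.val hη) y).symm
    rw [e, e, map_one, show q k = 1 from (QuotientGroup.eq_one_iff k).2 hk]
  have hrest : f ⟨χ, hχ⟩ + ∑ ψ ∈ s, f ψ ≤ ∑ ψ : Cfsg.IrrCharacter G, f ψ := by
    rw [← Finset.sum_insert hχs]
    exact Finset.sum_le_sum_of_subset_of_nonneg (Finset.subset_univ _) fun ψ _ _ => sq_nonneg _
  have h0 : f ⟨χ, hχ⟩ = 0 := by
    refine le_antisymm ?_ (sq_nonneg _)
    have : (Nat.card (Subgroup.centralizer ({x} : Set G)) : ℝ) =
        (Nat.card (Subgroup.centralizer ({q x} : Set (G ⧸ N))) : ℝ) := by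
      exact_mod_cast h.card_centralizer hx
    linarith
  simpa [f] using h0

omit [Fintype G] in
theorem exists_fixed_char_aux [Fintype N] (T : Subgroup G) {q : ℕ} [Fact q.Prime] (hT : IsPGroup q T)
    (hqN : q ∣ Nat.card N) [MulAction T (Cfsg.IrrCharacter N)]
    (hsmul : ∀ (t : T) (θ : Cfsg.IrrCharacter N),
      ((t • θ : Cfsg.IrrCharacter N) : N → ℂ) = conjFun N (θ : N → ℂ) ((t : G)⁻¹)) :
    ∃ θ : N → ℂ, Cfsg.IsIrrCharacter N θ ∧ θ ≠ (fun _ => (1 : ℂ)) ∧
      (∀ t ∈ T, conjFun N θ t = θ) ∧ ∃ d : ℕ, θ 1 = d ∧ ¬ q ∣ d := by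
  classical
  choose d hd0 hd using fun θ : Cfsg.IrrCharacter N => CharBasic.IsIrr.exists_degree θ.2
  have hinv : ∀ (t : T) (θ : Cfsg.IrrCharacter N), ((d (t • θ) : ZMod q)) ^ 2 = (d θ : ZMod q) ^ 2 := by
    intro t θ
    have : (d (t • θ) : ℂ) = d θ := by
      rw [← hd, ← hd, hsmul]
      refine congrArg (θ : N → ℂ) (Subtype.ext ?_)
      show (t : G)⁻¹ * ((1 : N) : G) * ((t : G)⁻¹)⁻¹ = ((1 : N) : G)
      simp
    rw [Nat.cast_inj.mp this]
  have hsum := H83.Star.sum_eq_sum_fixed (R := ZMod q) (ZMod.natCast_self q) hT (f := fun θ => (d θ : ZMod q) ^ 2) hinv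
  have htot : (∑ θ : Cfsg.IrrCharacter N, (d θ : ZMod q) ^ 2) = 0 := by
    have h1 : ∑ θ : Cfsg.IrrCharacter N, (d θ) ^ 2 = Nat.card N := by
      have := sum_sq_degree (G := N)
      simp only [hd] at this
      exact_mod_cast this
    have h2 := congrArg (fun n : ℕ => (n : ZMod q)) h1
    simp only [Nat.cast_sum, Nat.cast_pow] at h2
    rw [h2]
    exact (ZMod.natCast_eq_zero_iff _ _).mpr hqN
  rw [htot] at hsum
  obtain ⟨one, hone'⟩ : ∃ one : Cfsg.IrrCharacter N, (one : N → ℂ) = fun _ => 1 :=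
    ⟨⟨fun _ => 1, isIrrCharacter_one⟩, rfl⟩
  have hone : d one = 1 := by
    have h1 : ((d one : ℕ) : ℂ) = ((1 : ℕ) : ℂ) := by rw [← hd, hone', Nat.cast_one]
    exact_mod_cast h1
  have hmem1 : ∀ t : T, t • one = one := fun t => Subtype.ext (by
    rw [hsmul, hone']
    rfl)
  by_contra hcon
  push Not at hcon
  rw [Finset.sum_eq_single_of_mem one (Finset.mem_filter.mpr ⟨Finset.mem_univ _, hmem1⟩) (fun θ hθ hne => ?_),
    hone, Nat.cast_one, one_pow] at hsum
  · exact one_ne_zero hsum.symm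
  · have hfix := (Finset.mem_filter.mp hθ).2
    have hq : q ∣ d θ := by
      refine hcon θ θ.2 (fun h => hne (Subtype.ext (h.trans hone'.symm))) (fun t ht => ?_) (d θ) (hd θ)
      have h1 := congrArg Subtype.val (hfix ⟨t⁻¹, T.inv_mem ht⟩)
      rw [hsmul] at h1
      simpa using h1
    rw [(ZMod.natCast_eq_zero_iff _ _).mpr hq, zero_pow two_ne_zero]

omit [Fintype G] in
/-- A fixed nontrivial character of degree prime to `q`. -/
theorem exists_fixed_char (T : Subgroup G) {q : ℕ} [Fact q.Prime] [Finite G] (hT : IsPGroup q T)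
    (hqN : q ∣ Nat.card N) :
    ∃ θ : N → ℂ, Cfsg.IsIrrCharacter N θ ∧ θ ≠ (fun _ => (1 : ℂ)) ∧
      (∀ t ∈ T, conjFun N θ t = θ) ∧ ∃ d : ℕ, θ 1 = d ∧ ¬ q ∣ d := by
  classical
  haveI := Fintype.ofFinite N
  have hirr : ∀ (x : G) (θ : Cfsg.IrrCharacter N), Cfsg.IsIrrCharacter N (conjFun N (θ : N → ℂ) x) := by
    intro x θ
    rw [conjFun_eq_comp]
    exact CharInduce.IsIrr.comp θ.2 (MulAut.conjNormal x).toMonoidHom (MulAut.conjNormal x).surjective
  letI : MulAction T (Cfsg.IrrCharacter N) :=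
    { smul := fun t θ => ⟨conjFun N (θ : N → ℂ) ((t : G)⁻¹), hirr _ θ⟩
      one_smul := fun θ => Subtype.ext (by
        show conjFun N (θ : N → ℂ) (((1 : T) : G)⁻¹) = θ
        rw [OneMemClass.coe_one, inv_one, conjFun_one])
      mul_smul := fun a b θ => Subtype.ext (by
        show conjFun N (θ : N → ℂ) (((a * b : T) : G)⁻¹) =
          conjFun N (conjFun N (θ : N → ℂ) ((b : G)⁻¹)) ((a : G)⁻¹)
        rw [Subgroup.coe_mul, mul_inv_rev, conjFun_mul]) }
  exact exists_fixed_char_aux T hT hqN (fun t θ => rfl)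

/-- A prime dividing the index and the order of `N` divides `|N : N'|`. -/
theorem Pair.dvd_abelianization (h : Pair N) {q : ℕ} (hq : q.Prime) (hqi : q ∣ N.index)
    (hqN : q ∣ Nat.card N) : q ∣ Nat.card (Abelianization N) := by
  classical
  by_contra hab
  haveI := Fact.mk hq
  haveI := Fintype.ofFinite N
  obtain ⟨T⟩ : Nonempty (Sylow q G) := inferInstance
  obtain ⟨θ, hθ, hθ1, hTθ, d, hd, hqd⟩ := exists_fixed_char (N := N) (T : Subgroup G) T.isPGroup' hqN
  -- the subgroup `X = N T`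
  set Tb := T.mapSurjective (QuotientGroup.mk'_surjective N) with hTb
  set X := (Tb : Subgroup (G ⧸ N)).comap (QuotientGroup.mk' N) with hX
  have hXeq : X = (T : Subgroup G) ⊔ N := by
    rw [hX, hTb, Sylow.coe_mapSurjective, Subgroup.comap_map_eq, QuotientGroup.ker_mk']
  have hNX : N ≤ X := hXeq ▸ le_sup_right
  have hNI : N ≤ inertia N θ := fun n hn => by
    rw [mem_inertia]
    funext m
    exact CharBasic.IsIrr.isClassFunction hθ m ⟨n, hn⟩
  have hXI : X ≤ inertia N θ := hXeq ▸ sup_le (fun t ht => hTθ t ht) hNI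
  set a := N.index.factorization q with ha
  have hTcard : Nat.card Tb = q ^ a := by
    rw [Tb.card_eq_multiplicity, ha, Subgroup.index]
  have ha1 : a ≠ 0 := by
    rw [ha]
    exact (Nat.Prime.factorization_pos_of_dvd hq Subgroup.index_ne_zero_of_finite hqi).ne'
  have hXcard : Nat.card X = q ^ a * Nat.card N := by
    have h1 := Subgroup.card_eq_card_quotient_mul_card_subgroup ((QuotientGroup.mk' N).comp X.subtype).ker
    rw [Nat.card_congr (QuotientGroup.quotientKerEquivRange _).toEquiv] at h1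
    have h2 : ((QuotientGroup.mk' N).comp X.subtype).range = (Tb : Subgroup (G ⧸ N)) := by
      rw [MonoidHom.range_comp, Subgroup.range_subtype, hX,
        Subgroup.map_comap_eq_self_of_surjective (QuotientGroup.mk'_surjective N)]
    have h3 : ((QuotientGroup.mk' N).comp X.subtype).ker = N.subgroupOf X := by
      rw [← MonoidHom.comap_ker, QuotientGroup.ker_mk']
      rfl
    rw [h2, h3, Nat.card_congr (Subgroup.subgroupOfEquivOfLe hNX).toEquiv, hTcard] at h1
    exact h1
  have hidx : (N.subgroupOf X).index = q ^ a := by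
    have h1 := (N.subgroupOf X).card_mul_index
    rw [Nat.card_congr (Subgroup.subgroupOfEquivOfLe hNX).toEquiv, hXcard, mul_comm (q ^ a)] at h1
    exact Nat.eq_of_mul_eq_mul_left Nat.card_pos h1
  -- the extension to `X`
  let e := Subgroup.subgroupOfEquivOfLe hNX
  let θ' : N.subgroupOf X → ℂ := fun n => θ (e n)
  have hθ' : Cfsg.IsIrrCharacter _ θ' := CharInduce.IsIrr.comp hθ e.toMonoidHom e.surjective
  have hcop : Nat.Coprime (N.subgroupOf X).index (Cfsg.detOrder θ' * d) := by
    rw [hidx]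
    refine Nat.Coprime.pow_left _ (Nat.Coprime.mul_right ?_ ((hq.coprime_iff_not_dvd).mpr hqd))
    obtain ⟨n', ρ, -, hρ⟩ := id hθ'
    rw [hq.coprime_iff_not_dvd, detOrder_eq ρ hρ]
    intro hdvd
    apply hab
    rw [← Nat.card_congr (MulEquiv.abelianizationCongr e).toEquiv]
    refine hdvd.trans (orderOf_dvd_of_pow_eq_one ?_)
    refine MonoidHom.ext fun x => ?_
    rw [MonoidHom.pow_apply, MonoidHom.one_apply, ← Abelianization.lift_apply_of (detHom ρ) x, ← map_pow,
      pow_card_eq_one', map_one]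
  obtain ⟨χ, hχ, hext⟩ := exists_extension_of_coprime (G := X) (N := N.subgroupOf X) hθ' (fun g n => by
      have := congrFun (hXI g.2) (e n)
      rw [show θ' n = θ (e n) from rfl, ← this]
      rfl) (d := d) (by show θ (e 1) = d; rw [map_one]; exact hd) hcop
  -- multiplicities
  set f := indFun N θ with hf
  choose c hc using fun ψ : Cfsg.IrrCharacter G => classInner_indFun_nat N
    (CharBasic.IsIrr.isCharacter hθ) (CharBasic.IsIrr.isCharacter ψ.2)
  haveI : Fintype X := Fintype.ofFinite X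
  have hdiv : ∀ ψ, q ^ a ∣ c ψ := by
    intro ψ
    by_cases hc0 : c ψ = 0
    · rw [hc0]; exact dvd_zero _
    have hnt : H34.NotTrivialOn N (ψ : G → ℂ) := by
      by_contra htriv
      have hz : (c ψ : ℂ) = 0 := by
        rw [← hc, classInner_indFun_left N θ _ (CharBasic.IsIrr.isClassFunction ψ.2)]
        have h2 : (fun n : N => (ψ : G → ℂ) n) = (ψ : G → ℂ) 1 • (fun _ : N => (1 : ℂ)) := by
          funext n
          rw [Pi.smul_apply, smul_eq_mul, mul_one]
          exact H34.apply_eq_one_of_trivial htriv n.2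
        rw [h2, classInner_smul_right, classInner_irr_of_ne hθ isIrrCharacter_one hθ1, mul_zero]
      exact hc0 (by exact_mod_cast hz)
    obtain ⟨m, hm⟩ := classInner_isChar_nat (G := X) (IsChar.res (CharBasic.IsIrr.isCharacter ψ.2) X)
      (CharBasic.IsIrr.isCharacter hχ)
    have hbig : Cfsg.classInner (fun n : N => (ψ : G → ℂ) n) θ = (q ^ a : ℕ) * (m : ℂ) := by
      rw [← hm, classInner_def, classInner_def]
      have hsum : ∑ x : X, (ψ : G → ℂ) x * conj (χ x) = ∑ n : N, (ψ : G → ℂ) n * conj (θ n) := by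
        rw [← Finset.sum_subset (Finset.subset_univ ((Finset.univ : Finset X).filter fun x : X => (x : G) ∈ N))
          (fun x _ hx => by
            rw [h.vanish ψ.2 hnt (fun hmem => hx (Finset.mem_filter.mpr ⟨Finset.mem_univ _, hmem⟩)), zero_mul])]
        rw [Finset.sum_subtype (p := fun x : X => (x : G) ∈ N) _ (by simp) (fun x : X => (ψ : G → ℂ) x * conj (χ x))]
        refine Fintype.sum_equiv e.toEquiv _ _ fun n => ?_
        have h2 := hext n
        show (ψ : G → ℂ) _ * conj (χ (n : X)) = _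
        rw [h2]
        rfl
      rw [hsum, hXcard, Nat.cast_mul, mul_inv_rev]
      have hq0 : ((q ^ a : ℕ) : ℂ) ≠ 0 := Nat.cast_ne_zero.mpr (pow_ne_zero _ hq.ne_zero)
      have hN0 : (Nat.card N : ℂ) ≠ 0 := Nat.cast_ne_zero.mpr Nat.card_pos.ne'
      field_simp
    refine ⟨m, ?_⟩
    have h3 : (c ψ : ℂ) = conj (Cfsg.classInner (fun n : N => (ψ : G → ℂ) n) θ) := by
      rw [← hc, classInner_indFun_left N θ _ (CharBasic.IsIrr.isClassFunction ψ.2), CharInduce.conj_classInner]
    rw [hbig, map_mul, Complex.conj_natCast, Complex.conj_natCast] at h3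
    exact_mod_cast h3
  choose b hb using hdiv
  -- the norm of the induced function
  set M := (Finset.univ.filter fun x : G => conjFun N θ x = θ).card with hM
  have hnorm : ((∑ ψ, c ψ ^ 2 : ℕ) : ℂ) = (Nat.card N : ℂ)⁻¹ * (M : ℂ) := by
    have h1 : Cfsg.classInner f f = (Nat.card N : ℂ)⁻¹ * (M : ℂ) := by
      rw [hf, classInner_indFun_left N θ _ (isClassFunction_indFun N θ), indFun_res_normal,
        CharBasic.classInner_smul_right, CharBasic.classInner_sum_right, map_inv₀, Complex.conj_natCast]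
      congr 1
      rw [Finset.sum_congr rfl (g := fun x => if conjFun N θ x = θ then (1 : ℂ) else 0) (fun x _ => ?_),
        Finset.sum_boole]
      have hirr : Cfsg.IsIrrCharacter N (conjFun N θ x) := by
        rw [conjFun_eq_comp]
        exact CharInduce.IsIrr.comp hθ (MulAut.conjNormal x).toMonoidHom (MulAut.conjNormal x).surjective
      rw [classInner_irr hθ hirr]
      exact if_congr eq_comm rfl rfl
    rw [← h1]
    nth_rw 1 [hf]
    rw [classFunction_expansion (isClassFunction_indFun N θ)]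
    rw [classInner_sum_left]
    push_cast
    refine Finset.sum_congr rfl fun ψ _ => ?_
    rw [classInner_smul_left, hc]
    rw [show Cfsg.classInner (ψ : G → ℂ) f = (c ψ : ℂ) by
      rw [← CharInduce.conj_classInner, hc, Complex.conj_natCast]]
    ring
  have hM' : M = Nat.card (inertia N θ) := by
    rw [hM, Nat.card_eq_fintype_card, ← Fintype.card_subtype]
    exact Fintype.card_congr (Equiv.subtypeEquivRight fun x => (mem_inertia N).symm)
  have hMeq : M = Nat.card N * ∑ ψ, c ψ ^ 2 := by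
    have : ((Nat.card N * ∑ ψ, c ψ ^ 2 : ℕ) : ℂ) = (M : ℂ) := by
      rw [Nat.cast_mul, hnorm, ← mul_assoc, mul_inv_cancel₀ (Nat.cast_ne_zero.mpr Nat.card_pos.ne'), one_mul]
    exact_mod_cast this.symm
  have hdvd : Nat.card N * (q ^ a) ^ 2 ∣ Nat.card N * N.index := by
    rw [Subgroup.card_mul_index]
    refine Dvd.dvd.trans ?_ (Subgroup.card_subgroup_dvd_card (inertia N θ))
    rw [← hM', hMeq]
    refine mul_dvd_mul_left _ (Finset.dvd_sum fun ψ _ => ?_)
    rw [hb ψ, mul_pow]
    exact Dvd.intro _ rfl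
  have h4 := (Nat.mul_dvd_mul_iff_left Nat.card_pos).mp hdvd
  rw [← pow_mul] at h4
  have := (Nat.Prime.pow_dvd_iff_le_factorization hq Subgroup.index_ne_zero_of_finite).mp h4
  omega

end Cfsg.Agent.H75.Camina
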