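import Mathlib
import Cfsg.Agent.H76.ClassSize
import Cfsg.Agent.Frobenius.NoFrobenius
import Cfsg.Agent.Frobenius.FPFAut
import Cfsg.Agent.H24.Nilp
import Cfsg.Agent.H24.FPF

/-!
Camina pairs `(G, N)`: `g n` is conjugate to `g` for every `g ∉ N`, `n ∈ N`. Group-theoretic part.
-/

set_option autoImplicit false

namespace Cfsg.Agent.H75.Camina

universe u

variable {G : Type u} [Group G] {N : Subgroup G}

/-- `g n` is conjugate to `g` for all `g` outside `N` and `n` in `N`. -/
def Pair (N : Subgroup G) : Prop := ∀ g : G, g ∉ N → ∀ n ∈ N, ∃ x : G, x * g * x⁻¹ = g * n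

theorem Pair.eq_one_of_commute (h : Pair N) [Finite G] {g n : G} (hg : g ∉ N) (hn : n ∈ N)
    (hc : Commute g n) (hco : (orderOf g).Coprime (orderOf n)) : n = 1 := by
  obtain ⟨x, hx⟩ := h g hg n hn
  have h1 : orderOf (g * n) = orderOf g := by
    rw [← hx]
    exact orderOf_injective (MulAut.conj x).toMonoidHom (MulAut.conj x).injective g
  rw [hc.orderOf_mul_eq_mul_orderOf_of_coprime hco] at h1
  have : orderOf n = 1 := Nat.eq_of_mul_eq_mul_left (orderOf_pos g) (h1.trans (mul_one _).symm)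
  exact orderOf_eq_one_iff.mp this

theorem Pair.quotient (h : Pair N) (M : Subgroup G) [M.Normal] (hMN : M ≤ N) :
    Pair (N.map (QuotientGroup.mk' M)) := by
  intro g hg n hn
  obtain ⟨a, rfl⟩ := QuotientGroup.mk'_surjective M g
  obtain ⟨b, hb, rfl⟩ := Subgroup.mem_map.mp hn
  have ha : a ∉ N := fun ha => hg (Subgroup.mem_map_of_mem _ ha)
  obtain ⟨x, hx⟩ := h a ha b hb
  exact ⟨QuotientGroup.mk' M x, by simp only [← map_mul, ← map_inv, hx]⟩

theorem Pair.card_centralizer [Finite G] [N.Normal] (h : Pair N) {g : G} (hg : g ∉ N) :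
    Nat.card (Subgroup.centralizer ({g} : Set G)) =
      Nat.card (Subgroup.centralizer ({(QuotientGroup.mk g : G ⧸ N)} : Set (G ⧸ N))) :=
  (H76.centralizer_card_eq_quotient_iff N g).mpr (h g hg)

/-- Coprime order and index give the Frobenius conclusion. -/
theorem Pair.frobenius [Finite G] [N.Normal] (h : Pair N)
    (hco : ∀ q : ℕ, q.Prime → q ∣ N.index → ¬ q ∣ Nat.card N) :
    ∀ x ∈ N, x ≠ 1 → Subgroup.centralizer ({x} : Set G) ≤ N := by
  intro x hx hx1 g hg
  by_contra hgN
  refine hx1 (h.eq_one_of_commute hgN hx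
    (Subgroup.mem_centralizer_singleton_iff.mp hg : g * x = x * g) ?_)
  by_contra hnc
  obtain ⟨r, hr, hrg, hrx⟩ := Nat.Prime.not_coprime_iff_dvd.mp hnc
  have hrN : r ∣ Nat.card N := hrx.trans (Subgroup.orderOf_dvd_natCard _ hx)
  have hco' : N.index.Coprime (Nat.card N) := by
    by_contra hbad
    obtain ⟨q, hq, hq1, hq2⟩ := Nat.Prime.not_coprime_iff_dvd.mp hbad
    exact hco q hq hq1 hq2
  -- a power of `g` of order prime to `|N|` outside `N`
  set g' := g ^ Nat.card N
  have hg'N : g' ∉ N := fun hmem => hgN (by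
    obtain ⟨a, b, hab⟩ := (Nat.isCoprime_iff_coprime.mpr hco')
    have h1 : g ^ N.index ∈ N := N.pow_index_mem g
    have h2 : g = (g ^ (Nat.card N : ℤ)) ^ b * (g ^ (N.index : ℤ)) ^ a := by
      rw [← zpow_mul, ← zpow_mul, ← zpow_add]
      conv_lhs => rw [← zpow_one g]
      congr 1
      linarith
    rw [h2]
    exact mul_mem (zpow_mem (by rw [zpow_natCast]; exact hmem) _) (zpow_mem (by rw [zpow_natCast]; exact h1) _))
  refine hx1 (h.eq_one_of_commute hg'N hx ((show Commute g x from
    Subgroup.mem_centralizer_singleton_iff.mp hg).pow_left _) ?_)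
  refine Nat.Coprime.coprime_dvd_right (Subgroup.orderOf_dvd_natCard _ hx) ?_
  refine Nat.Coprime.coprime_dvd_left (orderOf_dvd_of_pow_eq_one ?_) hco'
  rw [← pow_mul, Subgroup.card_mul_index, pow_card_eq_one']

/-- A nilpotent `N` that is not of prime power order is prime to its index. -/
theorem Pair.not_dvd_card [Finite G] [N.Normal] (h : Pair N) (hnil : Group.IsNilpotent N)
    (hN1 : N ≠ ⊥) (hpp : ¬ IsPrimePow (Nat.card N)) {q : ℕ} (hq : q.Prime) (hqi : q ∣ N.index) :
    ¬ q ∣ Nat.card N := by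
  classical
  intro hqN
  haveI := Fact.mk hq
  haveI := hnil
  -- central elements of prime order
  have hcentral : ∀ r : ℕ, r.Prime → r ∣ Nat.card N → ∃ z : N, orderOf z = r ∧ z ∈ Subgroup.center N := by
    intro r hr hrN
    haveI := Fact.mk hr
    obtain ⟨R⟩ : Nonempty (Sylow r N) := inferInstance
    have hRne : (R : Subgroup N) ≠ ⊥ := R.ne_bot_of_dvd_card hrN
    haveI : (R : Subgroup N).Normal := Frobenius.sylow_normal_of_isNilpotent r R
    obtain ⟨z, hz, hz1⟩ := (Subgroup.bot_or_exists_ne_one _).resolve_left (H24.inf_center_ne_bot (R : Subgroup N) hRne)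
    obtain ⟨k, hk⟩ := (IsPGroup.iff_orderOf.mp R.isPGroup') ⟨z, hz.1⟩
    rw [Subgroup.orderOf_mk] at hk
    obtain ⟨j, rfl⟩ := Nat.exists_eq_succ_of_ne_zero (n := k) (fun h0 => hz1 (orderOf_eq_one_iff.mp (by rw [hk, h0, pow_zero])))
    refine ⟨z ^ r ^ j, ?_, Subgroup.pow_mem _ hz.2 _⟩
    rw [orderOf_pow' z (pow_ne_zero _ hr.ne_zero), hk, pow_succ, Nat.gcd_mul_right_left,
      Nat.mul_div_cancel_left _ (pow_pos hr.pos _)]
  obtain ⟨r, hr, hrN, hrq⟩ : ∃ r : ℕ, r.Prime ∧ r ∣ Nat.card N ∧ r ≠ q := by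
    by_contra hcon
    push Not at hcon
    have := Nat.eq_prime_pow_of_unique_prime_dvd Nat.card_pos.ne' (fun {d} hd hdN => hcon d hd hdN)
    exact hpp ((isPrimePow_nat_iff _).mpr ⟨q, _, hq, Nat.pos_of_ne_zero (fun h0 => by
      rw [h0, pow_zero] at this
      rw [this] at hqN
      exact hq.one_lt.ne' (Nat.dvd_one.mp hqN)), this.symm⟩)
  -- the abelian subgroup `V`
  let V : Subgroup G :=
    { carrier := {z | z ∈ N ∧ (∀ n ∈ N, Commute z n) ∧ z ^ r = 1}
      one_mem' := ⟨N.one_mem, fun n _ => Commute.one_left n, one_pow r⟩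
      mul_mem' := fun {a b} ha hb => ⟨N.mul_mem ha.1 hb.1, fun n hn => (ha.2.1 n hn).mul_left (hb.2.1 n hn),
        by rw [(ha.2.1 b hb.1).mul_pow, ha.2.2, hb.2.2, one_mul]⟩
      inv_mem' := fun {a} ha => ⟨N.inv_mem ha.1, fun n hn => (ha.2.1 n hn).inv_left,
        by rw [inv_pow, ha.2.2, inv_one]⟩ }
  haveI hVn : V.Normal := ⟨fun z ⟨hz1, hz2, hz3⟩ g => ⟨‹N.Normal›.conj_mem z hz1 g, fun n hn => by
      have h1 := hz2 (g⁻¹ * n * g) (by simpa using ‹N.Normal›.conj_mem n hn g⁻¹)
      simpa [mul_assoc] using h1.map (MulAut.conj g).toMonoidHom,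
    by rw [conj_pow, hz3]; simp⟩⟩
  letI : CommGroup V := { (inferInstance : Group V) with
    mul_comm := fun a b => Subtype.ext (a.2.2.1 b b.2.1) }
  haveI : Nontrivial V := by
    obtain ⟨z, hzo, hzc⟩ := hcentral r hr hrN
    refine ⟨⟨⟨z, z.2, fun n hn => congrArg Subtype.val (Subgroup.mem_center_iff.mp hzc ⟨n, hn⟩).symm,
      by rw [← SubmonoidClass.coe_pow, ← hzo, pow_orderOf_eq_one, OneMemClass.coe_one]⟩, 1, fun hc => ?_⟩⟩
    have : z = 1 := Subtype.ext (congrArg (fun v : V => (v : G)) hc)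
    rw [this, orderOf_one] at hzo
    exact hr.one_lt.ne hzo
  let φ : G ⧸ N →* MulAut V := QuotientGroup.lift N (MulAut.conjNormal (H := V)) (fun n hn => by
    rw [MonoidHom.mem_ker]
    refine MulEquiv.ext fun v => Subtype.ext ?_
    rw [MulAut.conjNormal_apply, MulAut.one_apply]
    rw [← (v.2.2.1 n hn).eq, mul_inv_cancel_right])
  have hφ : ∀ g : G, φ (g : G ⧸ N) = MulAut.conjNormal g := fun g => rfl
  -- q-elements of the quotient act without fixed points
  have hfpf : ∀ u : G ⧸ N, u ≠ 1 → (∃ k, orderOf u = q ^ k) → ∀ v : V, φ u v = v → v = 1 := by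
    intro u hu ⟨k, hk⟩ v hv
    obtain ⟨g, rfl⟩ := QuotientGroup.mk_surjective u
    -- lift to a `q`-element
    set m := (orderOf g) / q ^ (orderOf g).factorization q
    have hm : m.Coprime q := (Nat.coprime_ordCompl hq (orderOf_pos g).ne').symm
    have hgm : (QuotientGroup.mk (g ^ m) : G ⧸ N) ≠ 1 := by
      rw [QuotientGroup.mk_pow]
      intro h1
      have h2 := orderOf_dvd_of_pow_eq_one h1
      rw [hk] at h2
      have : q ^ k = 1 := Nat.dvd_one.mp (((hm.symm).pow_left k).dvd_of_dvd_mul_right (by simpa using h2))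
      exact hu (orderOf_eq_one_iff.mp (hk.trans this))
    have hord : orderOf (g ^ m) ∣ q ^ (orderOf g).factorization q := by
      refine orderOf_dvd_of_pow_eq_one ?_
      rw [← pow_mul, mul_comm, Nat.ordProj_mul_ordCompl_eq_self, pow_orderOf_eq_one]
    have hcv : Commute g (v : G) := by
      have h1 := congrArg Subtype.val hv
      rw [hφ, MulAut.conjNormal_apply] at h1
      exact mul_inv_eq_iff_eq_mul.mp h1
    refine Subtype.ext (h.eq_one_of_commute (fun hmem => hgm ((QuotientGroup.eq_one_iff _).mpr hmem))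
      v.2.1 (hcv.pow_left m) ?_)
    refine Nat.Coprime.coprime_dvd_left hord (Nat.Coprime.coprime_dvd_right
      (orderOf_dvd_of_pow_eq_one v.2.2.2) (Nat.Coprime.pow_left _ ?_))
    exact (Nat.coprime_primes hq hr).mpr hrq.symm
  have hcyc : ∀ A : Subgroup (G ⧸ N), IsPGroup q A → IsMulCommutative A → IsCyclic A := by
    intro A hA hAc
    by_contra hnc
    letI : CommGroup A := { (inferInstance : Group A) with mul_comm := hAc.is_comm.comm }
    obtain ⟨B, hB, hBq⟩ := H24.exists_elementary_sq hq hA hnc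
    have : IsCyclic B := Frobenius.isCyclic_of_card_sq (φ := φ.comp (A.subtype.comp B.subtype))
      (fun b hb v hv => hfpf ((b : A) : G ⧸ N) (fun h1 => hb (Subtype.ext (Subtype.ext h1)))
        (by
          rw [Subgroup.orderOf_coe]
          exact (IsPGroup.iff_orderOf.mp hA) _) v hv) q hB
    obtain ⟨w, hw⟩ := this.exists_generator
    have h1 : q ^ 2 ∣ q := by
      rw [← hB, ← orderOf_eq_card_of_forall_mem_zpowers hw]
      exact orderOf_dvd_of_pow_eq_one (Subtype.ext (hBq w w.2))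
    have := Nat.le_of_dvd hq.pos h1
    nlinarith [hq.one_lt]
  -- a `q`-element outside `N` of maximal order modulo `N`
  obtain ⟨u0, hu0⟩ := exists_prime_orderOf_dvd_card' (G := G ⧸ N) q hqi
  letI := Fintype.ofFinite (G ⧸ N)
  obtain ⟨u, hu, humax⟩ := Finset.exists_max_image (Finset.univ.filter fun u : G ⧸ N => ∃ k, orderOf u = q ^ k)
    orderOf ⟨u0, Finset.mem_filter.mpr ⟨Finset.mem_univ _, 1, by rw [hu0, pow_one]⟩⟩
  obtain ⟨k, hk⟩ := (Finset.mem_filter.mp hu).2
  have hk0 : k ≠ 0 := by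
    rintro rfl
    have := humax u0 (Finset.mem_filter.mpr ⟨Finset.mem_univ _, 1, by rw [hu0, pow_one]⟩)
    rw [hk, hu0, pow_zero] at this
    exact absurd this (not_le.mpr hq.one_lt)
  -- the `q`-part of its centralizer
  obtain ⟨S⟩ : Nonempty (Sylow q (Subgroup.centralizer ({u} : Set (G ⧸ N)))) := inferInstance
  set S' := (S : Subgroup (Subgroup.centralizer ({u} : Set (G ⧸ N)))).map (Subgroup.subtype _) with hS'
  have hS'le : S' ≤ Subgroup.zpowers u := by
    intro w hw
    have hwc : Commute u w := by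
      obtain ⟨w', -, rfl⟩ := hw
      exact (Subgroup.mem_centralizer_singleton_iff.mp w'.2).symm
    obtain ⟨j, hj⟩ : ∃ j, orderOf w = q ^ j := by
      have := (IsPGroup.iff_orderOf.mp (S.isPGroup'.map (Subgroup.subtype _))) ⟨w, hw⟩
      rwa [Subgroup.orderOf_mk] at this
    let A := Subgroup.zpowers u ⊔ Subgroup.zpowers w
    have hAq : IsPGroup q A := by
      refine IsPGroup.to_sup_of_normal_right' ?_ ?_ ?_
      · exact IsPGroup.of_card (Nat.card_zpowers u ▸ hk)
      · exact IsPGroup.of_card (Nat.card_zpowers w ▸ hj)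
      · rw [Subgroup.zpowers_eq_closure, Subgroup.closure_le, Set.singleton_subset_iff, SetLike.mem_coe,
          Subgroup.mem_normalizer_iff]
        intro y
        constructor
        · rintro ⟨i, rfl⟩
          exact ⟨i, by simp only; rw [(hwc.zpow_right i).eq, mul_inv_cancel_right]⟩
        · rintro ⟨i, hi⟩
          refine ⟨i, ?_⟩
          simp only at hi ⊢
          rw [show y = u⁻¹ * (u * y * u⁻¹) * u by group, ← hi, mul_assoc, ← (hwc.zpow_right i).eq,
            inv_mul_cancel_left]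
    have hAc : IsMulCommutative A := by
      have hA : A = Subgroup.closure ({u, w} : Set (G ⧸ N)) := by
        rw [Set.insert_eq, Subgroup.closure_union, ← Subgroup.zpowers_eq_closure, ← Subgroup.zpowers_eq_closure]
      rw [hA]
      exact Subgroup.isMulCommutative_closure (fun a ha b hb => by
        rcases ha with rfl | rfl <;> rcases hb with rfl | rfl <;>
          first | rfl | exact hwc.eq | exact hwc.symm.eq)
    obtain ⟨c, hc⟩ := (Subgroup.isCyclic_iff_exists_zpowers_eq_top A).mp (hcyc A hAq hAc)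
    have hco : ∃ i, orderOf c = q ^ i := by
      have := (IsPGroup.iff_orderOf.mp hAq) ⟨c, hc ▸ Subgroup.mem_zpowers c⟩
      rwa [Subgroup.orderOf_mk] at this
    have hle : orderOf c ≤ orderOf u := humax c (Finset.mem_filter.mpr ⟨Finset.mem_univ _, hco⟩)
    have heq : Subgroup.zpowers u = Subgroup.zpowers c :=
      Subgroup.eq_of_le_of_card_ge (hc.symm ▸ le_sup_left) (by rwa [Nat.card_zpowers, Nat.card_zpowers])
    rw [heq, hc]
    exact Subgroup.mem_sup_right (Subgroup.mem_zpowers w)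
  have hbound : Nat.card S ≤ q ^ k := by
    rw [← hk, ← Nat.card_zpowers, ← Subgroup.card_map_of_injective (Subgroup.subtype_injective
      (Subgroup.centralizer ({u} : Set (G ⧸ N)))) (K := (S : Subgroup _))]
    exact Subgroup.card_le_of_le hS'le
  -- a lift
  obtain ⟨g, rfl⟩ := QuotientGroup.mk_surjective u
  set m := (orderOf g) / q ^ (orderOf g).factorization q
  have hm : m.Coprime q := (Nat.coprime_ordCompl hq (orderOf_pos g).ne').symm
  obtain ⟨b, hb⟩ := Nat.exists_mul_mod_eq_one_of_coprime ((hm.pow_right k)) (Nat.one_lt_pow hk0 hq.one_lt)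
  set t := g ^ (m * b) with ht
  have htu : (QuotientGroup.mk t : G ⧸ N) = g := by
    rw [ht, QuotientGroup.mk_pow, ← pow_mod_orderOf, hk, hb.2, pow_one]
  have htN : t ∉ N := fun hmem => by
    have := (QuotientGroup.eq_one_iff t).mpr hmem
    rw [htu] at this
    rw [this, orderOf_one] at hk
    exact hk0 ((Nat.pow_eq_one.mp hk.symm).resolve_left hq.one_lt.ne')
  have htq : IsPGroup q (Subgroup.zpowers t) := by
    have hd : orderOf t ∣ q ^ (orderOf g).factorization q := by
      refine orderOf_dvd_of_pow_eq_one ?_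
      rw [ht, ← pow_mul, show m * b * q ^ (orderOf g).factorization q =
        q ^ (orderOf g).factorization q * m * b by ring,
        Nat.ordProj_mul_ordCompl_eq_self, pow_mul, pow_orderOf_eq_one, one_pow]
    obtain ⟨i, -, hi⟩ := (Nat.dvd_prime_pow hq).mp hd
    exact IsPGroup.of_card (Nat.card_zpowers t ▸ hi)
  -- a fixed central element of order `q`
  let Z : Subgroup G :=
    { carrier := {z | z ∈ N ∧ (∀ n ∈ N, Commute z n) ∧ z ^ q = 1}
      one_mem' := ⟨N.one_mem, fun n _ => Commute.one_left n, one_pow q⟩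
      mul_mem' := fun {a b} ha hb => ⟨N.mul_mem ha.1 hb.1, fun n hn => (ha.2.1 n hn).mul_left (hb.2.1 n hn),
        by rw [(ha.2.1 b hb.1).mul_pow, ha.2.2, hb.2.2, one_mul]⟩
      inv_mem' := fun {a} ha => ⟨N.inv_mem ha.1, fun n hn => (ha.2.1 n hn).inv_left,
        by rw [inv_pow, ha.2.2, inv_one]⟩ }
  haveI : Z.Normal := ⟨fun z ⟨hz1, hz2, hz3⟩ g => ⟨‹N.Normal›.conj_mem z hz1 g, fun n hn => by
      have h1 := hz2 (g⁻¹ * n * g) (by simpa using ‹N.Normal›.conj_mem n hn g⁻¹)
      simpa [mul_assoc] using h1.map (MulAut.conj g).toMonoidHom,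
    by rw [conj_pow, hz3]; simp⟩⟩
  letI : MulAction (Subgroup.zpowers t) Z :=
    MulAction.compHom Z ((MulAut.conjNormal (H := Z)).comp (Subgroup.zpowers t).subtype)
  have hqZ : q ∣ Nat.card Z := by
    obtain ⟨z, hzo, hzc⟩ := hcentral q hq hqN
    have hzq : (z : G) ^ q = 1 := by
      rw [← SubmonoidClass.coe_pow, ← hzo, pow_orderOf_eq_one, OneMemClass.coe_one]
    have := orderOf_dvd_natCard (⟨z, z.2, fun n hn => congrArg Subtype.val
      (Subgroup.mem_center_iff.mp hzc ⟨n, hn⟩).symm, hzq⟩ : Z)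
    rw [← Subgroup.orderOf_coe] at this
    simp only [Subgroup.orderOf_coe, hzo] at this
    exact this
  obtain ⟨z, hz, hz1⟩ := htq.exists_fixed_point_of_prime_dvd_card_of_fixed_point Z hqZ
    (a := 1) (fun x => map_one (MulAut.conjNormal (H := Z) (x : G)))
  have hzc : Commute t (z : G) := by
    have h1 := congrArg Subtype.val (hz ⟨t, Subgroup.mem_zpowers t⟩)
    exact mul_inv_eq_iff_eq_mul.mp h1
  let W := Subgroup.zpowers t ⊔ Subgroup.zpowers (z : G)
  have hW : W ≤ Subgroup.centralizer ({t} : Set G) := by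
    refine sup_le (Subgroup.zpowers_le.mpr ?_) (Subgroup.zpowers_le.mpr ?_)
    · exact Subgroup.mem_centralizer_singleton_iff.mpr rfl
    · exact Subgroup.mem_centralizer_singleton_iff.mpr hzc.symm.eq
  have hWq : IsPGroup q W := by
    refine IsPGroup.to_sup_of_normal_right' htq ?_ ?_
    · refine fun x => ⟨1, ?_⟩
      obtain ⟨_, i, rfl⟩ := x
      exact Subtype.ext (by rw [SubmonoidClass.coe_pow, pow_one, ← zpow_natCast, ← zpow_mul,
        mul_comm, zpow_mul, zpow_natCast, z.2.2.2, one_zpow, OneMemClass.coe_one])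
    · rw [Subgroup.zpowers_eq_closure, Subgroup.closure_le, Set.singleton_subset_iff, SetLike.mem_coe,
        Subgroup.mem_normalizer_iff]
      intro y
      constructor
      · rintro ⟨i, rfl⟩
        exact ⟨i, by simp only; rw [(hzc.zpow_right i).eq, mul_inv_cancel_right]⟩
      · rintro ⟨i, hi⟩
        refine ⟨i, ?_⟩
        simp only at hi ⊢
        rw [show y = t⁻¹ * (t * y * t⁻¹) * t by group, ← hi, mul_assoc, ← (hzc.zpow_right i).eq,
          inv_mul_cancel_left]
  obtain ⟨a, ha⟩ := IsPGroup.iff_card.mp hWq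
  have hdvd : q ^ a ∣ Nat.card (Subgroup.centralizer ({(g : G ⧸ N)} : Set (G ⧸ N))) := by
    have := h.card_centralizer htN
    rw [htu] at this
    rw [← ha, ← this]
    exact Subgroup.card_dvd_of_le hW
  obtain ⟨K, hK⟩ := Sylow.exists_subgroup_card_pow_prime q hdvd
  obtain ⟨S2, hS2⟩ := (IsPGroup.of_card hK).exists_le_sylow
  have hWle : Nat.card W ≤ q ^ k := by
    rw [ha, ← hK]
    refine (Subgroup.card_le_of_le hS2).trans ?_
    rw [S2.card_eq_multiplicity, ← S.card_eq_multiplicity]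
    exact hbound
  have hsplit := Subgroup.card_eq_card_quotient_mul_card_subgroup ((QuotientGroup.mk' N).comp W.subtype).ker
  rw [Nat.card_congr (QuotientGroup.quotientKerEquivRange _).toEquiv] at hsplit
  have hrange : q ^ k ≤ Nat.card ((QuotientGroup.mk' N).comp W.subtype).range := by
    rw [← hk, ← Nat.card_zpowers]
    refine Subgroup.card_le_of_le (Subgroup.zpowers_le.mpr ⟨⟨t, Subgroup.mem_sup_left (Subgroup.mem_zpowers t)⟩, htu⟩)
  have hker : 1 < Nat.card ((QuotientGroup.mk' N).comp W.subtype).ker := by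
    rw [Subgroup.one_lt_card_iff_ne_bot]
    intro hb'
    have h1 : (⟨(z : G), Subgroup.mem_sup_right (Subgroup.mem_zpowers _)⟩ : W) ∈
        ((QuotientGroup.mk' N).comp W.subtype).ker :=
      MonoidHom.mem_ker.mpr ((QuotientGroup.eq_one_iff (z : G)).mpr z.2.1)
    rw [hb', Subgroup.mem_bot] at h1
    exact hz1.symm (Subtype.ext (congrArg (fun w : W => (w : G)) h1))
  have : 0 < q ^ k := pow_pos hq.pos k
  nlinarith

/-- Thompson: a prime dividing the index but not the order makes `N` nilpotent. -/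
theorem Pair.isNilpotent [Finite G] [N.Normal] (h : Pair N) {q : ℕ} (hq : q.Prime) (hqi : q ∣ N.index)
    (hqN : ¬ q ∣ Nat.card N) : Group.IsNilpotent N := by
  haveI := Fact.mk hq
  obtain ⟨g, hg⟩ := exists_prime_orderOf_dvd_card' (G := G) q (hqi.trans N.index_dvd_card)
  have hgN : g ∉ N := fun hmem => hqN (hg ▸ Subgroup.orderOf_dvd_natCard _ hmem)
  refine Frobenius.isNilpotent_of_fpf (Nat.card N) hq N (MulAut.conjNormal g) rfl (fun n hn => ?_) (fun n => ?_)
  · have h1 := congrArg Subtype.val hn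
    rw [MulAut.conjNormal_apply] at h1
    refine Subtype.ext (h.eq_one_of_commute hgN n.2 (mul_inv_eq_iff_eq_mul.mp h1) ?_)
    rw [hg]
    exact (hq.coprime_iff_not_dvd).mpr fun hd => hqN (hd.trans (Subgroup.orderOf_dvd_natCard _ n.2))
  · have h1 : (MulAut.conjNormal (H := N) g) ^ q = 1 := by
      rw [← map_pow, ← hg, pow_orderOf_eq_one, map_one]
    have h2 := DFunLike.congr_fun h1 n
    rw [MulAut.one_apply] at h2
    refine Eq.trans ?_ h2
    clear h1 h2 hg hqi hqN hq this
    induction q with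
    | zero => rfl
    | succ j ih => rw [Function.iterate_succ_apply', ih, pow_succ', MulAut.mul_apply]

end Cfsg.Agent.H75.Camina
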