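import Mathlib

/-!
# Modular representations of groups with a cyclic trivial-intersection Sylow subgroup

Let `P = ⟨x⟩` be a trivial-intersection Sylow `p`-subgroup of order `q` and `ρ` a representation in
characteristic `p` of degree `d < q`. If `φ` commutes with `ρ (N_G P)`, the sum `Φ` of its
conjugates over `G ⧸ N_G(P)` differs from `φ` by a sum over `P`, whose range lies in that of
`(ρ x - 1) ^ (q - d)`. Taking for `φ` the sum of `ρ (x ^ g) - 1` over `g ∈ N ⧸ P` gives
`q ≤ d + p - 1` for a faithful irreducible `ρ`.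
-/

set_option linter.unusedSectionVars false
set_option linter.style.haveILetI false

open scoped Pointwise

namespace Cfsg.Agent.H75.CyclicTIModular

section Ring

variable {F : Type*} [Field F] {p : ℕ} [hp : Fact p.Prime] [CharP F p]
  {V : Type*} [AddCommGroup V] [Module F V] [FiniteDimensional F V]

local notation "E" => Module.End F V

/-- In characteristic `p`, the sum of the powers below `p ^ n` is the `(p ^ n - 1)`-st power of
the difference. -/
theorem geom_sum_char {R : Type*} [Ring R] [Algebra F R] (A : R) (n : ℕ) :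
    ∑ i ∈ Finset.range (p ^ n), A ^ i = (A - 1) ^ (p ^ n - 1) := by
  have h0 : (∑ i ∈ Finset.range (p ^ n), (Polynomial.X : Polynomial F) ^ i) =
      (Polynomial.X - 1) ^ (p ^ n - 1) := by
    have hne : (Polynomial.X - 1 : Polynomial F) ≠ 0 := Polynomial.X_sub_C_ne_zero (1 : F)
    refine mul_right_cancel₀ hne ?_
    rw [geom_sum_mul, ← pow_succ, Nat.sub_add_cancel (Nat.one_le_pow _ _ hp.out.pos),
      sub_pow_char_pow, one_pow]
  have h := congrArg (Polynomial.aeval A) h0
  simpa using h

/-- A sum over a cyclic group of conjugates has small range. -/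
theorem range_sum_conj_le [Nontrivial V] (X : E) (n : ℕ) (hX : X ^ (p ^ n) = 1) (ψ : E) :
    LinearMap.range (∑ i ∈ Finset.range (p ^ n), X ^ i * ψ * X ^ (p ^ n - i)) ≤
      LinearMap.range ((X - 1) ^ (p ^ n - Module.finrank F V)) := by
  classical
  haveI : CharP E p := charP_of_injective_algebraMap (algebraMap F E).injective p
  set q := p ^ n with hq
  set d := Module.finrank F V
  have hq1 : 1 ≤ q := Nat.one_le_pow _ _ hp.out.pos
  set Y : E := X - 1 with hY
  have hYq : Y ^ q = 0 := by
    rw [hY, hq, sub_pow_char_pow_of_commute p n (Commute.one_right X), ← hq, hX, one_pow, sub_self]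
  have hYd : Y ^ d = 0 := by
    have h := LinearMap.aeval_self_charpoly Y
    rwa [IsNilpotent.charpoly_eq_X_pow_finrank (φ := Y) ⟨q, hYq⟩, Polynomial.aeval_X_pow] at h
  set X' : E := X ^ (q - 1) with hX'
  have hXX : X' * X = 1 := by rw [hX', ← pow_succ, Nat.sub_add_cancel hq1, hX]
  set L : Module.End F E := LinearMap.mulLeft F Y
  set R : Module.End F E := LinearMap.mulRight F Y
  set M : Module.End F E := LinearMap.mulRight F X'
  set A : Module.End F E := LinearMap.mulLeft F X * M
  have hLR : Commute L R := by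
    ext χ v
    simp [L, R, mul_assoc]
  have hLRM : Commute (L - R) M := by
    have hc : Commute X' Y := by
      rw [hX', hY]
      exact ((Commute.self_pow X _).symm).sub_right (Commute.one_right _)
    refine LinearMap.ext fun χ => ?_
    show Y * (χ * X') - (χ * X') * Y = (Y * χ - χ * Y) * X'
    rw [sub_mul (Y * χ) (χ * Y) X', mul_assoc Y χ, mul_assoc χ Y, ← hc.eq, mul_assoc χ X' Y]
  have hA : A - 1 = (L - R) * M := by
    refine LinearMap.ext fun χ => ?_
    show X * (χ * X') - χ = Y * (χ * X') - χ * X' * Y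
    rw [hY]
    have h1 : (X - 1) * (χ * X') - χ * X' * (X - 1) = X * (χ * X') - χ := by
      rw [sub_mul, mul_sub, mul_assoc χ X', hXX, mul_one, one_mul, mul_one]
      abel
    exact h1.symm
  have hAi : ∀ i ≤ q, ∀ χ : E, (A ^ i) χ = X ^ i * χ * X ^ (q - i) := by
    intro i hi χ
    have hinv : ∀ j, j ≤ q → X' ^ j = X ^ (q - j) := by
      intro j hj
      have h1 : X' ^ j * X ^ j = 1 := by
        rw [hX', ← pow_mul, ← pow_add, show (q - 1) * j + j = q * j by
          rw [Nat.sub_mul, one_mul, Nat.sub_add_cancel (Nat.le_mul_of_pos_left _ hq1)], pow_mul, hX,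
          one_pow]
      have h2 : X ^ (q - j) * X ^ j = 1 := by rw [← pow_add, Nat.sub_add_cancel hj, hX]
      have h3 : X ^ j * X ^ (q - j) = 1 := by rw [← pow_add, Nat.add_sub_cancel' hj, hX]
      exact left_inv_eq_right_inv h1 h3
    have hpow : ∀ j, (A ^ j) χ = X ^ j * χ * X' ^ j := by
      intro j
      induction j with
      | zero => simp
      | succ j ih =>
        rw [pow_succ', Module.End.mul_apply, ih]
        simp only [A, M, Module.End.mul_apply, LinearMap.mulLeft_apply, LinearMap.mulRight_apply,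
          pow_succ' X, pow_succ X']
        simp only [mul_assoc]
    rw [hpow, hinv i hi]
  have hsum : ∑ i ∈ Finset.range q, X ^ i * ψ * X ^ (q - i) =
      ((L - R) ^ (q - 1)) ((M ^ (q - 1)) ψ) := by
    have h := congrArg (fun f : Module.End F E => f ψ) (geom_sum_char (p := p) (F := F) A n)
    simp only [LinearMap.sum_apply] at h
    rw [← hq, hA, hLRM.mul_pow, Module.End.mul_apply] at h
    rw [← h]
    exact Finset.sum_congr rfl fun i hi => (hAi i (Finset.mem_range.1 hi).le ψ).symm
  rw [hsum]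
  set χ := (M ^ (q - 1)) ψ
  have hterm : ∀ i j : ℕ, i + j = q - 1 →
      LinearMap.range ((L ^ i * (-R) ^ j) χ) ≤ LinearMap.range (Y ^ (q - d)) := by
    intro i j hij
    have hR : (-R) ^ j = (-1 : Module.End F E) ^ j * LinearMap.mulRight F (Y ^ j) := by
      rw [← LinearMap.pow_mulRight]
      exact neg_pow (R := Module.End F E) R j
    have hval : (L ^ i * (-R) ^ j) χ = Y ^ i * ((-1 : F) ^ j • (χ * Y ^ j)) := by
      rw [hR, LinearMap.pow_mulLeft]
      have h1 : ((-1 : Module.End F E) ^ j) = algebraMap F (Module.End F E) ((-1) ^ j) := by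
        rw [map_pow, map_neg, map_one]
      rw [h1, ← Algebra.smul_def]
      show Y ^ i * ((-1 : F) ^ j • (χ * Y ^ j)) = _
      rfl
    rw [hval]
    rcases le_or_gt (q - d) i with h | h
    · rw [show Y ^ i = Y ^ (q - d) * Y ^ (i - (q - d)) by rw [← pow_add, Nat.add_sub_cancel' h],
        mul_assoc]
      exact LinearMap.range_comp_le_range _ _
    · rw [show Y ^ j = Y ^ d * Y ^ (j - d) by rw [← pow_add, Nat.add_sub_cancel' (by omega)], hYd,
        zero_mul, mul_zero, smul_zero, mul_zero, LinearMap.range_zero]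
      exact bot_le
  have hexp : ((L - R) ^ (q - 1)) χ =
      ∑ i ∈ Finset.range (q - 1 + 1), ((q - 1).choose i) • ((L ^ i * (-R) ^ (q - 1 - i)) χ) := by
    rw [sub_eq_add_neg, hLR.neg_right.add_pow, LinearMap.sum_apply]
    refine Finset.sum_congr rfl fun i _ => ?_
    rw [← (Nat.cast_commute _ _).eq, ← nsmul_eq_mul, LinearMap.smul_apply]
  rw [hexp]
  rintro v ⟨w, rfl⟩
  rw [LinearMap.sum_apply]
  refine Submodule.sum_mem _ fun i hi => ?_
  rw [LinearMap.smul_apply]
  exact Submodule.smul_of_tower_mem _ _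
    (hterm i (q - 1 - i) (by have := Finset.mem_range.1 hi; omega) ⟨w, rfl⟩)

/-- A sum, indexed by a set of order prime to `p`, of `(1 + T) ^ e - 1` with the `e` prime to `p`
has a binomial coefficient below `p` which is nonzero. -/
theorem exists_coeff_ne_zero {ι : Type*} [Fintype ι] (e : ι → ℕ) (he : ∀ i, ¬ p ∣ e i)
    (hι : ¬ p ∣ Fintype.card ι) :
    ∃ k, 1 ≤ k ∧ k < p ∧ (∑ i, ((e i).choose k : F)) ≠ 0 := by
  classical
  by_contra hcon
  push Not at hcon
  let N : ℕ → F := fun r => ((Finset.univ.filter fun i => e i % p = r).card : F)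
  have hcol : ∀ k, k < p → (∑ i, ((e i).choose k : F)) = ∑ r ∈ Finset.range p, N r * (r.choose k : F) := by
    intro k hk
    have h1 : ∀ i, ((e i).choose k : F) = ((e i % p).choose k : F) := by
      intro i
      have h := Choose.choose_modEq_choose_mod_mul_choose_div_nat (p := p) (n := e i) (k := k)
      rw [Nat.mod_eq_of_lt hk, Nat.div_eq_of_lt hk, Nat.choose_zero_right, mul_one] at h
      exact (CharP.natCast_eq_natCast F p).2 h
    simp only [h1]
    rw [← Finset.sum_fiberwise_of_maps_to (g := fun i => e i % p) (t := Finset.range p)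
      fun i _ => Finset.mem_range.2 (Nat.mod_lt _ hp.out.pos)]
    refine Finset.sum_congr rfl fun r _ => ?_
    rw [Finset.sum_congr rfl fun i hi => by rw [(Finset.mem_filter.1 hi).2], Finset.sum_const,
      nsmul_eq_mul]
  have hN : ∀ j, ∀ r, 1 ≤ r → r < p → p - r ≤ j → N r = 0 := by
    intro j
    induction j with
    | zero => intro r _ h2 h3; omega
    | succ j ih =>
      intro r h1 h2 h3
      have h := hcon r h1 h2
      rw [hcol r h2, Finset.sum_eq_single r] at h
      · simpa using h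
      · intro s hs hsr
        rcases lt_or_gt_of_ne hsr with hlt | hgt
        · rw [Nat.choose_eq_zero_of_lt hlt, Nat.cast_zero, mul_zero]
        · rw [ih s (by omega) (Finset.mem_range.1 hs) (by omega), zero_mul]
      · intro h'; exact absurd (Finset.mem_range.2 h2) h'
  have htot : (Fintype.card ι : F) = ∑ r ∈ Finset.range p, N r := by
    rw [← Finset.card_univ, Finset.card_eq_sum_card_fiberwise (f := fun i => e i % p)
      (t := Finset.range p) fun i _ => Finset.mem_range.2 (Nat.mod_lt _ hp.out.pos), Nat.cast_sum]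
  rw [Finset.sum_eq_zero] at htot
  · exact hι ((CharP.cast_eq_zero_iff F p _).1 htot)
  · intro r hr
    rcases Nat.eq_zero_or_pos r with rfl | h
    · have : (Finset.univ.filter fun i => e i % p = 0) = ∅ :=
        Finset.filter_eq_empty_iff.2 fun i _ h => he i (Nat.dvd_of_mod_eq_zero h)
      simp [N, this]
    · exact hN p r h (Finset.mem_range.1 hr) (by omega)

/-- The sum of the `(1 + Y) ^ e - 1` is `Y ^ k` times a unit for some `0 < k < p`. -/
theorem exists_factor {ι : Type*} [Fintype ι] (e : ι → ℕ) (he : ∀ i, ¬ p ∣ e i)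
    (hι : ¬ p ∣ Fintype.card ι) (Y : E) (hY : IsNilpotent Y) :
    ∃ k W, 1 ≤ k ∧ k < p ∧ IsUnit W ∧ ∑ i, ((1 + Y) ^ e i - 1) = Y ^ k * W := by
  classical
  have hex := exists_coeff_ne_zero (p := p) (F := F) e he hι
  let k := Nat.find hex
  obtain ⟨hk1, hkp, hk⟩ := Nat.find_spec hex
  let a : ℕ → F := fun j => ∑ i, ((e i).choose j : F)
  have hsmall : ∀ j, 1 ≤ j → j < k → a j = 0 := by
    intro j h1 h2
    by_contra h
    exact Nat.find_min hex h2 ⟨h1, lt_trans h2 hkp, h⟩
  let B := Finset.univ.sup e + k + 1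
  have hB : ∀ i, e i < B := fun i => by
    have := Finset.le_sup (f := e) (Finset.mem_univ i)
    omega
  let W : E := ∑ j ∈ Finset.range B, a (k + j) • Y ^ j
  refine ⟨k, W, hk1, hkp, ?_, ?_⟩
  · have hW : W = algebraMap F E (a k) + Y * ∑ j ∈ Finset.range (B - 1), a (k + (j + 1)) • Y ^ j := by
      simp only [W]
      conv_lhs => rw [show B = B - 1 + 1 by omega]
      rw [Finset.sum_range_succ', Finset.mul_sum]
      rw [add_zero, pow_zero, ← Algebra.algebraMap_eq_smul_one, add_comm]
      congr 1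
      exact Finset.sum_congr rfl fun j _ => by rw [mul_smul_comm, pow_succ']
    rw [hW]
    have hc : Commute Y (∑ j ∈ Finset.range (B - 1), a (k + (j + 1)) • Y ^ j) :=
      Commute.sum_right _ _ _ fun j _ => (Commute.self_pow Y j).smul_right _
    refine (hc.isNilpotent_mul_right hY).isUnit_add_left_of_commute ?_ (Algebra.commutes (a k) _).symm
    exact (isUnit_iff_ne_zero.2 hk).map _
  · have hexp : ∀ i, (1 + Y) ^ e i - 1 = ∑ j ∈ Finset.Ico 1 (k + B), ((e i).choose j : F) • Y ^ j := by
      intro i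
      have h1 : (1 + Y) ^ e i = ∑ j ∈ Finset.range (k + B), ((e i).choose j : F) • Y ^ j := by
        rw [add_comm, (Commute.one_right Y).add_pow]
        refine (Finset.sum_congr rfl fun j _ => ?_).trans
          (Finset.sum_subset (Finset.range_subset_range.2 (by have := hB i; omega)) ?_)
        · rw [one_pow, mul_one, ← (Nat.cast_commute _ _).eq, ← nsmul_eq_mul, Nat.cast_smul_eq_nsmul]
        · intro j _ hj
          rw [Finset.mem_range, not_lt] at hj
          rw [Nat.choose_eq_zero_of_lt (by omega), Nat.cast_zero, zero_smul]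
      rw [h1, Finset.range_eq_Ico, Finset.sum_eq_sum_Ico_succ_bot (show 0 < k + B by omega),
        Nat.choose_zero_right, Nat.cast_one, one_smul, pow_zero, add_sub_cancel_left]
    simp only [hexp]
    rw [Finset.sum_comm]
    simp only [← Finset.sum_smul]
    rw [← Finset.sum_Ico_consecutive _ hk1 (show k ≤ k + B by omega),
      Finset.sum_eq_zero (fun j hj => by
        have := Finset.mem_Ico.1 hj
        show a j • Y ^ j = 0
        rw [hsmall j this.1 this.2, zero_smul]), zero_add]
    simp only [W, Finset.mul_sum]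
    rw [Finset.sum_Ico_eq_sum_range, Nat.add_sub_cancel_left]
    exact Finset.sum_congr rfl fun j _ => by rw [mul_smul_comm, pow_add]

/-- Contradiction from a map commuting with `Y` that is `Y ^ k` times a unit up to a deeper
range. -/
theorem false_of_deep (Y W Φ : E) (hY : IsNilpotent Y) {k m : ℕ} (hkm : k < m) (hk : 1 ≤ k)
    (hYk : Y ^ k ≠ 0) (hW : IsUnit W)
    (hΦ : Φ = 0 ∨ LinearMap.range Φ = ⊤)
    (h : LinearMap.range (Φ - Y ^ k * W) ≤ LinearMap.range (Y ^ m)) : False := by
  obtain ⟨N, hN⟩ := hY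
  have hle : LinearMap.range (Y ^ m) ≤ LinearMap.range (Y ^ (k + 1)) := by
    rw [show m = k + 1 + (m - (k + 1)) by omega, pow_add]
    exact LinearMap.range_comp_le_range _ _
  rcases hΦ with h0 | h0
  · rw [h0, zero_sub, LinearMap.range_neg] at h
    have h1 : LinearMap.range (Y ^ k) ≤ LinearMap.range (Y ^ (k + 1)) := by
      obtain ⟨u, rfl⟩ := hW
      refine le_trans ?_ (h.trans hle)
      rintro v ⟨w, rfl⟩
      refine ⟨(↑u⁻¹ : E) w, ?_⟩
      rw [← Module.End.mul_apply, mul_assoc, u.mul_inv, mul_one]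
    have h2 : ∀ j, LinearMap.range (Y ^ k) ≤ LinearMap.range (Y ^ (k + j)) := by
      intro j
      induction j with
      | zero => rfl
      | succ j ih =>
        rintro v hv
        obtain ⟨w, rfl⟩ := ih hv
        obtain ⟨z, hz⟩ := h1 ⟨w, rfl⟩
        refine ⟨z, ?_⟩
        conv_rhs => rw [show k + j = j + k by omega]
        rw [show k + (j + 1) = j + (k + 1) by omega, pow_add (m := j), pow_add (m := j) (n := k),
          Module.End.mul_apply, Module.End.mul_apply, hz]
    refine hYk (LinearMap.range_eq_bot.1 (eq_bot_iff.2 ((h2 N).trans ?_)))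
    rw [pow_add, hN, mul_zero, LinearMap.range_zero]
  · have hone : LinearMap.range (Y ^ 1) = ⊤ := by
      refine eq_top_iff.2 fun v _ => ?_
      obtain ⟨w, rfl⟩ : v ∈ LinearMap.range Φ := by rw [h0]; trivial
      have h1 : (Φ - Y ^ k * W) w ∈ LinearMap.range (Y ^ 1) := by
        refine ((h.trans hle).trans ?_) ⟨w, rfl⟩
        rw [add_comm k 1, pow_add]
        exact LinearMap.range_comp_le_range _ _
      have h2 : (Y ^ k * W) w ∈ LinearMap.range (Y ^ 1) := by
        rw [show k = 1 + (k - 1) by omega, pow_add, mul_assoc]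
        exact ⟨_, rfl⟩
      have h3 := add_mem h1 h2
      rwa [LinearMap.sub_apply, sub_add_cancel] at h3
    have hall : ∀ j, LinearMap.range (Y ^ j) = ⊤ := by
      intro j
      induction j with
      | zero => rw [pow_zero]; exact LinearMap.range_id
      | succ j ih =>
        rw [pow_succ', Module.End.mul_eq_comp, LinearMap.range_comp, ih, Submodule.map_top]
        simpa using hone
    refine hYk ?_
    have := hall N
    rw [hN, LinearMap.range_zero] at this
    have hsub : ∀ v : V, v = 0 := fun v => (Submodule.mem_bot F).1 (this ▸ Submodule.mem_top)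
    exact LinearMap.ext fun v => hsub _

end Ring

section Group

variable {G : Type*} [Group G] [Finite G] {p : ℕ} [hp : Fact p.Prime] (P : Sylow p G)

/-- A trivial-intersection Sylow subgroup is semiregular on the other cosets of its normalizer. -/
theorem eq_one_of_fix (hTI : ∀ Q : Sylow p G, Q ≠ P → (P : Subgroup G) ⊓ (Q : Subgroup G) = ⊥)
    {g : G} (hg : g ∉ Subgroup.normalizer ((P : Subgroup G) : Set G)) {u : G}
    (hu : u ∈ (P : Subgroup G)) (h : g⁻¹ * u * g ∈ Subgroup.normalizer ((P : Subgroup G) : Set G)) :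
    u = 1 := by
  have hne : g • P ≠ P := fun h' => hg (Sylow.smul_eq_iff_mem_normalizer.1 h')
  obtain ⟨k, hk⟩ := P.2 ⟨u, hu⟩
  have hk' : u ^ p ^ k = 1 := by simpa using congrArg Subtype.val hk
  have hpg : IsPGroup p (Subgroup.zpowers (g⁻¹ * u * g)) := by
    obtain ⟨j, -, hj⟩ := (Nat.dvd_prime_pow hp.out).1
      ((orderOf_dvd_of_pow_eq_one (by
        rw [show g⁻¹ * u * g = g⁻¹ * u * g⁻¹⁻¹ by rw [inv_inv], conj_pow, hk', mul_one, inv_inv,
          inv_mul_cancel])) : orderOf (g⁻¹ * u * g) ∣ p ^ k)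
    exact IsPGroup.of_card (n := j) (by rw [Nat.card_zpowers, hj])
  have hvP : g⁻¹ * u * g ∈ (P : Subgroup G) :=
    (le_of_eq (hpg.inf_normalizer_sylow P) ⟨Subgroup.mem_zpowers _, h⟩).2
  have hmem : u ∈ ((g • P : Sylow p G) : Subgroup G) := by
    have h' := Subgroup.smul_mem_pointwise_smul (g⁻¹ * u * g) (MulAut.conj g) _ hvP
    rw [MulAut.smul_def, MulAut.conj_apply] at h'
    simp only [mul_assoc, mul_inv_cancel, mul_one, mul_inv_cancel_left] at h'
    exact h'
  have h2 : u ∈ (P : Subgroup G) ⊓ ((g • P : Sylow p G) : Subgroup G) := ⟨hu, hmem⟩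
  rwa [hTI _ hne, Subgroup.mem_bot] at h2

variable {F : Type*} [Field F] [CharP F p] {V : Type*} [AddCommGroup V] [Module F V]
  [FiniteDimensional F V] (ρ : Representation F G V)

/-- Conjugation of a linear map. -/
def act (g : G) (φ : Module.End F V) : Module.End F V := ρ g * φ * ρ g⁻¹

theorem act_mul (g h : G) (φ : Module.End F V) : act ρ (g * h) φ = act ρ g (act ρ h φ) := by
  simp only [act, mul_inv_rev, map_mul, mul_assoc]

theorem act_sum {ι : Type*} (s : Finset ι) (g : G) (f : ι → Module.End F V) :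
    act ρ g (∑ i ∈ s, f i) = ∑ i ∈ s, act ρ g (f i) := by
  simp only [act, Finset.mul_sum, Finset.sum_mul]

/-- The coset sum commutes with the group and differs from the map by a sum over `P`. -/
theorem exists_transfer [Fintype (P : Subgroup G)]
    (hTI : ∀ Q : Sylow p G, Q ≠ P → (P : Subgroup G) ⊓ (Q : Subgroup G) = ⊥)
    (φ : Module.End F V)
    (hφ : ∀ g ∈ Subgroup.normalizer ((P : Subgroup G) : Set G), act ρ g φ = φ) :
    ∃ Φ ψ : Module.End F V, (∀ g, ρ g * Φ = Φ * ρ g) ∧
      Φ - φ = ∑ u : (P : Subgroup G), act ρ (u : G) ψ := by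
  classical
  set N := Subgroup.normalizer ((P : Subgroup G) : Set G) with hN
  haveI : Fintype (G ⧸ N) := Fintype.ofFinite _
  let f : G ⧸ N → Module.End F V := fun q => act ρ q.out φ
  have hf : ∀ g : G, f (g : G ⧸ N) = act ρ g φ := by
    intro g
    obtain ⟨m, hm⟩ := QuotientGroup.mk_out_eq_mul N g
    show act ρ (g : G ⧸ N).out φ = _
    rw [hm, act_mul, hφ _ m.2]
  have hsm : ∀ (g : G) (q : G ⧸ N), f (g • q) = act ρ g (f q) := by
    intro g q
    obtain ⟨a, rfl⟩ := QuotientGroup.mk_surjective q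
    rw [MulAction.Quotient.smul_mk, hf, hf, smul_eq_mul, act_mul]
  have hΦ : ∀ g, act ρ g (∑ q, f q) = ∑ q, f q := by
    intro g
    rw [act_sum]
    simp only [← hsm]
    exact Equiv.sum_comp (MulAction.toPerm g) f
  let π : G ⧸ N → Quotient (MulAction.orbitRel (P : Subgroup G) (G ⧸ N)) := fun q => Quotient.mk'' q
  let R : Finset (G ⧸ N) := Finset.univ.filter fun q => q ≠ ((1 : G) : G ⧸ N) ∧ (π q).out = q
  refine ⟨∑ q, f q, ∑ r ∈ R, f r, fun g => ?_, ?_⟩
  · have h := hΦ g
    rw [act] at h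
    conv_rhs => rw [← h]
    rw [mul_assoc _ _ (ρ g), ← map_mul, inv_mul_cancel, map_one, mul_one]
  have h1 : f ((1 : G) : G ⧸ N) = φ := by rw [hf, act, inv_one, map_one, one_mul, mul_one]
  rw [← Finset.add_sum_erase _ _ (Finset.mem_univ ((1 : G) : G ⧸ N)), h1, add_sub_cancel_left]
  simp only [act_sum]
  rw [← Finset.sum_product' (f := fun (u : (P : Subgroup G)) r => act ρ (u : G) (f r))]
  symm
  have hfix : ∀ (u : (P : Subgroup G)), u • ((1 : G) : G ⧸ N) = ((1 : G) : G ⧸ N) := by
    intro u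
    show ((u : G) • ((1 : G) : G ⧸ N)) = _
    rw [MulAction.Quotient.smul_mk, smul_eq_mul, mul_one, QuotientGroup.eq, mul_one]
    exact inv_mem (Subgroup.le_normalizer u.2)
  have hne : ∀ q : G ⧸ N, q ≠ ((1 : G) : G ⧸ N) → ∀ u : (P : Subgroup G),
      u • q ≠ ((1 : G) : G ⧸ N) := by
    intro q hq u h
    exact hq (MulAction.injective u (h.trans (hfix u).symm))
  refine Finset.sum_bij (fun x _ => x.1 • x.2) ?_ ?_ ?_ ?_
  · intro x hx
    exact Finset.mem_erase.2 ⟨hne _ (Finset.mem_filter.1 (Finset.mem_product.1 hx).2).2.1 _,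
      Finset.mem_univ _⟩
  · rintro ⟨u, r⟩ hx ⟨v, s⟩ hy h
    obtain ⟨-, hr1, hr2⟩ := Finset.mem_filter.1 (Finset.mem_product.1 hx).2
    obtain ⟨-, -, hs2⟩ := Finset.mem_filter.1 (Finset.mem_product.1 hy).2
    simp only at h hr1 hr2 hs2
    have hrs : r = s := by
      have : π r = π s := Quotient.sound' ⟨u⁻¹ * v, by
        show (u⁻¹ * v) • s = r
        rw [mul_smul, ← h, inv_smul_smul]⟩
      rw [← hr2, ← hs2, this]
    subst hrs
    have hf1 : (u⁻¹ * v) • r = r := by rw [mul_smul, ← h, inv_smul_smul]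
    obtain ⟨a, rfl⟩ := QuotientGroup.mk_surjective r
    have hw : (((u⁻¹ * v : (P : Subgroup G)) : G)) = 1 := by
      refine eq_one_of_fix P hTI (g := a) (fun ha => hr1 (QuotientGroup.eq.2 (by rw [mul_one]; exact inv_mem ha)))
        (u⁻¹ * v).2 ?_
      have h' : ((((u⁻¹ * v : (P : Subgroup G)) : G) * a : G) : G ⧸ N) = (a : G ⧸ N) := hf1
      rw [QuotientGroup.eq] at h'
      have := inv_mem h'
      rwa [mul_inv_rev, inv_inv, ← mul_assoc] at this
    exact Prod.ext (inv_mul_eq_one.1 (Subtype.ext hw)) rfl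
  · intro q hq
    obtain ⟨hq1, -⟩ := Finset.mem_erase.1 hq
    obtain ⟨u, hu⟩ : (π q).out ∈ MulAction.orbit (P : Subgroup G) q :=
      Quotient.exact' (Quotient.out_eq' (π q))
    refine ⟨⟨u⁻¹, (π q).out⟩, Finset.mem_product.2 ⟨Finset.mem_univ _, Finset.mem_filter.2
      ⟨Finset.mem_univ _, hu ▸ hne q hq1 u, ?_⟩⟩, ?_⟩
    · show (π (π q).out).out = (π q).out
      rw [show π (π q).out = π q from Quotient.out_eq' _]
    · show u⁻¹ • (π q).out = q
      rw [← hu, inv_smul_smul]
  · rintro ⟨u, r⟩ _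
    exact (hsm _ _).symm

/-- A faithful irreducible representation has degree at least `q - (p - 1)`. -/
theorem degree_bound (hcyc : IsCyclic P) (n : ℕ) (hn : 2 ≤ n) (hPn : Nat.card P = p ^ n)
    (hTI : ∀ Q : Sylow p G, Q ≠ P → (P : Subgroup G) ⊓ (Q : Subgroup G) = ⊥)
    (hfaith : Function.Injective ρ) (hirr : ρ.IsIrreducible) :
    p ^ n - (p - 1) ≤ Module.finrank F V := by
  classical
  by_contra hcon
  push Not at hcon
  set q := p ^ n with hq
  set d := Module.finrank F V
  haveI : Nontrivial V := by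
    by_contra h
    rw [not_nontrivial_iff_subsingleton] at h
    obtain ⟨a, b, hab⟩ := hirr.exists_pair_ne
    exact hab (Subrepresentation.ext (Subsingleton.elim _ _))
  haveI : CharP (Module.End F V) p :=
    charP_of_injective_algebraMap (algebraMap F (Module.End F V)).injective p
  haveI : Fintype (P : Subgroup G) := Fintype.ofFinite _
  obtain ⟨x', hx'⟩ := hcyc.exists_generator
  set x : G := (x' : G) with hxdef
  have hxo : orderOf x = q := by
    rw [hxdef, Subgroup.orderOf_coe, orderOf_eq_card_of_forall_mem_zpowers hx']; exact hPn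
  have hgen : ∀ v ∈ (P : Subgroup G), ∃ i, i < q ∧ x ^ i = v := by
    intro v hv
    obtain ⟨i, hi⟩ := (mem_powers_iff_mem_zpowers (x := x')).2 (hx' ⟨v, hv⟩)
    refine ⟨i % q, Nat.mod_lt _ (pow_pos hp.out.pos _), ?_⟩
    rw [← hxo, pow_mod_orderOf]
    exact congrArg Subtype.val hi
  set Y : Module.End F V := ρ x - 1 with hY
  have hXq : ρ x ^ q = 1 := by rw [← map_pow, ← hxo, pow_orderOf_eq_one, map_one]
  have hnil : IsNilpotent Y := ⟨q, by
    rw [hY, hq, sub_pow_char_pow_of_commute p n (Commute.one_right _), ← hq, hXq, one_pow, sub_self]⟩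
  have hYne : ∀ k, k < p → Y ^ k ≠ 0 := by
    intro k hk h0
    have hle : k ≤ p ^ (n - 1) := hk.le.trans
      (le_trans (pow_one p).ge (Nat.pow_le_pow_right hp.out.pos (by omega)))
    have h1 : Y ^ p ^ (n - 1) = 0 := pow_eq_zero_of_le hle h0
    rw [hY, sub_pow_char_pow_of_commute p (n - 1) (Commute.one_right _), one_pow, sub_eq_zero,
      ← map_pow, ← map_one ρ] at h1
    have h2 := orderOf_dvd_of_pow_eq_one (hfaith h1)
    rw [hxo, hq, Nat.pow_dvd_pow_iff_le_right hp.out.one_lt] at h2
    omega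
  set N := Subgroup.normalizer ((P : Subgroup G) : Set G) with hN
  let PN : Subgroup N := (P : Subgroup G).subgroupOf N
  haveI : Fintype (N ⧸ PN) := Fintype.ofFinite _
  have hcard : ¬ p ∣ Fintype.card (N ⧸ PN) := by
    rw [← Nat.card_eq_fintype_card]
    exact fun h => P.not_dvd_index (h.trans (Subgroup.relIndex_dvd_index_of_le Subgroup.le_normalizer))
  have hconj : ∀ g : N, (g : G) * x * (g : G)⁻¹ ∈ (P : Subgroup G) := fun g =>
    (Subgroup.mem_normalizer_iff.1 g.2 x).1 x'.2
  choose e heq hepow using fun c : N ⧸ PN => hgen _ (hconj c.out)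
  have hndvd : ∀ c, ¬ p ∣ e c := by
    intro c hd
    have h : orderOf (x ^ e c) = q := by
      rw [hepow, show ((c.out : N) : G) * x * ((c.out : N) : G)⁻¹ =
        MulAut.conj ((c.out : N) : G) x from rfl, MulEquiv.orderOf_eq, hxo]
    rw [orderOf_pow, hxo] at h
    have h2 : p ∣ q.gcd (e c) := Nat.dvd_gcd (dvd_pow_self p (by omega)) hd
    have h3 : q.gcd (e c) = 1 := by
      have hg0 : 0 < q.gcd (e c) := Nat.gcd_pos_of_pos_left _ (pow_pos hp.out.pos _)
      have h4 := Nat.mul_div_cancel' (Nat.gcd_dvd_left q (e c))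
      rw [h] at h4
      exact Nat.eq_of_mul_eq_mul_right (pow_pos hp.out.pos n) (h4.trans (one_mul q).symm)
    rw [h3, Nat.dvd_one] at h2
    exact hp.out.ne_one h2
  obtain ⟨k, W, hk1, hkp, hW, hfac⟩ := exists_factor (p := p) e hndvd hcard Y hnil
  set φ : Module.End F V := ∑ c, ((1 + Y) ^ e c - 1) with hφdef
  let h : N ⧸ PN → Module.End F V := fun c => ρ ((c.out : G) * x * (c.out : G)⁻¹) - 1
  have hφh : φ = ∑ c, h c := by
    refine Finset.sum_congr rfl fun c _ => ?_
    show _ = ρ _ - 1
    rw [← hepow, hY, add_sub_cancel, map_pow]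
  have hh : ∀ g : N, h (g : N ⧸ PN) = ρ ((g : G) * x * (g : G)⁻¹) - 1 := by
    intro g
    obtain ⟨m, hm⟩ := QuotientGroup.mk_out_eq_mul PN g
    show ρ _ - 1 = _
    obtain ⟨i, -, hi⟩ := hgen _ (Subgroup.mem_subgroupOf.1 m.2)
    rw [hm, Subgroup.coe_mul, ← hi]
    congr 2
    group
  have hφ : ∀ g ∈ N, act ρ g φ = φ := by
    intro g hg
    rw [hφh, act_sum]
    refine (Finset.sum_congr rfl fun c _ => ?_).trans
      (Equiv.sum_comp (MulAction.toPerm (⟨g, hg⟩ : N)) h)
    obtain ⟨b, rfl⟩ := QuotientGroup.mk_surjective c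
    show _ = h ((⟨g, hg⟩ : N) • (b : N ⧸ PN))
    rw [MulAction.Quotient.smul_mk, hh, hh, act, mul_sub, sub_mul, mul_one, ← map_mul, ← map_mul,
      ← map_mul, mul_inv_cancel, map_one, smul_eq_mul, Subgroup.coe_mul]
    congr 2
    group
  obtain ⟨Φ, ψ, hΦ, hsub⟩ := exists_transfer P ρ hTI φ hφ
  have hrange : LinearMap.range Φ = ⊥ ∨ LinearMap.range Φ = ⊤ := by
    let S : Subrepresentation ρ :=
      ⟨LinearMap.range Φ, fun g v ⟨w, hw⟩ => ⟨ρ g w, by
        rw [← hw, ← Module.End.mul_apply, ← hΦ, Module.End.mul_apply]⟩⟩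
    rcases hirr.eq_bot_or_eq_top S with h' | h'
    · exact Or.inl (congrArg Subrepresentation.toSubmodule h')
    · exact Or.inr (congrArg Subrepresentation.toSubmodule h')
  refine false_of_deep Y W Φ hnil (m := q - d) (by omega) hk1 (hYne k hkp) hW
    (hrange.imp_left LinearMap.range_eq_bot.1) ?_
  rw [← hfac, hsub]
  refine le_trans (le_of_eq ?_) (range_sum_conj_le (p := p) (ρ x) n hXq ψ)
  congr 1
  symm
  refine Finset.sum_bij (fun i _ => (⟨x ^ i, pow_mem x'.2 i⟩ : (P : Subgroup G))) ?_ ?_ ?_ ?_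
  · intro i _; exact Finset.mem_univ _
  · intro i hi j hj hij
    have := pow_inj_mod.1 (congrArg Subtype.val hij)
    rw [hxo, Nat.mod_eq_of_lt (Finset.mem_range.1 hi), Nat.mod_eq_of_lt (Finset.mem_range.1 hj)]
      at this
    exact this
  · intro u _
    obtain ⟨i, hi, hiu⟩ := hgen _ u.2
    exact ⟨i, Finset.mem_range.2 hi, Subtype.ext hiu⟩
  · intro i hi
    have hi' := Finset.mem_range.1 hi
    rw [act, map_pow]
    congr 1
    rw [← map_pow]
    refine congrArg ρ (eq_inv_of_mul_eq_one_left ?_)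
    rw [← pow_add, Nat.sub_add_cancel hi'.le, hq.symm, ← hxo, pow_orderOf_eq_one]

end Group

end Cfsg.Agent.H75.CyclicTIModular
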