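import Mathlib
import Cfsg.Agent.Coprime.Action
import Cfsg.Agent.Coprime.Abelian

/-!
For a `p`-group `A` acting coprimely on `V`, the fixed-point orders of its elements satisfy
`(∏_{x ∈ A} |C_V(x)|) ^ p ≤ |V| ^ |A| * |C_V(A)| ^ ((p - 1) |A|)`.
-/

set_option autoImplicit false

namespace Cfsg.Agent.H75

open Subgroup

universe u

/-- Independence of twisted fixed points. -/
theorem prod_twisted_fixed_le {M : Type u} [CommGroup M] [Finite M] {p : ℕ} [Fact p.Prime]
    (a b : MulAut M) (hab : Commute a b) (hb : b ^ p = 1) (hfix : ∀ w, b w = w → w = 1) :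
    ∏ i ∈ Finset.range p, Nat.card {w : M // a ((b ^ i) w) = w} ≤ Nat.card M := by
  classical
  have key : ∀ s : Finset ℕ, s ⊆ Finset.range p → ∀ w : ℕ → M, (∀ i ∈ s, a ((b ^ i) (w i)) = w i) →
      ∏ i ∈ s, w i = 1 → ∀ i ∈ s, w i = 1 := by
    intro s
    induction s using Finset.induction with
    | empty => simp
    | insert j s hj ih =>
      intro hs w hw h1
      have hs' : s ⊆ Finset.range p := (Finset.subset_insert j s).trans hs
      have hcomm : ∀ (i : ℕ) (c : MulAut M), Commute c b → Commute a c → a ((b ^ i) (w i)) = w i →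
          a ((b ^ i) (c (w i))) = c (w i) := by
        intro i c hcb hac hwi
        conv_rhs => rw [← hwi]
        show (a * b ^ i * c) (w i) = (c * (a * b ^ i)) (w i)
        rw [mul_assoc, (hcb.symm.pow_left i).eq, ← mul_assoc, hac.eq, mul_assoc]
      have haw : ∀ i, a ((b ^ i) (w i)) = w i → a (w i) = (b ^ i)⁻¹ (w i) := by
        intro i hwi
        have h2 := hcomm i (b ^ i)⁻¹ ((Commute.refl b).pow_left i).inv_left (hab.pow_right i).inv_right hwi
        rw [MulAut.apply_inv_self] at h2
        exact h2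
      have hrest : ∀ i ∈ s, (b ^ i)⁻¹ (w i) * ((b ^ j)⁻¹ (w i))⁻¹ = 1 := by
        refine ih hs' _ (fun i hi => ?_) ?_
        · have hwi := hw i (Finset.mem_insert_of_mem hi)
          rw [map_mul, map_mul, map_inv, map_inv,
            hcomm i (b ^ i)⁻¹ ((Commute.refl b).pow_left i).inv_left (hab.pow_right i).inv_right hwi,
            hcomm i (b ^ j)⁻¹ ((Commute.refl b).pow_left j).inv_left (hab.pow_right j).inv_right hwi]
        · have e1 : ∏ i ∈ insert j s, a (w i) = 1 := by rw [← map_prod, h1, map_one]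
          have e2 : ∏ i ∈ insert j s, (b ^ j)⁻¹ (w i) = 1 := by rw [← map_prod, h1, map_one]
          rw [Finset.prod_congr rfl fun i hi => haw i (hw i hi)] at e1
          rw [Finset.prod_insert hj] at e1 e2
          rw [Finset.prod_mul_distrib, Finset.prod_inv_distrib, mul_inv_eq_one]
          exact mul_left_cancel (e1.trans e2.symm)
      have hzero : ∀ i ∈ s, w i = 1 := by
        intro i hi
        have h2 : (b ^ i) ((b ^ j)⁻¹ (w i)) = w i := by
          have := congrArg (b ^ i) (mul_inv_eq_one.mp (hrest i hi))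
          rw [MulAut.apply_inv_self] at this
          exact this.symm
        let S : Subgroup (MulAut M) :=
          { carrier := {c | c (w i) = w i}
            one_mem' := rfl
            mul_mem' := fun {x y} hx hy => by
              show x (y (w i)) = w i
              rw [show y (w i) = w i from hy]; exact hx
            inv_mem' := fun {x} hx => by
              show x⁻¹ (w i) = w i
              nth_rw 1 [← show x (w i) = w i from hx]
              exact MulAut.inv_apply_self _ _ _ }
        have hmem : b ^ ((i : ℤ) - j) ∈ S := by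
          show (b ^ ((i : ℤ) - j)) (w i) = w i
          rw [zpow_sub, zpow_natCast, zpow_natCast]
          exact h2
        have hmem' : b ^ ((((i : ℤ) - j)) * 1) ∈ S := by rwa [mul_one]
        have hij : ¬ (p : ℤ) ∣ (i : ℤ) - j := by
          intro hd
          have hi' := Finset.mem_range.mp (hs' hi)
          have hj' := Finset.mem_range.mp (hs (Finset.mem_insert_self j s))
          rcases lt_trichotomy i j with h' | h' | h'
          · have := Int.le_of_dvd (by omega) (dvd_neg.mpr hd)
            omega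
          · exact hj (h' ▸ hi)
          · have := Int.le_of_dvd (by omega) hd
            omega
        obtain ⟨u, v, huv⟩ : IsCoprime (p : ℤ) ((i : ℤ) - j) :=
          (Nat.prime_iff_prime_int.mp Fact.out).coprime_iff_not_dvd.mpr hij
        have hb1 : b ∈ S := by
          have : b = (b ^ p) ^ u * (b ^ ((i : ℤ) - j)) ^ v := by
            rw [← zpow_natCast, ← zpow_mul, ← zpow_mul, ← zpow_add]
            conv_lhs => rw [← zpow_one b, ← huv]
            congr 1
            ring
          rw [this, hb, one_zpow, one_mul]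
          exact zpow_mem hmem v
        exact hfix _ hb1
      intro i hi
      rcases Finset.mem_insert.mp hi with rfl | hi
      · rw [Finset.prod_insert hj, Finset.prod_eq_one hzero, mul_one] at h1
        exact h1
      · exact hzero i hi
  calc ∏ i ∈ Finset.range p, Nat.card {w : M // a ((b ^ i) w) = w}
      = Nat.card ((i : Finset.range p) → {w : M // a ((b ^ (i : ℕ)) w) = w}) := by
        rw [Nat.card_pi, Finset.prod_coe_sort (Finset.range p)
          (fun i => Nat.card {w : M // a ((b ^ i) w) = w})]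
    _ ≤ Nat.card M := by
        refine Nat.card_le_card_of_injective (fun f => ∏ i, (f i : M)) fun f g hfg => ?_
        funext i
        apply Subtype.ext
        let F : ℕ → M := fun k => if h : k ∈ Finset.range p then (f ⟨k, h⟩ : M) * ((g ⟨k, h⟩ : M))⁻¹ else 1
        have hF := key (Finset.range p) subset_rfl F (fun k hk => ?_) ?_ i i.2
        · rwa [show F i = (f i : M) * ((g i : M))⁻¹ from dif_pos i.2, mul_inv_eq_one] at hF
        · rw [show F k = (f ⟨k, hk⟩ : M) * ((g ⟨k, hk⟩ : M))⁻¹ from dif_pos hk, map_mul, map_mul, map_inv,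
            map_inv, (f ⟨k, hk⟩).2, (g ⟨k, hk⟩).2]
        · rw [← Finset.prod_coe_sort, Finset.prod_congr rfl (g := fun k => (f k : M) * ((g k : M))⁻¹)
            (fun k _ => dif_pos k.2), Finset.prod_mul_distrib, Finset.prod_inv_distrib, mul_inv_eq_one]
          exact hfg

variable {G : Type u} [Group G] [Finite G]

/-- The order of the fixed points of `A` in `V`. -/
noncomputable def fixCard (V A : Subgroup G) : ℕ := Nat.card ↥(V ⊓ centralizer (A : Set G))

omit [Finite G] in
theorem mem_centralizer_zpowers {x v : G} :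
    v ∈ centralizer ((zpowers x : Subgroup G) : Set G) ↔ x * v = v * x := by
  rw [zpowers_eq_closure, centralizer_closure, mem_centralizer_iff]
  simp

/-- Fixed points are multiplicative over an invariant normal subgroup. -/
theorem fixCard_quotient {V W A : Subgroup G} [W.Normal] (hWV : W ≤ V) (hAV : A ≤ normalizer (V : Set G))
    (hcop : (Nat.card A).Coprime (Nat.card V)) (hsolv : Group.IsSolvable A) :
    fixCard W A * fixCard (V.map (QuotientGroup.mk' W)) (A.map (QuotientGroup.mk' W)) = fixCard V A := by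
  set φ := QuotientGroup.mk' W with hφ
  have hWn : ∀ X : Subgroup G, X ≤ normalizer (W : Set G) := fun X =>
    le_trans le_top (normalizer_eq_top (H := W)).ge
  have himg : (V ⊓ centralizer (A : Set G)).map φ = V.map φ ⊓ centralizer ((A.map φ : Subgroup _) : Set _) := by
    refine le_antisymm ?_ ?_
    · rintro _ ⟨v, hv, rfl⟩
      refine ⟨⟨v, hv.1, rfl⟩, mem_centralizer_iff.mpr ?_⟩
      rintro _ ⟨a, ha, rfl⟩
      rw [← map_mul, ← map_mul, mem_centralizer_iff.mp hv.2 a ha]
    · rintro _ ⟨⟨v, hv, rfl⟩, hc⟩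
      obtain ⟨c, hc1, hc2⟩ := Coprime.exists_centralizer_mem_of_comm_mem (A := A) (K := V) hAV hcop
        (Or.inl hsolv) hWV (hWn V) (hWn A) hv fun a ha => by
          have := mem_centralizer_iff.mp hc (φ a) ⟨a, ha, rfl⟩
          rw [← QuotientGroup.eq_one_iff]
          simp only [hφ, QuotientGroup.mk'_apply] at this
          simp only [QuotientGroup.mk_mul, QuotientGroup.mk_inv]
          rw [this]
          group
      exact ⟨c, hc1, (QuotientGroup.eq.mpr hc2).symm⟩
  unfold fixCard
  rw [← himg]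
  have h1 := Subgroup.card_mul_index ((W ⊓ centralizer (A : Set G)).subgroupOf (V ⊓ centralizer (A : Set G)))
  have h2 : ((W ⊓ centralizer (A : Set G)).subgroupOf (V ⊓ centralizer (A : Set G))) =
      (φ.comp (V ⊓ centralizer (A : Set G)).subtype).ker := by
    ext x
    simp [hφ, mem_subgroupOf]
    exact fun _ => x.2.2
  rw [← Nat.card_congr (subgroupOfEquivOfLe (inf_le_inf hWV le_rfl : W ⊓ centralizer (A : Set G) ≤ _)).toEquiv]
  refine Eq.trans ?_ h1
  congr 1
  rw [h2, index_ker, MonoidHom.range_comp, Subgroup.range_subtype]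

/-- Transfer to a subgroup containing everything. -/
theorem fixCard_subgroupOf {X V A : Subgroup G} (hV : V ≤ X) (hA : A ≤ X) :
    fixCard (V.subgroupOf X) (A.subgroupOf X) = fixCard V A := by
  refine Nat.card_congr
    { toFun := fun v => ⟨(v : X), v.2.1, mem_centralizer_iff.mpr fun a ha =>
        congrArg Subtype.val (mem_centralizer_iff.mp v.2.2 ⟨a, hA ha⟩ ha)⟩
      invFun := fun v => ⟨⟨v, hV v.2.1⟩, v.2.1, mem_centralizer_iff.mpr fun a ha =>
        Subtype.ext (mem_centralizer_iff.mp v.2.2 a ha)⟩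
      left_inv := fun _ => rfl
      right_inv := fun _ => rfl }

theorem fixCard_le (V A : Subgroup G) : fixCard V A ≤ Nat.card V := card_le_of_le inf_le_left

open Classical in
/-- The statement to be proved. -/
def FixIneq (p : ℕ) (V A : Subgroup G) [Fintype A] : Prop :=
  (∏ x : A, fixCard V (zpowers (x : G))) ^ p ≤
    Nat.card V ^ Nat.card A * fixCard V A ^ ((p - 1) * Nat.card A)

theorem fixIneq_of_trivial {p : ℕ} (hp : p ≠ 0) {V A : Subgroup G} [Fintype A]
    (h : V ≤ centralizer (A : Set G)) : FixIneq p V A := by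
  unfold FixIneq
  have h1 : ∀ x : A, fixCard V (zpowers (x : G)) ≤ Nat.card V := fun x => fixCard_le _ _
  have h2 : fixCard V A = Nat.card V := by rw [fixCard, inf_eq_left.mpr h]
  rw [h2, ← pow_add, show Nat.card A + (p - 1) * Nat.card A = Nat.card A * p by
    obtain ⟨k, rfl⟩ := Nat.exists_eq_succ_of_ne_zero hp
    simp; ring, pow_mul]
  refine Nat.pow_le_pow_left ?_ p
  rw [Nat.card_eq_fintype_card (α := A), ← Finset.card_univ, ← Finset.prod_const]
  exact Finset.prod_le_prod' fun x _ => h1 x

/-- The inequality for an irreducible abelian `V`. -/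
theorem fixIneq_irreducible {p : ℕ} [Fact p.Prime] {V A : Subgroup G} [Fintype A] [IsMulCommutative V]
    (hA : IsPGroup p A) (hAV : A ≤ normalizer (V : Set G))
    (hirr : ∀ W ≤ V, A ≤ normalizer (W : Set G) → W = ⊥ ∨ W = V)
    (hnc : ¬ V ≤ centralizer (A : Set G)) : FixIneq p V A := by
  classical
  letI : CommGroup V := { (inferInstance : Group V) with mul_comm := IsMulCommutative.is_comm.comm }
  set φ := Coprime.conjOn hAV
  set K := φ.ker
  have hK : K ≠ ⊤ := by
    intro h
    refine hnc fun v hv => mem_centralizer_iff.mpr fun a ha => ?_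
    have h1 : φ ⟨a, ha⟩ = 1 := MonoidHom.mem_ker.mp (show (⟨a, ha⟩ : A) ∈ K from h ▸ mem_top _)
    have h2 := congrArg Subtype.val (DFunLike.congr_fun h1 ⟨v, hv⟩)
    rw [Coprime.conjOn_coe] at h2
    simp only [MulAut.one_apply] at h2
    exact mul_inv_eq_iff_eq_mul.mp h2
  haveI : Nontrivial (A ⧸ K) := QuotientGroup.nontrivial_iff.mpr hK
  have hQ : IsPGroup p (A ⧸ K) := hA.to_quotient K
  haveI : Nontrivial (center (A ⧸ K)) := hQ.center_nontrivial
  obtain ⟨n, hn0, hn⟩ := (hQ.to_subgroup (center (A ⧸ K))).nontrivial_iff_card.mp inferInstance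
  obtain ⟨zq, hzq⟩ := exists_prime_orderOf_dvd_card' (G := center (A ⧸ K)) p
    (hn ▸ dvd_pow_self p hn0.ne')
  obtain ⟨z, hz⟩ := QuotientGroup.mk'_surjective K (zq : A ⧸ K)
  have hzK : z ∉ K := by
    intro h
    have h1 : (zq : A ⧸ K) = 1 := hz ▸ (QuotientGroup.eq_one_iff z).mpr h
    have h2 : zq = 1 := Subtype.ext h1
    rw [h2, orderOf_one] at hzq
    exact (Fact.out : p.Prime).one_lt.ne hzq
  have hzp : φ z ^ p = 1 := by
    rw [← map_pow]
    refine MonoidHom.mem_ker.mp ((QuotientGroup.eq_one_iff _).mp ?_)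
    rw [QuotientGroup.mk_pow]
    have h1 : (z : A ⧸ K) = (zq : A ⧸ K) := hz
    rw [h1, ← Subgroup.coe_pow, ← hzq, pow_orderOf_eq_one, Subgroup.coe_one]
  have hzc : ∀ x : A, Commute (φ x) (φ z) := by
    intro x
    have h1 : ((x * z : A) : A ⧸ K) = ((z * x : A) : A ⧸ K) := by
      rw [QuotientGroup.mk_mul, QuotientGroup.mk_mul]
      have h2 : (z : A ⧸ K) = (zq : A ⧸ K) := hz
      rw [h2]
      exact mem_center_iff.mp zq.2 x
    have h2 : φ ((x * z)⁻¹ * (z * x)) = 1 := MonoidHom.mem_ker.mp (QuotientGroup.eq.mp h1)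
    rw [map_mul, map_inv, inv_mul_eq_one, map_mul, map_mul] at h2
    exact h2
  have hfix : ∀ w : V, φ z w = w → w = 1 := by
    let W : Subgroup G := V ⊓ centralizer ((zpowers (z : G) : Subgroup G) : Set G)
    have hmem : ∀ w : V, φ z w = w ↔ (w : G) ∈ W := by
      intro w
      simp only [W, mem_inf, w.2, true_and, mem_centralizer_zpowers]
      rw [Subtype.ext_iff, Coprime.conjOn_coe, mul_inv_eq_iff_eq_mul]
    have hWA : A ≤ normalizer (W : Set G) := by
      have key : ∀ a : A, ∀ w ∈ W, (a : G) * w * (a : G)⁻¹ ∈ W := by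
        intro a w hw
        have h1 : φ z ⟨w, hw.1⟩ = ⟨w, hw.1⟩ := (hmem ⟨w, hw.1⟩).mpr hw
        have h2 : φ z (φ a ⟨w, hw.1⟩) = φ a ⟨w, hw.1⟩ := by
          show (φ z * φ a) ⟨w, hw.1⟩ = _
          rw [← (hzc a).eq]
          show φ a (φ z _) = _
          rw [h1]
        have h3 := (hmem _).mp h2
        rwa [Coprime.conjOn_coe] at h3
      intro a ha
      rw [Subgroup.mem_normalizer_iff]
      exact fun w => ⟨key ⟨a, ha⟩ w, fun hw => by simpa [mul_assoc] using key ⟨a, ha⟩⁻¹ _ hw⟩
    rcases hirr W inf_le_left hWA with h | h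
    · intro w hw
      exact Subtype.ext (mem_bot.mp (h ▸ (hmem w).mp hw))
    · exfalso
      refine hzK (MonoidHom.mem_ker.mpr (MulEquiv.ext fun w => ?_))
      exact (hmem w).mpr (h.symm ▸ w.2)
  have hcount : ∀ (x : A) (i : ℕ), fixCard V (zpowers ((x * z ^ i : A) : G)) =
      Nat.card {w : V // φ x ((φ z ^ i) w) = w} := by
    intro x i
    rw [fixCard]
    refine Nat.card_congr
      { toFun := fun v => ⟨⟨v, v.2.1⟩, ?_⟩
        invFun := fun w => ⟨w.1, mem_inf.mpr ⟨w.1.2, ?_⟩⟩
        left_inv := fun _ => rfl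
        right_inv := fun _ => rfl }
    · rw [← map_pow]
      show (φ x * φ (z ^ i)) _ = _
      rw [← map_mul]
      apply Subtype.ext
      rw [Coprime.conjOn_coe, mul_inv_eq_iff_eq_mul]
      exact mem_centralizer_zpowers.mp (mem_inf.mp v.2).2
    · have h1 : φ (x * z ^ i) (w : V) = (w : V) := by rw [map_mul, map_pow]; exact w.2
      rw [Subtype.ext_iff, Coprime.conjOn_coe, mul_inv_eq_iff_eq_mul] at h1
      exact mem_centralizer_zpowers.mpr h1
  unfold FixIneq
  refine le_trans ?_ (Nat.le_mul_of_pos_right _ (pow_pos Nat.card_pos _))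
  calc (∏ x : A, fixCard V (zpowers (x : G))) ^ p
      = ∏ i ∈ Finset.range p, ∏ x : A, fixCard V (zpowers ((x * z ^ i : A) : G)) := by
        have h1 : ∀ i : ℕ, ∏ x : A, fixCard V (zpowers ((x * z ^ i : A) : G)) =
            ∏ x : A, fixCard V (zpowers (x : G)) := fun i =>
          Equiv.prod_comp (Equiv.mulRight (z ^ i)) (fun y : A => fixCard V (zpowers (y : G)))
        rw [Finset.prod_congr rfl fun i _ => h1 i, Finset.prod_const, Finset.card_range]
    _ = ∏ x : A, ∏ i ∈ Finset.range p, Nat.card {w : V // φ x ((φ z ^ i) w) = w} := by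
        rw [Finset.prod_comm]
        simp only [hcount]
    _ ≤ ∏ _x : A, Nat.card V :=
        Finset.prod_le_prod' fun x _ => prod_twisted_fixed_le (φ x) (φ z) (hzc x) hzp hfix
    _ = Nat.card V ^ Nat.card A := by
        rw [Finset.prod_const, Finset.card_univ, Nat.card_eq_fintype_card (α := A)]

/-- The general inequality. -/
theorem fixIneq {p : ℕ} [Fact p.Prime] :
    ∀ (n : ℕ) (G : Type u) [Group G] [Finite G] (V A : Subgroup G) [Fintype A], Nat.card V = n →
      IsPGroup p A → A ≤ normalizer (V : Set G) → (Nat.card A).Coprime (Nat.card V) → FixIneq p V A := by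
  intro n
  induction n using Nat.strong_induction_on with
  | _ n IH =>
  intro G _ _ V A _ hn hA hAV hcop
  classical
  have hp : p ≠ 0 := (Fact.out : p.Prime).ne_zero
  haveI := hA.isNilpotent
  have hsA : Group.IsSolvable A := inferInstance
  have hz : ∀ x : A, zpowers (x : G) ≤ A := fun x => zpowers_le.mpr x.2
  have hsz : ∀ x : A, Group.IsSolvable (zpowers (x : G)) := fun x => Coprime.isSolvable_zpowers _
  have hcopz : ∀ x : A, (Nat.card (zpowers (x : G))).Coprime (Nat.card V) := fun x =>
    hcop.coprime_dvd_left (card_dvd_of_le (hz x))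
  by_cases htriv : V ≤ centralizer (A : Set G)
  · exact fixIneq_of_trivial hp htriv
  by_cases hprime : ∃ q : ℕ, q.Prime ∧ IsPGroup q V
  swap
  · -- split over invariant Sylow subgroups
    have hex : ∀ q : ℕ, ∃ S : Subgroup G, q ∈ (Nat.card V).primeFactors → S ≤ V ∧
        A ≤ normalizer (S : Set G) ∧ Nat.card S = q ^ (Nat.card V).factorization q ∧
        ∀ x : A, ordProj[q] (fixCard V (zpowers (x : G))) ∣ fixCard S (zpowers (x : G)) := by
      intro q
      by_cases hq : q ∈ (Nat.card V).primeFactors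
      swap
      · exact ⟨⊥, fun h => absurd h hq⟩
      haveI : Fact q.Prime := ⟨Nat.prime_of_mem_primeFactors hq⟩
      obtain ⟨Q, hQ⟩ := Coprime.exists_invariant_sylow hAV hcop (Or.inl hsA) q
      refine ⟨(Q : Subgroup V).map V.subtype, fun _ => ⟨map_subtype_le _, hQ, ?_, fun x => ?_⟩⟩
      · rw [card_subtype]; exact Q.card_eq_multiplicity
      set C := V ⊓ centralizer ((zpowers (x : G) : Subgroup G) : Set G) with hC
      obtain ⟨T⟩ : Nonempty (Sylow q C) := inferInstance
      set T' := (T : Subgroup C).map C.subtype with hT'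
      have hT'C : T' ≤ C := map_subtype_le _
      have hT'n : zpowers (x : G) ≤ normalizer (T' : Set G) := by
        intro a ha
        rw [Subgroup.mem_normalizer_iff]
        intro t
        have key : ∀ a ∈ zpowers (x : G), ∀ t ∈ T', a * t * a⁻¹ ∈ T' := fun a ha t ht => by
          rwa [mem_centralizer_iff.mp (hT'C ht).2 a ha, mul_inv_cancel_right]
        exact ⟨key a ha t, fun h => by simpa [mul_assoc] using key a⁻¹ (inv_mem ha) _ h⟩
      obtain ⟨R, hTR, hR⟩ := Coprime.exists_invariant_sylow_ge ((hz x).trans hAV) (hcopz x) (Or.inl (hsz x)) q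
        (hT'C.trans inf_le_left) (T.isPGroup'.map _) hT'n
      obtain ⟨c, hc, hcR⟩ := Coprime.exists_conj_invariant_sylow ((hz x).trans hAV) (hcopz x) (Or.inl (hsz x))
        q R Q hR ((hz x).trans hQ)
      have hmap : T'.map (MulAut.conj (c : G)).toMonoidHom ≤
          (Q : Subgroup V).map V.subtype ⊓ centralizer ((zpowers (x : G) : Subgroup G) : Set G) := by
        rintro _ ⟨t, ht, rfl⟩
        refine ⟨?_, (centralizer _).mul_mem ((centralizer _).mul_mem hc (hT'C ht).2) (inv_mem hc)⟩
        obtain ⟨r, hr, hrt⟩ := hTR ht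
        refine ⟨c * r * c⁻¹, ?_, by simp [← hrt]⟩
        rw [← hcR]
        exact ⟨r, hr, rfl⟩
      have hdvd := card_dvd_of_le hmap
      rw [Coprime.card_map_conj, hT', card_subtype, T.card_eq_multiplicity] at hdvd
      exact hdvd
    choose S hS using hex
    set Φ := (Nat.card V).primeFactors with hΦ
    have hV0 : Nat.card V ≠ 0 := Nat.card_pos.ne'
    have hprodV : ∏ q ∈ Φ, Nat.card (S q) = Nat.card V := by
      rw [Finset.prod_congr rfl fun q hq => (hS q hq).2.2.1]
      exact Nat.prod_factorization_pow_eq_self hV0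
    have hlt : ∀ q ∈ Φ, Nat.card (S q) < n := by
      intro q hq
      rw [← hn]
      refine lt_of_le_of_ne (card_le_of_le (hS q hq).1) fun h => hprime ⟨q, Nat.prime_of_mem_primeFactors hq, ?_⟩
      exact IsPGroup.of_card (h ▸ (hS q hq).2.2.1)
    have hIH : ∀ q ∈ Φ, FixIneq p (S q) A := fun q hq =>
      IH _ (hlt q hq) G (S q) A rfl hA (hS q hq).2.1 (hcop.coprime_dvd_right (card_dvd_of_le (hS q hq).1))
    have hle1 : ∀ x : A, fixCard V (zpowers (x : G)) ≤ ∏ q ∈ Φ, fixCard (S q) (zpowers (x : G)) := by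
      intro x
      set c := fixCard V (zpowers (x : G)) with hc
      have hc0 : c ≠ 0 := Nat.card_pos.ne'
      have hdv : c ∣ Nat.card V := card_dvd_of_le inf_le_left
      have hsub : c.primeFactors ⊆ Φ := Nat.primeFactors_mono hdv hV0
      calc c = ∏ q ∈ c.primeFactors, q ^ c.factorization q := (Nat.prod_factorization_pow_eq_self hc0).symm
        _ = ∏ q ∈ Φ, q ^ c.factorization q := by
            refine Finset.prod_subset hsub fun q _ hq => ?_
            rw [← Nat.support_factorization, Finsupp.notMem_support_iff] at hq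
            rw [hq, pow_zero]
        _ ≤ _ := Finset.prod_le_prod' fun q hq => Nat.le_of_dvd Nat.card_pos ((hS q hq).2.2.2 x)
    have hle2 : ∏ q ∈ Φ, fixCard (S q) A ≤ fixCard V A := by
      refine Nat.le_of_dvd Nat.card_pos (Finset.prod_dvd_of_isRelPrime (fun a ha b hb hab => ?_)
        fun q hq => card_dvd_of_le (inf_le_inf (hS q hq).1 le_rfl))
      have h1 : fixCard (S a) A ∣ a ^ (Nat.card V).factorization a :=
        (hS a ha).2.2.1 ▸ card_dvd_of_le inf_le_left
      have h2 : fixCard (S b) A ∣ b ^ (Nat.card V).factorization b :=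
        (hS b hb).2.2.1 ▸ card_dvd_of_le inf_le_left
      refine Nat.coprime_iff_isRelPrime.mp ?_
      exact Nat.Coprime.coprime_dvd_left h1 (Nat.Coprime.coprime_dvd_right h2
        (((Nat.coprime_primes (Nat.prime_of_mem_primeFactors ha) (Nat.prime_of_mem_primeFactors hb)).mpr
          hab).pow _ _))
    unfold FixIneq at hIH ⊢
    calc (∏ x : A, fixCard V (zpowers (x : G))) ^ p
        ≤ (∏ x : A, ∏ q ∈ Φ, fixCard (S q) (zpowers (x : G))) ^ p :=
          Nat.pow_le_pow_left (Finset.prod_le_prod' fun x _ => hle1 x) p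
      _ = ∏ q ∈ Φ, (∏ x : A, fixCard (S q) (zpowers (x : G))) ^ p := by
          rw [Finset.prod_comm, Finset.prod_pow]
      _ ≤ ∏ q ∈ Φ, (Nat.card (S q) ^ Nat.card A * fixCard (S q) A ^ ((p - 1) * Nat.card A)) :=
          Finset.prod_le_prod' hIH
      _ ≤ _ := by
          rw [Finset.prod_mul_distrib, Finset.prod_pow, Finset.prod_pow, hprodV]
          exact Nat.mul_le_mul_left _ (Nat.pow_le_pow_left hle2 _)
  obtain ⟨q, hq, hqV⟩ := hprime
  haveI : Fact q.Prime := ⟨hq⟩
  by_cases hred : ∃ W : Subgroup G, W ≤ V ∧ A ≤ normalizer (W : Set G) ∧ V ≤ normalizer (W : Set G) ∧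
      W ≠ ⊥ ∧ W ≠ V
  · -- split over an invariant normal subgroup
    obtain ⟨W, hWV, hWA, hWVn, hW1, hW2⟩ := hred
    have hWlt : Nat.card W < n := hn ▸ lt_of_le_of_ne (card_le_of_le hWV)
      fun h => hW2 (eq_of_le_of_card_ge hWV h.ge)
    have hIH1 := IH _ hWlt G W A rfl hA hWA (hcop.coprime_dvd_right (card_dvd_of_le hWV))
    set X := normalizer (W : Set G) with hX
    set W' := W.subgroupOf X with hW'
    haveI : W'.Normal := normal_subgroupOf_of_le_normalizer le_rfl
    set V' := V.subgroupOf X with hV'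
    set A' := A.subgroupOf X with hA'
    set φ := QuotientGroup.mk' W' with hφ
    have hW'V' : W' ≤ V' := fun x hx => hWV hx
    have hcardW' : Nat.card W' = Nat.card W := Nat.card_congr (subgroupOfEquivOfLe (hWV.trans hWVn)).toEquiv
    have hcardV' : Nat.card V' = Nat.card V := Nat.card_congr (subgroupOfEquivOfLe hWVn).toEquiv
    have hcardA' : Nat.card A' = Nat.card A := Nat.card_congr (subgroupOfEquivOfLe hWA).toEquiv
    have hA'p : IsPGroup p A' := hA.of_equiv (subgroupOfEquivOfLe hWA).symm
    have hA'V' : A' ≤ normalizer (V' : Set X) := by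
      intro a ha
      rw [Subgroup.mem_normalizer_iff]
      intro v
      exact Subgroup.mem_normalizer_iff.mp (hAV ha) v
    have hinf : ∀ x ∈ A', x ∈ W' → x = 1 := fun x hx hx' =>
      mem_bot.mp (Subgroup.inf_eq_bot_of_coprime
        (hcardA'.symm ▸ hcardW'.symm ▸ hcop.coprime_dvd_right (card_dvd_of_le hWV) :
          (Nat.card A').Coprime (Nat.card W')) ▸ mem_inf.mpr ⟨hx, hx'⟩)
    have hVbar : Nat.card (V'.map φ) * Nat.card W' = Nat.card V' := by
      have h1 := Subgroup.card_mul_index (φ.comp V'.subtype).ker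
      rw [index_ker, MonoidHom.range_comp, range_subtype] at h1
      rw [← h1, mul_comm]
      congr 1
      rw [← Nat.card_congr (subgroupOfEquivOfLe hW'V').toEquiv]
      refine congrArg (fun H : Subgroup V' => Nat.card H) ?_
      ext x
      simp [hφ, mem_subgroupOf]
    have hVlt : Nat.card (V'.map φ) < n := by
      rw [← hn, ← hcardV', ← hVbar]
      exact lt_mul_of_one_lt_right Nat.card_pos (hcardW'.symm ▸ (one_lt_card_iff_ne_bot W).mpr hW1)
    let e : A → (A'.map φ : Subgroup (X ⧸ W')) := fun a =>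
      ⟨φ ⟨a, hWA a.2⟩, ⟨⟨a, hWA a.2⟩, a.2, rfl⟩⟩
    have he : Function.Bijective e := by
      refine ⟨fun a b h => ?_, ?_⟩
      · have h1 : (⟨a, hWA a.2⟩ : X)⁻¹ * ⟨b, hWA b.2⟩ ∈ W' := QuotientGroup.eq.mp (congrArg Subtype.val h)
        have h2 := hinf _ (A'.mul_mem (A'.inv_mem a.2) b.2) h1
        have h3 := inv_mul_eq_one.mp h2
        exact Subtype.ext (congrArg (fun y : X => (y : G)) h3)
      · rintro ⟨_, ⟨a, ha, rfl⟩⟩
        exact ⟨⟨a, ha⟩, rfl⟩
    haveI := Fintype.ofFinite (A'.map φ : Subgroup (X ⧸ W'))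
    have hcardAb : Nat.card (A'.map φ) = Nat.card A := (Nat.card_eq_of_bijective e he).symm
    have hIH2 := IH _ hVlt (X ⧸ W') (V'.map φ) (A'.map φ) rfl (hA'p.map φ)
      ((map_mono hA'V').trans (le_normalizer_map φ))
      (hcardAb.symm ▸ hcop.coprime_dvd_right (hcardV' ▸ Dvd.intro _ hVbar))
    unfold FixIneq at hIH1 hIH2 ⊢
    have hsA' : Group.IsSolvable A' := by
      haveI := hA'p.isNilpotent
      infer_instance
    have hmulA : fixCard W A * fixCard (V'.map φ) (A'.map φ) = fixCard V A := by
      have := fixCard_quotient hW'V' hA'V' (by rw [hcardA', hcardV']; exact hcop) hsA'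
      rwa [fixCard_subgroupOf (hWV.trans hWVn) hWA, fixCard_subgroupOf hWVn hWA] at this
    have hmulx : ∀ a : A, fixCard W (zpowers (a : G)) *
        fixCard (V'.map φ) (zpowers ((e a : A'.map φ) : X ⧸ W')) = fixCard V (zpowers (a : G)) := by
      intro a
      have ez : (zpowers (a : G)).subgroupOf X = zpowers (⟨a, hWA a.2⟩ : X) := by
        refine map_injective X.subtype_injective ?_
        rw [subgroupOf_map_subtype, inf_eq_left.mpr ((hz a).trans hWA), MonoidHom.map_zpowers]
        rfl
      have := fixCard_quotient hW'V' (A := (zpowers (a : G)).subgroupOf X)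
        (fun y hy => hA'V' (hz a hy))
        (by rw [Nat.card_congr (subgroupOfEquivOfLe ((hz a).trans hWA)).toEquiv, hcardV']; exact hcopz a)
        (ez ▸ Coprime.isSolvable_zpowers _)
      rw [fixCard_subgroupOf (hWV.trans hWVn) ((hz a).trans hWA), fixCard_subgroupOf hWVn ((hz a).trans hWA),
        ez, MonoidHom.map_zpowers] at this
      exact this
    rw [← Finset.prod_congr rfl (fun a _ => hmulx a), Finset.prod_mul_distrib, mul_pow, ← hmulA, mul_pow,
      ← hcardV', ← hVbar, mul_pow, hcardW']
    rw [hcardAb, ← Function.Bijective.prod_comp he (fun y => fixCard (V'.map φ) (zpowers (y : X ⧸ W')))] at hIH2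
    calc _ ≤ _ := Nat.mul_le_mul hIH1 hIH2
      _ = _ := by ring
  push Not at hred
  haveI : IsMulCommutative V := by
    haveI := hqV.isNilpotent
    by_contra hnc'
    have hVne : Nontrivial V := by
      by_contra h
      rw [not_nontrivial_iff_subsingleton] at h
      exact hnc' ⟨⟨fun a b => Subsingleton.elim _ _⟩⟩
    haveI := hqV.center_nontrivial
    set W := (center V).map V.subtype with hW
    have hWA : A ≤ normalizer (W : Set G) := by
      have key : ∀ a ∈ A, ∀ w ∈ W, a * w * a⁻¹ ∈ W := by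
        rintro a ha _ ⟨w, hw, rfl⟩
        refine ⟨⟨a * w * a⁻¹, (Subgroup.mem_normalizer_iff.mp (hAV ha) w).mp w.2⟩, ?_, rfl⟩
        refine mem_center_iff.mpr fun v => Subtype.ext ?_
        have hv : a⁻¹ * (v : G) * a ∈ V := by
          simpa using (Subgroup.mem_normalizer_iff.mp (hAV (inv_mem ha)) (v : G)).mp v.2
        have h1 : a⁻¹ * (v : G) * a * w = w * (a⁻¹ * (v : G) * a) :=
          congrArg Subtype.val (mem_center_iff.mp hw ⟨_, hv⟩)
        show (v : G) * (a * w * a⁻¹) = a * w * a⁻¹ * v
        calc (v : G) * (a * w * a⁻¹) = a * (a⁻¹ * (v : G) * a * w) * a⁻¹ := by group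
          _ = a * w * a⁻¹ * v := by rw [h1]; group
      intro a ha
      rw [Subgroup.mem_normalizer_iff]
      exact fun w => ⟨key a ha w, fun hw => by simpa [mul_assoc] using key a⁻¹ (inv_mem ha) _ hw⟩
    have hWV : V ≤ normalizer (W : Set G) :=
      (normal_subgroupOf_iff_le_normalizer (map_subtype_le _)).mp (by
        rw [Subgroup.subgroupOf, comap_map_eq_self_of_injective V.subtype_injective]
        infer_instance)
    have hne : W ≠ ⊥ := by
      rw [hW, Ne, map_eq_bot_iff_of_injective _ V.subtype_injective]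
      exact (nontrivial_iff_ne_bot _).mp inferInstance
    have heq := hred W (map_subtype_le _) hWA hWV hne
    apply hnc'
    refine ⟨⟨fun a b => ?_⟩⟩
    have hb : (b : G) ∈ W := heq.symm ▸ b.2
    obtain ⟨c, hc, hcb⟩ := hb
    rw [← Subtype.ext hcb]
    exact mem_center_iff.mp hc a
  refine fixIneq_irreducible hA hAV (fun W hW hWA => ?_) htriv
  by_cases h : W = ⊥
  · exact Or.inl h
  refine Or.inr (hred W hW hWA (fun v hv => ?_) h)
  rw [Subgroup.mem_normalizer_iff]
  intro w
  have key : ∀ v ∈ V, ∀ w ∈ W, v * w * v⁻¹ ∈ W := fun v hv w hw => by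
    have := congrArg Subtype.val (IsMulCommutative.is_comm.comm (⟨v, hv⟩ : V) ⟨w, hW hw⟩)
    simp only [Subgroup.coe_mul] at this
    rwa [this, mul_inv_cancel_right]
  exact ⟨key v hv w, fun h => by simpa [mul_assoc] using key v⁻¹ (inv_mem hv) _ h⟩

end Cfsg.Agent.H75
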