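import Mathlib
import Cfsg.Agent.CharBasic.Rep

/-!
The average of `χ(x²)` over a finite group is an algebraic integer: it is the trace of
`swap ∘ Π` where `Π` is the averaging idempotent on the tensor square.
-/

set_option autoImplicit false

namespace Cfsg.Agent.H75

open scoped Kronecker

/-- The trace of an idempotent complex matrix is a natural number. -/
theorem exists_trace_eq_natCast {ι : Type*} [Fintype ι] [DecidableEq ι] (A : Matrix ι ι ℂ)
    (h : A * A = A) : ∃ n : ℕ, A.trace = n := by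
  have hi : IsIdempotentElem (Matrix.toLin' A) := by
    show Matrix.toLin' A * Matrix.toLin' A = Matrix.toLin' A
    rw [Module.End.mul_eq_comp, ← Matrix.toLin'_mul, h]
  obtain ⟨p, hp⟩ := LinearMap.isProj_iff_isIdempotentElem _ |>.2 hi
  exact ⟨_, (Matrix.trace_toLin'_eq A).symm.trans hp.trace⟩

/-- `(1/|G|) ∑ χ(x²)` is an algebraic integer. -/
theorem isIntegral_avg_sq {G : Type*} [Group G] [Fintype G] {χ : G → ℂ}
    (h : Cfsg.IsCharacter G χ) :
    IsIntegral ℤ ((Fintype.card G : ℂ)⁻¹ * ∑ x : G, χ (x * x)) := by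
  classical
  obtain ⟨n, ρ, rfl⟩ := h
  let R : G →* Matrix (Fin n) (Fin n) ℂ :=
    (LinearMap.toMatrixAlgEquiv' : ((Fin n → ℂ) →ₗ[ℂ] (Fin n → ℂ)) ≃ₐ[ℂ] _).toMonoidHom.comp ρ
  have htr : ∀ g, ρ.character g = (R g).trace := by
    intro g
    show LinearMap.trace ℂ _ (ρ g) = _
    rw [LinearMap.trace_eq_matrix_trace ℂ (Pi.basisFun ℂ (Fin n)) (ρ g)]
    rfl
  let S : Matrix (Fin n × Fin n) (Fin n × Fin n) ℂ := fun a b => if a.swap = b then 1 else 0
  have hSl : ∀ (A : Matrix (Fin n × Fin n) (Fin n × Fin n) ℂ) a b, (S * A) a b = A a.swap b := by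
    intro A a b
    rw [Matrix.mul_apply]
    rw [Finset.sum_eq_single a.swap]
    · simp [S]
    · intro c _ hc
      simp [S, Ne.symm hc]
    · simp
  have hSr : ∀ (A : Matrix (Fin n × Fin n) (Fin n × Fin n) ℂ) a b, (A * S) a b = A a b.swap := by
    intro A a b
    rw [Matrix.mul_apply]
    rw [Finset.sum_eq_single b.swap]
    · simp [S]
    · intro c _ hc
      have : c.swap ≠ b := fun e => hc (by rw [← e, Prod.swap_swap])
      simp [S, this]
    · simp
  set A : Matrix (Fin n × Fin n) (Fin n × Fin n) ℂ :=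
    (Fintype.card G : ℂ)⁻¹ • ∑ x : G, R x ⊗ₖ R x with hAdef
  have hcard : (Fintype.card G : ℂ) ≠ 0 := Nat.cast_ne_zero.2 Fintype.card_ne_zero
  have hfix : ∀ y : G, (R y ⊗ₖ R y) * A = A := by
    intro y
    rw [hAdef, mul_smul_comm, Finset.mul_sum]
    congr 1
    refine Fintype.sum_equiv (Equiv.mulLeft y) _ _ fun x => ?_
    rw [← Matrix.mul_kronecker_mul, ← map_mul]
    rfl
  have hAA : A * A = A := by
    conv_lhs => arg 1; rw [hAdef]
    rw [smul_mul_assoc, Finset.sum_mul]
    simp only [hfix, Finset.sum_const, Finset.card_univ]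
    rw [← Nat.cast_smul_eq_nsmul ℂ, smul_smul, inv_mul_cancel₀ hcard, one_smul]
  have hSA : S * A = A * S := by
    ext a b
    rw [hSl, hSr, hAdef]
    simp only [Matrix.smul_apply, Matrix.sum_apply]
    congr 1
    refine Finset.sum_congr rfl fun x _ => ?_
    simp [Matrix.kroneckerMap_apply, Prod.swap, mul_comm]
  have hSS : S * S = 1 := by
    ext a b
    rw [hSl]
    simp [S, Matrix.one_apply]
  have hEE : (S * A) * (S * A) = A := by
    rw [mul_assoc, ← mul_assoc A, ← hSA, mul_assoc S A A, hAA, ← mul_assoc, hSS, one_mul]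
  have hAE : A * (S * A) = S * A := by
    rw [← mul_assoc, ← hSA, mul_assoc, hAA]
  have hEA : (S * A) * A = S * A := by rw [mul_assoc, hAA]
  obtain ⟨a, ha⟩ := exists_trace_eq_natCast ((2 : ℂ)⁻¹ • (A + S * A)) (by
    rw [smul_mul_smul_comm, add_mul, mul_add, mul_add, hAA, hAE, hEA, hEE,
      show A + S * A + (S * A + A) = (2 : ℂ) • (A + S * A) by rw [two_smul]; abel, smul_smul]
    norm_num)
  obtain ⟨b, hb⟩ := exists_trace_eq_natCast ((2 : ℂ)⁻¹ • (A - S * A)) (by
    rw [smul_mul_smul_comm, sub_mul, mul_sub, mul_sub, hAA, hAE, hEA, hEE,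
      show A - S * A - (S * A - A) = (2 : ℂ) • (A - S * A) by rw [two_smul]; abel, smul_smul]
    norm_num)
  have hval : (S * A).trace = (Fintype.card G : ℂ)⁻¹ * ∑ x : G, ρ.character (x * x) := by
    rw [hAdef, mul_smul_comm, Finset.mul_sum, Matrix.trace_smul, Matrix.trace_sum, smul_eq_mul]
    congr 1
    refine Finset.sum_congr rfl fun x _ => ?_
    rw [htr, map_mul]
    simp only [Matrix.trace, Matrix.diag_apply, hSl, Matrix.kroneckerMap_apply, Prod.fst_swap,
      Prod.snd_swap, Fintype.sum_prod_type, Matrix.mul_apply]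
    rw [Finset.sum_comm]
  rw [← hval]
  have : (S * A).trace = (a : ℂ) - b := by
    rw [← ha, ← hb, Matrix.trace_smul, Matrix.trace_smul, Matrix.trace_add, Matrix.trace_sub,
      smul_eq_mul, smul_eq_mul]
    ring
  rw [this]
  simpa using ((isIntegral_algebraMap (R := ℤ) (A := ℂ) (x := (a : ℤ))).sub
    (isIntegral_algebraMap (R := ℤ) (A := ℂ) (x := (b : ℤ))))

end Cfsg.Agent.H75
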