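import Mathlib
import Cfsg.Agent.OddOrder.BG4.MetacyclicSplit
import Cfsg.Agent.PGroups.CyclicMaximal
import Cfsg.Agent.PGroups.MaxClass
import Cfsg.Agent.H61.RankOne

/-!
Metacyclic `p`-groups (`p` odd) without cyclic maximal subgroups: the elements of order dividing `p`
and `p ^ 2`.
-/

set_option autoImplicit false

namespace Cfsg.Agent.H75.Metacyclic

open scoped commutatorElement

universe u

variable {L : Type u} [Group L] [Finite L] {p : ℕ} [Fact p.Prime]

/-- The elements of `W2` (order dividing `p ^ 2`) and their `p`-th powers. -/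
structure Facts (p : ℕ) (L : Type u) [Group L] : Prop where
  mul_one_mem : ∀ x y : L, x ^ p = 1 → y ^ p = 1 → (x * y) ^ p = 1
  mul_two_mem : ∀ x y : L, x ^ p ^ 2 = 1 → y ^ p ^ 2 = 1 → (x * y) ^ p ^ 2 = 1
  pow_eq : ∀ x y : L, x ^ p = y ^ p ↔ (x⁻¹ * y) ^ p = 1
  card_one : Nat.card {x : L // x ^ p = 1} = p ^ 2
  exists_root : ∀ z : L, z ^ p = 1 → ∃ w : L, w ^ p = z
  comm_one : ∀ x y : L, x ^ p = 1 → y ^ p ^ 2 = 1 → x * y = y * x
  comm_two : ∀ x y : L, x ^ p ^ 2 = 1 → y ^ p ^ 2 = 1 → ⁅x, y⁆ ^ p = 1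
  mul_pow : ∀ x y : L, x ^ p ^ 2 = 1 → y ^ p ^ 2 = 1 → (x * y) ^ p = x ^ p * y ^ p

theorem facts (hp : p ≠ 2) (hL : IsPGroup p L) (hmc : Cfsg.IsMetacyclic L) (hne : Nontrivial L)
    (hnc : ∀ C : Subgroup L, IsCyclic C → C.index ≠ p) : Facts p L := by
  classical
  have hp1 : p.Prime := Fact.out
  have h1 := OddOrder.BG4.regularAt_of_metacyclic hp hL hmc
  have h2 := PGroups.regularAt_of_one hL h1 2
  have hcyc : ¬ IsCyclic L := by
    intro hc
    obtain ⟨n, hn⟩ := IsPGroup.iff_card.mp hL
    have hn0 : n ≠ 0 := by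
      rintro rfl
      rw [pow_zero] at hn
      exact (Finite.one_lt_card (α := L)).ne' hn
    obtain ⟨C, hC⟩ := Sylow.exists_subgroup_card_pow_prime p (hn ▸ pow_dvd_pow p (Nat.sub_le n 1) : p ^ (n - 1) ∣ Nat.card L)
    refine hnc C inferInstance ?_
    have h := C.card_mul_index
    rw [hC, hn, ← Nat.sub_add_cancel (Nat.pos_of_ne_zero hn0), pow_succ, Nat.add_sub_cancel] at h
    exact Nat.eq_of_mul_eq_mul_left (pow_pos hp1.pos _) h
  have hone : Nat.card {x : L // x ^ p = 1} = p ^ 2 := by
    refine le_antisymm (OddOrder.BG4.card_pow_eq_one_le_of_metacyclic hp hL hmc) ?_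
    obtain ⟨A, -, -, hA, hAcard⟩ := PGroups.exists_normal_elementary_sq hL hp hcyc
    rw [← hAcard]
    exact Nat.card_le_card_of_injective (fun a : A => (⟨a.1, hA a a.2⟩ : {x : L // x ^ p = 1}))
      fun a b h => Subtype.ext (congrArg (fun z : {x : L // x ^ p = 1} => (z : L)) h)
  have hpow : ∀ x y : L, x ^ p = y ^ p ↔ (x⁻¹ * y) ^ p = 1 := fun x y => by
    have := PGroups.regularAt_pow_eq_iff hL h1 x y
    rwa [pow_one] at this
  set W1 := PGroups.omegaSubgroup hL h1 with hW1
  have hmem1 : ∀ x : L, x ∈ W1 ↔ x ^ p = 1 := fun x => by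
    change x ^ p ^ 1 = 1 ↔ _
    rw [pow_one]
  have hW1card : Nat.card W1 = p ^ 2 :=
    (Nat.card_congr (Equiv.subtypeEquivRight hmem1)).trans hone
  set W2 := PGroups.omegaSubgroup hL h2 with hW2
  have hmem2 : ∀ x : L, x ∈ W2 ↔ x ^ p ^ 2 = 1 := fun x => Iff.rfl
  -- every element of order `p` is a `p`-th power
  set U := Cfsg.powerClosure p 1 (⊤ : Subgroup L) with hU
  have hUmem : ∀ z : L, z ∈ U ↔ ∃ x, x ^ p = z := by
    intro z
    constructor
    · intro hz
      obtain ⟨x, -, hx⟩ := PGroups.regularAt_mem_powerClosure hL h1 hz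
      exact ⟨x, by rw [hx, pow_one]⟩
    · rintro ⟨x, rfl⟩
      have := PGroups.pow_mem_powerClosure p 1 (Subgroup.mem_top x)
      rwa [pow_one] at this
  have hUcard : Nat.card U * p ^ 2 = Nat.card L := by
    let f : L ⧸ W1 → U := Quotient.lift (fun x => (⟨x ^ p, (hUmem _).mpr ⟨x, rfl⟩⟩ : U))
      (fun x y hxy => Subtype.ext ((hpow x y).mpr ((hmem1 _).mp (QuotientGroup.leftRel_apply.mp hxy))))
    have hf : Function.Bijective f := by
      constructor
      · intro a b
        induction a using QuotientGroup.induction_on with | H x => ?_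
        induction b using QuotientGroup.induction_on with | H y => ?_
        intro h
        exact QuotientGroup.eq.mpr ((hmem1 _).mpr ((hpow x y).mp (congrArg Subtype.val h)))
      · rintro ⟨z, hz⟩
        obtain ⟨x, rfl⟩ := (hUmem z).mp hz
        exact ⟨(x : L ⧸ W1), rfl⟩
    rw [← Nat.card_eq_of_bijective f hf, ← hW1card, ← Subgroup.card_eq_card_quotient_mul_card_subgroup]
  have hroot : ∀ z : L, z ^ p = 1 → ∃ w : L, w ^ p = z := by
    intro z hz
    rw [← hUmem]
    by_contra hzU
    have hUc : IsCyclic U := by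
      refine H61.isCyclic_of_card_pow_eq_one_le hp (hL.to_subgroup U) ?_
      have hlt : Nat.card (U ⊓ W1 : Subgroup L) < p ^ 2 := by
        rw [← hW1card]
        refine lt_of_le_of_ne (Subgroup.card_le_of_le inf_le_right) fun h => hzU ?_
        have := Subgroup.eq_of_le_of_card_ge (inf_le_right : U ⊓ W1 ≤ W1) h.ge
        exact (this.symm ▸ (hmem1 z).mpr hz : z ∈ U ⊓ W1).1
      obtain ⟨i, hi⟩ := IsPGroup.iff_card.mp (hL.to_subgroup (U ⊓ W1))
      have hi1 : i ≤ 1 := by
        rw [hi] at hlt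
        exact Nat.lt_succ_iff.mp ((Nat.pow_lt_pow_iff_right hp1.one_lt).mp hlt)
      calc Nat.card {x : U // x ^ p = 1} ≤ Nat.card (U ⊓ W1 : Subgroup L) :=
            Nat.card_le_card_of_injective (fun x => (⟨x.1, x.1.2, (hmem1 _).mpr (by
              simpa using congrArg Subtype.val x.2)⟩ : ↥(U ⊓ W1)))
              fun a b h => Subtype.ext (Subtype.ext (congrArg (fun w : ↥(U ⊓ W1) => (w : L)) h))
        _ ≤ p := hi ▸ (Nat.pow_le_pow_right hp1.pos hi1).trans_eq (pow_one p)
    obtain ⟨⟨g, hg⟩, hgen⟩ := hUc.exists_generator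
    have hgcard : orderOf g = Nat.card U := by
      rw [← orderOf_eq_card_of_forall_mem_zpowers hgen, Subgroup.orderOf_mk]
    by_cases hg1 : g = 1
    · rw [hg1, orderOf_one] at hgcard
      rw [← hgcard, one_mul] at hUcard
      have hz1 : z ≠ 1 := fun h => hzU (h ▸ U.one_mem)
      refine hnc (Subgroup.zpowers z) inferInstance ?_
      have h := (Subgroup.zpowers z).card_mul_index
      rw [Nat.card_zpowers, orderOf_eq_prime hz hz1, ← hUcard, pow_two] at h
      exact Nat.eq_of_mul_eq_mul_left hp1.pos h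
    · obtain ⟨y, rfl⟩ := (hUmem g).mp hg
      have hy : orderOf y = p * orderOf (y ^ p) := by
        have hdvd : p ∣ orderOf y := by
          obtain ⟨k, hk⟩ := IsPGroup.iff_orderOf.mp hL y
          rcases k with _ | k
          · rw [pow_zero, orderOf_eq_one_iff] at hk
            exact absurd (by rw [hk, one_pow]) hg1
          · exact ⟨p ^ k, by rw [hk, pow_succ']⟩
        rw [orderOf_pow_of_dvd hp1.ne_zero hdvd, Nat.mul_div_cancel' hdvd]
      refine hnc (Subgroup.zpowers y) inferInstance ?_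
      have h := (Subgroup.zpowers y).card_mul_index
      rw [Nat.card_zpowers, hy, hgcard, ← hUcard, pow_two, ← mul_assoc (Nat.card U), mul_comm p] at h
      exact Nat.eq_of_mul_eq_mul_left (Nat.mul_pos Nat.card_pos hp1.pos) h
  have hcomm1 : ∀ x y : L, x ^ p ^ 2 = 1 → y ^ p ^ 2 = 1 → ⁅x, y⁆ ^ p = 1 := by
    haveI := PGroups.regularAt_omega_characteristic hL h1
    haveI : (W1.subgroupOf W2).Normal := inferInstance
    -- the quotient `W2 / W1` has order `p ^ 2`
    let f : W2 ⧸ W1.subgroupOf W2 → W1 := Quotient.lift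
      (fun x : W2 => (⟨(x : L) ^ p, (hmem1 _).mpr (by rw [← pow_mul, ← pow_two]; exact (hmem2 _).mp x.2)⟩ : W1))
      (fun x y hxy => Subtype.ext ((hpow x y).mpr ((hmem1 _).mp
        (Subgroup.mem_subgroupOf.mp (QuotientGroup.leftRel_apply.mp hxy)))))
    have hf : Function.Bijective f := by
      constructor
      · intro a b
        induction a using QuotientGroup.induction_on with | H x => ?_
        induction b using QuotientGroup.induction_on with | H y => ?_
        intro h
        exact QuotientGroup.eq.mpr (Subgroup.mem_subgroupOf.mpr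
          ((hmem1 _).mpr ((hpow x y).mp (congrArg Subtype.val h))))
      · rintro ⟨z, hz⟩
        obtain ⟨w, hw⟩ := hroot z ((hmem1 z).mp hz)
        refine ⟨((⟨w, (hmem2 w).mpr ?_⟩ : W2) : W2 ⧸ W1.subgroupOf W2), Subtype.ext hw⟩
        rw [pow_two, pow_mul, hw, (hmem1 z).mp hz]
    have hcard : Nat.card (W2 ⧸ W1.subgroupOf W2) = p ^ 2 := (Nat.card_eq_of_bijective f hf).trans hW1card
    intro x y hx hy
    have h := (commutatorElement_eq_one_iff_mul_comm (g₁ := QuotientGroup.mk' (W1.subgroupOf W2) ⟨x, (hmem2 x).mpr hx⟩)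
      (g₂ := QuotientGroup.mk' (W1.subgroupOf W2) ⟨y, (hmem2 y).mpr hy⟩)).mpr
      ((IsPGroup.isMulCommutative_of_card_eq_prime_sq hcard).is_comm.comm _ _)
    rw [← map_commutatorElement, ← MonoidHom.mem_ker, QuotientGroup.ker_mk', Subgroup.mem_subgroupOf] at h
    exact (hmem1 _).mp h
  have hcomm : ∀ x y : L, x ^ p = 1 → y ^ p ^ 2 = 1 → x * y = y * x := by
    intro x y hx hy
    obtain ⟨w, rfl⟩ := hroot x hx
    have hw : w ^ p ^ 2 = 1 := by rw [pow_two, pow_mul, hx]
    have h : (y * w * y⁻¹) ^ p = w ^ p := by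
      refine ((hpow _ _).mpr ?_).symm
      rw [show w⁻¹ * (y * w * y⁻¹) = ⁅w⁻¹, y⁆ by rw [commutatorElement_def]; group]
      exact hcomm1 _ _ (by rw [inv_pow, hw, inv_one]) hy
    rw [conj_pow, mul_inv_eq_iff_eq_mul] at h
    exact h.symm
  refine ⟨fun x y hx hy => (hmem1 _).mp (W1.mul_mem ((hmem1 x).mpr hx) ((hmem1 y).mpr hy)),
    fun x y hx hy => (hmem2 _).mp (W2.mul_mem ((hmem2 x).mpr hx) ((hmem2 y).mpr hy)),
    hpow, hone, hroot, hcomm, hcomm1, fun x y hx hy => ?_⟩
  obtain ⟨c, hc, hce⟩ := h1 x y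
  have hc1 : c = 1 := by
    have hle : Cfsg.powerClosure p 1 ⁅Subgroup.closure ({x, y} : Set L), Subgroup.closure ({x, y} : Set L)⁆ ≤ ⊥ := by
      have hW : ⁅Subgroup.closure ({x, y} : Set L), Subgroup.closure ({x, y} : Set L)⁆ ≤ W1 := by
        refine Subgroup.commutator_le.mpr fun g hg k hk => (hmem1 _).mpr ?_
        have hsub : Subgroup.closure ({x, y} : Set L) ≤ W2 := PGroups.closure_pair_le ((hmem2 x).mpr hx) ((hmem2 y).mpr hy)
        exact hcomm1 g k ((hmem2 g).mp (hsub hg)) ((hmem2 k).mp (hsub hk))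
      rw [Cfsg.powerClosure, Subgroup.closure_le]
      rintro _ ⟨g, hg, rfl⟩
      exact Subgroup.mem_bot.mpr (by rw [pow_one]; exact (hmem1 g).mp (hW hg))
    exact Subgroup.mem_bot.mp (hle hc)
  rw [hc1] at hce
  simpa using hce

/-- Powers of an automorphism along a central chain `w ↦ w u`, `u ↦ u v`, `v ↦ v s`. -/
theorem iterate_eq {M : Type*} [Group M] (a : MulAut M) {w u v s : M} (hw : a w = w * u) (hu : a u = u * v)
    (hv : a v = v * s) (hs : a s = s) (huv : Commute u v) (hus : Commute u s) (hvs : Commute v s) (j : ℕ) :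
    (a ^ j) w = w * u ^ j * v ^ (j.choose 2) * s ^ (j.choose 3) := by
  induction j with
  | zero => simp
  | succ j ih =>
    have e2 : (j + 1).choose 2 = j + j.choose 2 := by rw [Nat.choose_succ_succ', Nat.choose_one_right]
    have e3 : (j + 1).choose 3 = j.choose 2 + j.choose 3 := Nat.choose_succ_succ' j 2
    rw [pow_succ', MulAut.mul_apply, ih, map_mul, map_mul, map_mul, map_pow, map_pow, map_pow, hw, hu, hv, hs,
      huv.mul_pow, hvs.mul_pow, show u ^ (j + 1) = u * u ^ j from pow_succ' u j, e2, e3, pow_add, pow_add]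
    simp only [mul_assoc]

/-- In a `p`-group of maximal class of order at least `p ^ 4` there is one normal subgroup of order `p ^ 2`. -/
theorem eq_of_normal_sq {X : Type*} [Group X] [Finite X] {n : ℕ} (hn : 4 ≤ n) (hX : Nat.card X = p ^ n)
    (hc : Group.nilpotencyClass X = n - 1) {A B : Subgroup X} [A.Normal] [B.Normal]
    (hA : Nat.card A = p ^ 2) (hB : Nat.card B = p ^ 2) : A = B := by
  have hp1 : p.Prime := Fact.out
  obtain ⟨hz, hq, hqc⟩ := PGroups.card_center_of_maxClass (by omega) hX hc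
  obtain ⟨hz2, -, -⟩ := PGroups.card_center_of_maxClass (p := p) (n := n - 1) (by omega) hq hqc
  have key : ∀ C : Subgroup X, C.Normal → Nat.card C = p ^ 2 →
      C = (Subgroup.center (X ⧸ Subgroup.center X)).comap (QuotientGroup.mk' (Subgroup.center X)) := by
    intro C hC hCc
    have hG := IsPGroup.of_card hX
    haveI := hC
    have hne : C ≠ ⊥ := fun h => by
      rw [h, Subgroup.card_bot] at hCc
      exact (Nat.one_lt_pow two_ne_zero hp1.one_lt).ne hCc
    have hinf := PGroups.inf_center_ne_bot hG C hne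
    have hZC : Subgroup.center X ≤ C := by
      have : C ⊓ Subgroup.center X = Subgroup.center X := by
        refine Subgroup.eq_of_le_of_card_ge inf_le_right ?_
        rw [hz]
        obtain ⟨i, hi⟩ := IsPGroup.iff_card.mp (hG.to_subgroup (C ⊓ Subgroup.center X))
        rw [hi]
        refine Nat.le_self_pow ?_ p
        rintro rfl
        exact hinf (Subgroup.card_eq_one.mp (hi.trans (pow_zero p)))
      exact this ▸ inf_le_left
    set Cb := C.map (QuotientGroup.mk' (Subgroup.center X)) with hCb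
    haveI : Cb.Normal := Subgroup.Normal.map hC _ (QuotientGroup.mk'_surjective _)
    have hcomap : Cb.comap (QuotientGroup.mk' (Subgroup.center X)) = C := by
      rw [hCb, Subgroup.comap_map_eq, QuotientGroup.ker_mk', sup_eq_left.mpr hZC]
    have hCbc : Nat.card Cb = p := by
      have hidx : Cb.index = C.index := by
        rw [← hcomap, Subgroup.index_comap_of_surjective _ (QuotientGroup.mk'_surjective _)]
      have h1 := Cb.card_mul_index
      have h2 := C.card_mul_index
      rw [hidx, hq] at h1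
      rw [hCc, hX, show p ^ n = p ^ (n - 1) * p by rw [← pow_succ, Nat.sub_add_cancel (by omega)], ← h1, pow_two] at h2
      have hpos : 0 < C.index := Nat.pos_of_ne_zero Subgroup.index_ne_zero_of_finite
      exact (Nat.eq_of_mul_eq_mul_right hpos (Nat.eq_of_mul_eq_mul_left hp1.pos
        (show p * (p * C.index) = p * (Nat.card Cb * C.index) by linarith))).symm
    have hle : Cb ≤ Subgroup.center _ := by
      have hne' : Cb ≠ ⊥ := fun h => by
        rw [h, Subgroup.card_bot] at hCbc
        exact hp1.one_lt.ne hCbc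
      have h3 : Cb ⊓ Subgroup.center _ = Cb := by
        refine Subgroup.eq_of_le_of_card_ge inf_le_left ?_
        rw [hCbc]
        obtain ⟨i, hi⟩ := IsPGroup.iff_card.mp ((IsPGroup.of_card hq).to_subgroup (Cb ⊓ Subgroup.center (X ⧸ Subgroup.center X)))
        rw [hi]
        refine Nat.le_self_pow ?_ p
        rintro rfl
        exact PGroups.inf_center_ne_bot (IsPGroup.of_card hq) Cb hne' (Subgroup.card_eq_one.mp (hi.trans (pow_zero p)))
      exact h3 ▸ inf_le_right
    rw [← hcomap, Subgroup.eq_of_le_of_card_ge hle (by rw [hz2, hCbc])]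
  exact (key A inferInstance hA).trans (key B inferInstance hB).symm

end Cfsg.Agent.H75.Metacyclic
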