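import Mathlib
import Cfsg.Agent.H75.Basic

/-!
The number of classes of `π`-elements is at most the `π`-part of the group order.
-/

set_option autoImplicit false

namespace Cfsg.Agent.H75

open Subgroup
open scoped Pointwise

universe u

/-- Classes all of whose elements have order supported in `s`. -/
abbrev PiClass (s : Finset ℕ) (G : Type u) [Group G] : Type u :=
  {C : ConjClasses G // ∀ g : G, ConjClasses.mk g = C → (orderOf g).primeFactors ⊆ s}

theorem card_piClass_le (s : Finset ℕ) (hs : ∀ q ∈ s, q.Prime) :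
    ∀ (G : Type u) [Group G] [Finite G],
      Nat.card (PiClass s G) ≤ ∏ r ∈ s, r ^ (Nat.card G).factorization r := by
  induction s using Finset.induction with
  | empty =>
    intro G _ _
    rw [Finset.prod_empty]
    refine Finite.card_le_one_iff_subsingleton.2 ⟨?_⟩
    · intro C D
      obtain ⟨C, hC⟩ := C
      obtain ⟨D, hD⟩ := D
      obtain ⟨c, rfl⟩ := C.exists_rep
      obtain ⟨d, rfl⟩ := D.exists_rep
      have hc : c = 1 := orderOf_eq_one_iff.1 (by
        by_contra h
        obtain ⟨q, hq, hqd⟩ := Nat.exists_prime_and_dvd h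
        exact absurd (hC c rfl (hq.mem_primeFactors hqd (orderOf_pos c).ne')) (Finset.notMem_empty q))
      have hd : d = 1 := orderOf_eq_one_iff.1 (by
        by_contra h
        obtain ⟨q, hq, hqd⟩ := Nat.exists_prime_and_dvd h
        exact absurd (hD d rfl (hq.mem_primeFactors hqd (orderOf_pos d).ne')) (Finset.notMem_empty q))
      subst hc; subst hd; rfl
  | insert r s hrs ih =>
    intro G _ _
    classical
    have hr : r.Prime := hs r (Finset.mem_insert_self r s)
    have hs' : ∀ q ∈ s, q.Prime := fun q hq => hs q (Finset.mem_insert_of_mem hq)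
    haveI : Fact r.Prime := ⟨hr⟩
    obtain ⟨R⟩ := (inferInstance : Nonempty (Sylow r G))
    -- a representative with r-part in R
    have key : ∀ C : PiClass (insert r s) G, ∃ (u : (R : Subgroup G))
        (v : centralizer ({(u : G)} : Set G)),
        ConjClasses.mk ((u : G) * v) = C.1 ∧ (orderOf v).primeFactors ⊆ s := by
      rintro ⟨C, hC⟩
      obtain ⟨g, rfl⟩ := C.exists_rep
      obtain ⟨u, v, hu, hv, huv, ⟨k, hk⟩, hcop, -, hvd⟩ := exists_split g hr
      have hpg : IsPGroup r (zpowers u) := IsPGroup.of_card (n := k) (by rw [Nat.card_zpowers, hk])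
      obtain ⟨Q, hQ⟩ := hpg.exists_le_sylow
      obtain ⟨a, ha⟩ := MulAction.exists_smul_eq G Q R
      have huR : a * u * a⁻¹ ∈ (R : Subgroup G) := by
        rw [← ha]
        exact Subgroup.smul_mem_pointwise_smul u (MulAut.conj a) _ (hQ (mem_zpowers u))
      have hcomm : Commute u v := by
        obtain ⟨i, rfl⟩ := mem_zpowers_iff.1 hu
        obtain ⟨j, rfl⟩ := mem_zpowers_iff.1 hv
        exact Commute.zpow_zpow_self g i j
      have hc' : (a * v * a⁻¹) * (a * u * a⁻¹) = (a * u * a⁻¹) * (a * v * a⁻¹) := by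
        calc _ = a * (v * u) * a⁻¹ := by group
          _ = a * (u * v) * a⁻¹ := by rw [hcomm.eq]
          _ = _ := by group
      refine ⟨⟨_, huR⟩, ⟨a * v * a⁻¹, mem_centralizer_singleton_iff.2 hc'⟩, ?_, ?_⟩
      · apply ConjClasses.mk_eq_mk_iff_isConj.2
        refine isConj_iff.2 ⟨a⁻¹, ?_⟩
        show a⁻¹ * (a * u * a⁻¹ * (a * v * a⁻¹)) * a⁻¹⁻¹ = g
        rw [← huv]; group
      · rw [Subgroup.orderOf_mk]
        intro q hq
        have hq' : q ∈ (orderOf v).primeFactors := by
          rwa [show orderOf (a * v * a⁻¹) = orderOf v from (MulAut.conj a).orderOf_eq v] at hq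
        have h1 := hC g rfl (Nat.primeFactors_mono hvd (orderOf_pos g).ne' hq')
        rcases Finset.mem_insert.1 h1 with rfl | h
        · exfalso
          exact hr.one_lt.ne' (Nat.dvd_one.1
            (hcop ▸ Nat.dvd_gcd (Nat.dvd_of_mem_primeFactors hq') dvd_rfl))
        · exact h
    choose U V hUV hV using key
    let tgt := Σ u : (R : Subgroup G), PiClass s (centralizer ({(u : G)} : Set G))
    let φ : PiClass (insert r s) G → tgt := fun C =>
      ⟨U C, ⟨ConjClasses.mk (V C), fun w hw q hq => by
        obtain ⟨c, rfl⟩ := isConj_iff.1 (ConjClasses.mk_eq_mk_iff_isConj.1 hw.symm)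
        rw [show orderOf (c * V C * c⁻¹) = orderOf (V C) from (MulAut.conj c).orderOf_eq _] at hq
        exact hV C hq⟩⟩
    have hinj : Function.Injective φ := by
      intro C D h
      apply Subtype.ext
      rw [← hUV C, ← hUV D]
      have h1 : U C = U D := congrArg Sigma.fst h
      have : ∀ (u u' : (R : Subgroup G)) (_ : u = u') (v : centralizer ({(u : G)} : Set G))
          (v' : centralizer ({(u' : G)} : Set G)) hv hv',
          (⟨u, ⟨ConjClasses.mk v, hv⟩⟩ : tgt) = ⟨u', ⟨ConjClasses.mk v', hv'⟩⟩ →
          ConjClasses.mk ((u : G) * v) = ConjClasses.mk ((u' : G) * v') := by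
        rintro u _ rfl v v' hv hv' he
        have he' : ConjClasses.mk v = ConjClasses.mk v' :=
          congrArg Subtype.val (eq_of_heq (Sigma.mk.inj_iff.1 he).2)
        obtain ⟨c, hc⟩ := isConj_iff.1 (ConjClasses.mk_eq_mk_iff_isConj.1 he')
        apply ConjClasses.mk_eq_mk_iff_isConj.2
        refine isConj_iff.2 ⟨c, ?_⟩
        have hcu := mem_centralizer_singleton_iff.1 c.2
        rw [← hc]
        push_cast
        calc (c : G) * ((u : G) * v) * (c : G)⁻¹ = ((c : G) * u) * v * (c : G)⁻¹ := by group
          _ = (u : G) * c * v * (c : G)⁻¹ := by rw [hcu]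
          _ = (u : G) * ((c : G) * v * (c : G)⁻¹) := by group
      exact this _ _ h1 _ _ _ _ h
    haveI : ∀ u : (R : Subgroup G), Finite (PiClass s (centralizer ({(u : G)} : Set G))) :=
      fun u => Subtype.finite
    have : Fintype (R : Subgroup G) := Fintype.ofFinite _
    refine (Nat.card_le_card_of_injective φ hinj).trans ?_
    rw [show Nat.card tgt = _ from Nat.card_sigma, Finset.prod_insert hrs]
    refine (Finset.sum_le_card_nsmul _ _ (∏ q ∈ s, q ^ (Nat.card G).factorization q) fun u _ =>
      (ih hs' _).trans (Finset.prod_le_prod' fun q hq => ?_)).trans ?_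
    · exact Nat.pow_le_pow_right (hs' q hq).pos ((Nat.factorization_le_iff_dvd Nat.card_pos.ne'
        Nat.card_pos.ne').2 (Subgroup.card_subgroup_dvd_card _) q)
    · rw [smul_eq_mul, Finset.card_univ, ← Nat.card_eq_fintype_card, R.card_eq_multiplicity]

end Cfsg.Agent.H75
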