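import Mathlib
import Cfsg.Agent.S3360
import Cfsg.Agent.Hall.CardForms
import Cfsg.Agent.Hall.MinimalNormal
import Cfsg.Agent.Frobenius.NoFrobenius
import Cfsg.Agent.H24.FPF
import Cfsg.Agent.Cores.Basic

/-!
Solvable groups of automorphisms of an elementary abelian group of order `p ^ n`, `n ≥ 3`, transitive
on the subgroups of order `p` and of order `p ^ 2`: semilinear of dimension one, with `n = 3` or
`(p, n) = (2, 5)`.
-/

set_option autoImplicit false

open scoped Pointwise

namespace Cfsg.Agent.H75.PlaneTransitive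

universe u

theorem arith {p n : ℕ} (hp : p.Prime) (hn : 3 ≤ n) (h : p ^ (n - 1) - 1 ∣ n * (p ^ 2 - 1)) :
    n = 3 ∨ (n = 5 ∧ p = 2) := by
  have h2 := hp.two_le
  have hp2 : 4 ≤ p ^ 2 := Nat.pow_le_pow_left h2 2
  have hpos : 0 < n * (p ^ 2 - 1) := Nat.mul_pos (by omega) (by omega)
  have hle := Nat.le_of_dvd hpos h
  rcases (show n = 3 ∨ n = 4 ∨ n = 5 ∨ 6 ≤ n by omega) with rfl | rfl | rfl | h6
  · exact Or.inl rfl
  · exfalso
    rw [show p ^ (4 - 1) = p * p ^ 2 from pow_succ' p 2] at hle h
    have hp4 : p ≤ 3 := by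
      by_contra hlt
      have : 4 * p ^ 2 ≤ p * p ^ 2 := Nat.mul_le_mul_right _ (by omega)
      omega
    interval_cases p <;> norm_num at h
  · refine Or.inr ⟨rfl, ?_⟩
    rw [show p ^ (5 - 1) = p ^ 2 * p ^ 2 from (pow_add p 2 2)] at hle
    by_contra hne
    have h3 : 9 ≤ p ^ 2 := Nat.pow_le_pow_left (show 3 ≤ p by omega) 2
    have : 9 * p ^ 2 ≤ p ^ 2 * p ^ 2 := Nat.mul_le_mul_right _ h3
    omega
  · exfalso
    rw [show n - 1 = 2 + (n - 3) by omega, pow_add] at hle
    have haux : ∀ k : ℕ, 3 + k + 3 < 2 ^ (3 + k) := by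
      intro k
      induction k with
      | zero => norm_num
      | succ k ih => rw [← Nat.add_assoc 3 k 1, pow_succ]; omega
    have h3 : n + 1 ≤ p ^ (n - 3) := by
      refine le_trans ?_ (Nat.pow_le_pow_left h2 _)
      obtain ⟨k, rfl⟩ : ∃ k, n = 6 + k := ⟨n - 6, by omega⟩
      have := haux k
      rw [show 6 + k - 3 = 3 + k by omega]
      omega
    have h4 : p ^ 2 * (n + 1) ≤ p ^ 2 * p ^ (n - 3) := Nat.mul_le_mul_left _ h3
    rw [Nat.mul_sub_one, Nat.mul_comm n] at hle
    rw [Nat.mul_succ] at h4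
    omega

section count

variable {P : Type u} [CommGroup P] [Finite P] {p n : ℕ} [Fact p.Prime]

/-- Pairs generating subgroups of order `p ^ 2`. -/
theorem card_pairs (hexp : ∀ x : P, x ^ p = 1) (hP : Nat.card P = p ^ n) :
    Nat.card {q : P × P // q.1 ≠ 1 ∧ q.2 ∉ Subgroup.zpowers q.1} = (p ^ n - 1) * (p ^ n - p) := by
  classical
  cases nonempty_fintype P
  let e : {q : P × P // q.1 ≠ 1 ∧ q.2 ∉ Subgroup.zpowers q.1} ≃
      Σ x : {x : P // x ≠ 1}, {y : P // y ∉ Subgroup.zpowers (x : P)} :=
    { toFun := fun q => ⟨⟨q.1.1, q.2.1⟩, ⟨q.1.2, q.2.2⟩⟩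
      invFun := fun s => ⟨(s.1, s.2), s.1.2, s.2.2⟩
      left_inv := fun q => rfl
      right_inv := fun s => rfl }
  have h1 : ∀ x : {x : P // x ≠ 1}, Nat.card {y : P // y ∉ Subgroup.zpowers (x : P)} = p ^ n - p := by
    intro x
    rw [Nat.card_eq_fintype_card, Fintype.card_subtype_compl, ← Nat.card_eq_fintype_card,
      ← Nat.card_eq_fintype_card, hP, Nat.card_zpowers, orderOf_eq_prime (hexp _) x.2]
  rw [Nat.card_congr e, Nat.card_sigma, Finset.sum_congr rfl (fun x _ => h1 x), Finset.sum_const,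
    Finset.card_univ, smul_eq_mul, Fintype.card_subtype_compl, Fintype.card_subtype_eq,
    ← Nat.card_eq_fintype_card, hP]

/-- The number of subgroups of order `p ^ 2`. -/
theorem card_sq_subgroups (hexp : ∀ x : P, x ^ p = 1) (hP : Nat.card P = p ^ n) :
    Nat.card {A : Subgroup P // Nat.card A = p ^ 2} * ((p ^ 2 - 1) * (p ^ 2 - p)) =
      (p ^ n - 1) * (p ^ n - p) := by
  classical
  have hp : p.Prime := Fact.out
  have hcard : ∀ q : {q : P × P // q.1 ≠ 1 ∧ q.2 ∉ Subgroup.zpowers q.1},
      Nat.card ↥(Subgroup.zpowers q.1.1 ⊔ Subgroup.zpowers q.1.2) = p ^ 2 := by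
    rintro ⟨⟨x, y⟩, hx, hy⟩
    have hy1 : y ≠ 1 := fun h => hy (h ▸ one_mem _)
    have h := Cores.card_sup_mul_card_inf (Subgroup.zpowers x) (Subgroup.zpowers y)
    have hinf : Subgroup.zpowers x ⊓ Subgroup.zpowers y = ⊥ := by
      by_contra hne
      obtain ⟨z, hz, hz1⟩ := (Subgroup.bot_or_exists_ne_one _).resolve_left hne
      have : Subgroup.zpowers z = Subgroup.zpowers y := by
        refine Subgroup.eq_of_le_of_card_ge (Subgroup.zpowers_le.mpr hz.2) ?_
        rw [Nat.card_zpowers, Nat.card_zpowers, orderOf_eq_prime (hexp z) hz1, orderOf_eq_prime (hexp y) hy1]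
      exact hy ((Subgroup.zpowers_le.mpr hz.1) (this ▸ Subgroup.mem_zpowers y))
    rw [hinf, Subgroup.card_bot, mul_one, Nat.card_zpowers, Nat.card_zpowers, orderOf_eq_prime (hexp x) hx,
      orderOf_eq_prime (hexp y) hy1, ← pow_two] at h
    exact h
  let F : {q : P × P // q.1 ≠ 1 ∧ q.2 ∉ Subgroup.zpowers q.1} → {A : Subgroup P // Nat.card A = p ^ 2} :=
    fun q => ⟨_, hcard q⟩
  cases nonempty_fintype P
  have hfib : ∀ A, Nat.card {q // F q = A} = (p ^ 2 - 1) * (p ^ 2 - p) := by
    rintro ⟨A, hA⟩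
    rw [← card_pairs (P := A) (fun x => Subtype.ext (hexp x)) hA]
    refine Nat.card_congr
      { toFun := fun q => ⟨(⟨q.1.1.1, ?_⟩, ⟨q.1.1.2, ?_⟩), ?_, ?_⟩
        invFun := fun r => ⟨⟨((r.1.1 : P), (r.1.2 : P)), ?_, ?_⟩, ?_⟩
        left_inv := fun q => rfl
        right_inv := fun r => rfl }
    · exact (congrArg Subtype.val q.2 : _ = A).le (Subgroup.mem_sup_left (Subgroup.mem_zpowers _))
    · exact (congrArg Subtype.val q.2 : _ = A).le (Subgroup.mem_sup_right (Subgroup.mem_zpowers _))
    · exact fun h => q.1.2.1 (congrArg Subtype.val h)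
    · intro h
      obtain ⟨i, hi⟩ := Subgroup.mem_zpowers_iff.mp h
      exact q.1.2.2 (Subgroup.mem_zpowers_iff.mpr ⟨i, by simpa using congrArg Subtype.val hi⟩)
    · exact fun h => r.2.1 (Subtype.ext h)
    · intro h
      obtain ⟨i, hi⟩ := Subgroup.mem_zpowers_iff.mp h
      exact r.2.2 (Subgroup.mem_zpowers_iff.mpr ⟨i, Subtype.ext (by simpa using hi)⟩)
    · refine Subtype.ext (Subgroup.eq_of_le_of_card_ge
        (sup_le (Subgroup.zpowers_le.mpr r.1.1.2) (Subgroup.zpowers_le.mpr r.1.2.2)) ?_)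
      refine (hA.trans (hcard ⟨((r.1.1 : P), (r.1.2 : P)), fun h => r.2.1 (Subtype.ext h), fun h => ?_⟩).symm).le
      obtain ⟨i, hi⟩ := Subgroup.mem_zpowers_iff.mp h
      exact r.2.2 (Subgroup.mem_zpowers_iff.mpr ⟨i, Subtype.ext (by simpa using hi)⟩)
  rw [← card_pairs hexp hP, ← Nat.card_congr (Equiv.sigmaFiberEquiv F), Nat.card_sigma,
    Finset.sum_congr rfl (fun A _ => hfib A), Finset.sum_const, Finset.card_univ, smul_eq_mul,
    Nat.card_eq_fintype_card]

end count

section field

variable {F : Type} [Field F] [Fintype F] {p n : ℕ} [Fact p.Prime]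

theorem card_ringEquiv (hF : Nat.card F = p ^ n) : Nat.card (F ≃+* F) = n := by
  haveI : CharP F p := charP_of_card_eq_prime_pow (p := p) (f := n) (by rw [← hF, Nat.card_eq_fintype_card])
  let _ : Algebra (ZMod p) F := ZMod.algebra F p
  have hfr : Module.finrank (ZMod p) F = n := by
    have h := Module.natCard_eq_pow_finrank (K := ZMod p) (V := F)
    rw [hF, Nat.card_zmod] at h
    exact (Nat.pow_right_injective (Fact.out : p.Prime).two_le h).symm
  rw [← hfr, ← IsGalois.card_aut_eq_finrank (ZMod p) F]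
  exact Nat.card_congr
    { toFun := fun σ => AlgEquiv.ofRingEquiv (f := σ) fun x =>
        RingHom.congr_fun (RingHom.ext_zmod ((σ : F →+* F).comp (algebraMap (ZMod p) F)) _) x
      invFun := fun τ => τ.toRingEquiv
      left_inv := fun σ => RingEquiv.ext fun x => rfl
      right_inv := fun τ => AlgEquiv.ext fun x => rfl }

variable {G : Type u} [Group G] {P : Type u} [CommGroup P]

/-- `act` is semilinear through `e`. -/
def IsSemilin (act : G →* MulAut P) (e : Additive P ≃+ F) : Prop :=
  ∀ g : G, ∃ (a : Fˣ) (σ : F ≃+* F), ∀ x : P, e (Additive.ofMul (act g x)) = a * σ (e (Additive.ofMul x))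

theorem semilin_unique (e : Additive P ≃+ F) {a b : Fˣ} {σ τ : F ≃+* F}
    (h : ∀ x : P, (a : F) * σ (e (Additive.ofMul x)) = b * τ (e (Additive.ofMul x))) : a = b ∧ σ = τ := by
  have h' : ∀ y : F, (a : F) * σ y = b * τ y := fun y => by
    obtain ⟨x, rfl⟩ := e.surjective y
    exact h (Additive.toMul x)
  have hab : a = b := Units.ext (by simpa using h' 1)
  subst hab
  exact ⟨rfl, RingEquiv.ext fun y => mul_left_cancel₀ a.ne_zero (h' y)⟩

/-- The orders of semilinear groups. -/
theorem card_dvd [Finite G] (hF : Nat.card F = p ^ n) (act : G →* MulAut P) (hinj : Function.Injective act)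
    (e : Additive P ≃+ F) (hs : IsSemilin act e) :
    ∃ ψ : G →* (F ≃+* F), Nat.card G ∣ (p ^ n - 1) * Nat.card ψ.range ∧ Nat.card ψ.range ∣ n ∧
      ∀ g, ∃ a : Fˣ, ∀ x : P, e (Additive.ofMul (act g x)) = a * ψ g (e (Additive.ofMul x)) := by
  classical
  choose a σ h using hs
  have hmul : ∀ g g', a (g * g') = a g * Units.map (σ g : F →* F) (a g') ∧ σ (g * g') = (σ g').trans (σ g) :=
    fun g g' => semilin_unique e fun x => by
      rw [← h, map_mul, MulAut.mul_apply, h, h]
      simp [mul_assoc]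
  have hone : a 1 = 1 ∧ σ 1 = RingEquiv.refl F := semilin_unique e fun x => by
    rw [← h, map_one, MulAut.one_apply]
    simp
  let ψ : G →* (F ≃+* F) :=
    { toFun := σ
      map_one' := hone.2
      map_mul' := fun g g' => (hmul g g').2 }
  refine ⟨ψ, ?_, (Subgroup.card_subgroup_dvd_card _).trans (card_ringEquiv hF).dvd, fun g => ⟨a g, h g⟩⟩
  let κ : ψ.ker →* Fˣ :=
    { toFun := fun g => a g
      map_one' := hone.1
      map_mul' := fun g g' => by
        have hg : σ (g : G) = RingEquiv.refl F := g.2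
        refine (hmul (g : G) g').1.trans ?_
        congr 1
        exact Units.ext (by simp [hg]) }
  have hκ : Function.Injective κ := by
    intro g g' hgg
    refine Subtype.ext (hinj (MulEquiv.ext fun x => ?_))
    apply Additive.ofMul.injective
    apply e.injective
    rw [h, h, show σ (g : G) = RingEquiv.refl F from g.2, show σ (g' : G) = RingEquiv.refl F from g'.2,
      show a (g : G) = a (g' : G) from hgg]
  have hk : Nat.card ψ.ker ∣ p ^ n - 1 := by
    rw [← hF, ← Nat.card_units]
    exact Subgroup.card_dvd_of_injective κ hκ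
  rw [← ψ.ker.card_mul_index, Subgroup.index_ker]
  exact mul_dvd_mul_right hk _

end field

section exceptional

/-- A nontrivial group of order a power of thirteen fixes three of the eighty-one points. -/
theorem fixed_thirteen {P : Type u} [CommGroup P] [Finite P] (hP : Nat.card P = 81) (H : Subgroup (MulAut P))
    (hH : IsPGroup 13 H) (hne : H ≠ ⊥) (C : Subgroup P) (hC : ∀ x, x ∈ C ↔ ∀ h ∈ H, h x = x) :
    Nat.card C = 3 := by
  have h13 : Fact (Nat.Prime 13) := ⟨by norm_num⟩
  have hm : Nat.card P ≡ Nat.card C [MOD 13] := by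
    have hc := hH.card_modEq_card_fixedPoints P
    have e : Nat.card (MulAction.fixedPoints H P) = Nat.card C :=
      Nat.card_congr (Equiv.subtypeEquivRight fun x =>
        ⟨fun h => (hC x).mpr fun a ha => h ⟨a, ha⟩, fun h a => (hC x).mp h a a.2⟩)
    rwa [e] at hc
  obtain ⟨i, hi4, hCi⟩ := (Nat.dvd_prime_pow (show Nat.Prime 3 by norm_num) (m := 4)).mp
    (show Nat.card C ∣ 3 ^ 4 from (hP ▸ C.card_subgroup_dvd_card).trans (by norm_num))
  have hne' : Nat.card C ≠ 81 := fun h => hne ((Subgroup.eq_bot_iff_forall H).mpr fun a ha => by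
    have htop := Subgroup.eq_top_of_card_eq C (h.trans hP.symm)
    exact MulEquiv.ext fun x => (hC x).mp (htop ▸ Subgroup.mem_top x) a ha)
  rw [hP, hCi] at hm
  rw [hCi] at hne' ⊢
  interval_cases i <;> first | rfl | exact absurd hm (by decide) | exact absurd (by norm_num) hne'

/-- No element of order five commutes with one of order thirteen in degree four over the prime field with three elements. -/
theorem no_five_thirteen {P : Type u} [CommGroup P] [Finite P] (hexp : ∀ x : P, x ^ 3 = 1)
    (hP : Nat.card P = 81) (y z : MulAut P) (hy : orderOf y = 13) (hz : orderOf z = 5)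
    (hyz : ∀ C : Subgroup P, (∀ x, x ∈ C ↔ y x = x) → ∀ x ∈ C, z x ∈ C) : False := by
  classical
  let C : Subgroup P := (y : P →* P).eqLocus (MonoidHom.id P)
  have hC : ∀ x, x ∈ C ↔ y x = x := fun x => Iff.rfl
  have hzC := hyz C hC
  have h3 : Fact (Nat.Prime 3) := ⟨by norm_num⟩
  have h5 : Fact (Nat.Prime 5) := ⟨by norm_num⟩
  have h13 : Fact (Nat.Prime 13) := ⟨by norm_num⟩
  -- the fixed points of `y` have order three
  have hCcard : Nat.card C = 3 := by
    refine fixed_thirteen hP (Subgroup.zpowers y) (IsPGroup.of_card (n := 1) (by rw [Nat.card_zpowers, hy, pow_one]))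
      (fun h => ?_) C (fun x => ⟨fun hx h hh => ?_, fun h => (hC x).mpr (h y (Subgroup.mem_zpowers y))⟩)
    · rw [Subgroup.zpowers_eq_bot] at h
      rw [h, orderOf_one] at hy
      norm_num at hy
    · exact (Subgroup.zpowers_le.mpr (show y ∈ MulAction.stabilizer (MulAut P) x from (hC x).mp hx)) hh
  have hz5 : z ^ 5 = 1 := hz ▸ pow_orderOf_eq_one z
  have hzC' : ∀ x ∈ C, z x = x := by
    intro x hx
    let f : Equiv.Perm C := Equiv.ofBijective (fun w => (⟨z w, hzC w w.2⟩ : C))
      (Finite.injective_iff_bijective.mp fun w w' h => Subtype.ext (z.injective (congrArg Subtype.val h)))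
    have hf : ∀ (k : ℕ) (w : C), ((f ^ k) w : P) = (z ^ k) w := by
      intro k
      induction k with
      | zero => intro w; rfl
      | succ k ih => intro w; rw [pow_succ', pow_succ', Equiv.Perm.mul_apply, MulAut.mul_apply, ← ih w]; rfl
    have hf5 : f ^ 5 = 1 := Equiv.ext fun w => Subtype.ext (by rw [hf, hz5]; rfl)
    have h2 : f = 1 := by
      have hd : orderOf f ∣ Nat.factorial 3 := by
        rw [← hCcard, ← Nat.card_perm]
        exact orderOf_dvd_natCard f
      have hd5 := orderOf_dvd_of_pow_eq_one hf5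
      rw [← orderOf_eq_one_iff]
      exact Nat.eq_one_of_dvd_coprimes (by norm_num) hd hd5
    exact congrArg Subtype.val (Equiv.ext_iff.mp h2 ⟨x, hx⟩)
  -- the elements moved inside their coset
  let D : Subgroup P :=
    { carrier := {x | x⁻¹ * z x ∈ C}
      one_mem' := by simp [C.one_mem]
      mul_mem' := fun {a b} ha hb => by
        show (a * b)⁻¹ * z (a * b) ∈ C
        rw [show (a * b)⁻¹ * z (a * b) = (a⁻¹ * z a) * (b⁻¹ * z b) by rw [map_mul, mul_inv, mul_mul_mul_comm]]
        exact C.mul_mem ha hb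
      inv_mem' := fun {a} ha => by
        show a⁻¹⁻¹ * z a⁻¹ ∈ C
        rw [show a⁻¹⁻¹ * z a⁻¹ = (a⁻¹ * z a)⁻¹ by rw [map_inv]; simp [mul_comm]]
        exact C.inv_mem ha }
  have hDfix : ∀ x ∈ D, z x = x := by
    intro x hx
    set c := x⁻¹ * z x
    have hk : ∀ k : ℕ, (z ^ k) x = x * c ^ k := by
      intro k
      induction k with
      | zero => simp
      | succ k ih =>
        rw [pow_succ' z, MulAut.mul_apply, ih, map_mul, map_pow, hzC' c hx, pow_succ', ← mul_assoc,
          show z x = x * c from (mul_inv_cancel_left x (z x)).symm]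
    have h5' := hk 5
    rw [hz5, MulAut.one_apply, eq_comm, mul_eq_left] at h5'
    have hc1 : c = 1 := orderOf_eq_one_iff.mp (Nat.eq_one_of_dvd_coprimes (by norm_num)
      (orderOf_dvd_of_pow_eq_one h5') (orderOf_dvd_of_pow_eq_one (hexp c)))
    exact (inv_mul_eq_one.mp hc1).symm
  have hm : Nat.card (P ⧸ C) ≡ Nat.card {w : P ⧸ C // ∀ x : P, (x : P ⧸ C) = w → x ∈ D} [MOD 5] := by
    let f : Equiv.Perm (P ⧸ C) := Equiv.ofBijective (QuotientGroup.map C C (z : P →* P) hzC)
      (Finite.injective_iff_surjective.trans Iff.rfl |>.mpr (fun w => by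
        obtain ⟨x, rfl⟩ := QuotientGroup.mk_surjective w
        exact ⟨((z.symm x : P) : P ⧸ C), congrArg QuotientGroup.mk (z.apply_symm_apply x)⟩) |> fun h =>
        ⟨h, Finite.injective_iff_surjective.mp h⟩)
    have hfk : ∀ (k : ℕ) (x : P), (f ^ k) (x : P ⧸ C) = ((z ^ k) x : P) := by
      intro k
      induction k with
      | zero => intro x; rfl
      | succ k ih => intro x; rw [pow_succ', pow_succ', Equiv.Perm.mul_apply, MulAut.mul_apply, ih]; rfl
    have hf5 : f ^ 5 = 1 := Equiv.ext fun w => by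
      obtain ⟨x, rfl⟩ := QuotientGroup.mk_surjective w
      rw [hfk, hz5]
      rfl
    have hP5 : IsPGroup 5 (Subgroup.zpowers f) := by
      obtain ⟨j, -, hj⟩ := (Nat.dvd_prime_pow h5.out (m := 1)).mp
        ((orderOf_dvd_of_pow_eq_one hf5).trans (pow_one 5).symm.dvd)
      exact IsPGroup.of_card (Nat.card_zpowers f ▸ hj)
    refine (hP5.card_modEq_card_fixedPoints (P ⧸ C)).trans (Eq.mpr (congrArg (· ≡ _ [MOD 5]) (Nat.card_congr (Equiv.subtypeEquivRight fun w => ?_))) (Nat.ModEq.refl _))
    obtain ⟨x, rfl⟩ := QuotientGroup.mk_surjective w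
    constructor
    · intro hw x' hx'
      have h1 : f (x' : P ⧸ C) = x' := by
        rw [hx']; exact hw ⟨f, Subgroup.mem_zpowers f⟩
      exact (QuotientGroup.eq (s := C)).mp h1.symm
    · intro hw g
      refine (Subgroup.zpowers_le.mpr (show f ∈ MulAction.stabilizer (Equiv.Perm (P ⧸ C)) (x : P ⧸ C) from ?_)) g.2
      exact ((QuotientGroup.eq (s := C)).mpr (hw x rfl)).symm
  have hCD : C ≤ D := fun x hx => show x⁻¹ * z x ∈ C by rw [hzC' x hx, inv_mul_cancel]; exact C.one_mem
  have hDC : Nat.card {w : P ⧸ C // ∀ x : P, (x : P ⧸ C) = w → x ∈ D} = Nat.card (D.map (QuotientGroup.mk' C)) := by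
    refine Nat.card_congr (Equiv.subtypeEquivRight fun w => ?_)
    constructor
    · intro hw
      obtain ⟨x, rfl⟩ := QuotientGroup.mk_surjective w
      exact Subgroup.mem_map_of_mem _ (hw x rfl)
    · rintro ⟨x, hx, rfl⟩ x' hx'
      rw [show x' = x * (x⁻¹ * x') by group]
      exact D.mul_mem hx (hCD ((QuotientGroup.eq (s := C)).mp hx'.symm))
  have h27 : Nat.card (P ⧸ C) = 27 := by
    have h := C.card_eq_card_quotient_mul_card_subgroup
    rw [hP, hCcard] at h
    omega
  rw [hDC, h27] at hm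
  obtain ⟨j, hj3, hj⟩ := (Nat.dvd_prime_pow h3.out (m := 3)).mp
    (show Nat.card (D.map (QuotientGroup.mk' C)) ∣ 3 ^ 3 from
      (h27 ▸ (D.map (QuotientGroup.mk' C)).card_subgroup_dvd_card).trans (by norm_num))
  have htop : D.map (QuotientGroup.mk' C) = ⊤ := by
    apply Subgroup.eq_top_of_card_eq
    rw [h27, hj]
    rw [hj] at hm
    interval_cases j <;> first | rfl | exact absurd hm (by decide)
  have hDtop : D = ⊤ := by
    have h := congrArg (Subgroup.comap (QuotientGroup.mk' C)) htop
    rwa [Subgroup.comap_map_eq, QuotientGroup.ker_mk', Subgroup.comap_top, sup_eq_left.mpr hCD] at h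
  have : z = 1 := MulEquiv.ext fun x => hDfix x (hDtop ▸ Subgroup.mem_top x)
  rw [this, orderOf_one] at hz
  norm_num at hz

/-- A solvable group of automorphisms in degree four over three elements has order prime to 5 or 13. -/
theorem not_five_thirteen {P : Type u} [CommGroup P] [Finite P] (hexp : ∀ x : P, x ^ 3 = 1) (hP : Nat.card P = 81)
    (A : Subgroup (MulAut P)) [Finite A] [Group.IsSolvable A] (h5 : 5 ∣ Nat.card A) (h13 : 13 ∣ Nat.card A) : False := by
  classical
  have hp5 : Fact (Nat.Prime 5) := ⟨by norm_num⟩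
  have hp13 : Fact (Nat.Prime 13) := ⟨by norm_num⟩
  set m := 5 ^ (Nat.card A).factorization 5 * 13 ^ (Nat.card A).factorization 13 with hm
  have hmdvd : m ∣ Nat.card A := Nat.Coprime.mul_dvd_of_dvd_of_dvd
    (Nat.Coprime.pow _ _ (by norm_num)) (Nat.ordProj_dvd _ 5) (Nat.ordProj_dvd _ 13)
  obtain ⟨n, hn⟩ := hmdvd
  have hmn : m.Coprime n := by
    refine Nat.Coprime.mul_left (Nat.Coprime.pow_left _ ?_) (Nat.Coprime.pow_left _ ?_)
    · rw [Nat.Prime.coprime_iff_not_dvd hp5.out]
      intro hd
      refine Nat.pow_succ_factorization_not_dvd (Nat.card_pos (α := A)).ne' hp5.out ?_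
      have := mul_dvd_mul (Dvd.intro (13 ^ (Nat.card A).factorization 13) rfl : 5 ^ (Nat.card A).factorization 5 ∣ m) hd
      rwa [← hn, ← pow_succ] at this
    · rw [Nat.Prime.coprime_iff_not_dvd hp13.out]
      intro hd
      refine Nat.pow_succ_factorization_not_dvd (Nat.card_pos (α := A)).ne' hp13.out ?_
      have := mul_dvd_mul (Dvd.intro_left (5 ^ (Nat.card A).factorization 5) rfl : 13 ^ (Nat.card A).factorization 13 ∣ m) hd
      rwa [← hn, ← pow_succ] at this
  obtain ⟨L, hL⟩ := Hall.exists_subgroup_card hn hmn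
  have hL5 : 5 ∣ Nat.card L := by
    rw [hL, hm]
    exact Dvd.dvd.mul_right (dvd_pow_self 5 ((hp5.out.factorization_pos_of_dvd Nat.card_pos.ne' h5).ne')) _
  have hL13 : 13 ∣ Nat.card L := by
    rw [hL, hm]
    exact Dvd.dvd.mul_left (dvd_pow_self 13 ((hp13.out.factorization_pos_of_dvd Nat.card_pos.ne' h13).ne')) _
  have hLtop : (⊤ : Subgroup L) ≠ ⊥ := by
    intro h
    have h1 : Nat.card L = 1 := by rw [← Subgroup.card_top, h, Subgroup.card_bot]
    rw [h1] at hL5
    norm_num at hL5
  obtain ⟨W, hWn, hWne, -, hWmin⟩ := Hall.exists_minimal_normal_le (⊤ : Subgroup L) hLtop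
  haveI := hWn
  obtain ⟨hWc, r, hr, hWr, hWexp⟩ := Hall.minimal_normal_of_solvable hWne hWmin
  obtain ⟨y, hy⟩ := exists_prime_orderOf_dvd_card' 13 hL13
  obtain ⟨z, hz⟩ := exists_prime_orderOf_dvd_card' 5 hL5
  let ι : L →* MulAut P := A.subtype.comp L.subtype
  have hι : Function.Injective ι := A.subtype_injective.comp L.subtype_injective
  obtain ⟨w, hw, hw1⟩ := (Subgroup.bot_or_exists_ne_one W).resolve_left hWne
  have hwr : orderOf w = r := by
    haveI := Fact.mk hr
    exact orderOf_eq_prime (hWexp w hw) hw1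
  have hr2 : r = 5 ∨ r = 13 := by
    have hd : r ∣ m := hL ▸ hwr ▸ orderOf_dvd_natCard w
    rcases (Nat.Prime.dvd_mul hr).mp hd with h | h
    · exact Or.inl ((Nat.prime_dvd_prime_iff_eq hr hp5.out).mp (hr.dvd_of_dvd_pow h))
    · exact Or.inr ((Nat.prime_dvd_prime_iff_eq hr hp13.out).mp (hr.dvd_of_dvd_pow h))
  rcases hr2 with rfl | rfl
  · -- `W` has order five, so is centralised by `y`
    have hW5 : Nat.card W = 5 := by
      have hcyc : IsCyclic W := by
        letI : CommGroup W := { (inferInstance : Group W) with mul_comm := hWc.is_comm.comm }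
        by_contra hnc
        obtain ⟨B, hB, hBexp⟩ := H24.exists_elementary_sq hp5.out hWr hnc
        haveI : Nontrivial P := Finite.one_lt_card_iff_nontrivial.mp (by rw [hP]; norm_num)
        have hcycB : IsCyclic B := Frobenius.isCyclic_of_card_sq
          (φ := ι.comp (W.subtype.comp B.subtype)) (fun b hb x hx => by
            -- an element of order five fixes 1 or 81 points
            have hb1 : ι ((b : W) : L) ≠ 1 := fun h => hb (Subtype.ext (Subtype.ext (hι (h.trans (map_one ι).symm))))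
            by_contra hx1
            apply hb1
            set v := ι ((b : W) : L)
            have hv5 : v ^ 5 = 1 := by
              have h0 : (((b : W) : L)) ^ 5 = 1 := congrArg Subtype.val (hBexp b b.2)
              rw [← map_pow, h0, map_one]
            let C : Subgroup P := (v : P →* P).eqLocus (MonoidHom.id P)
            have hvo : orderOf v = 5 := orderOf_eq_prime hv5 hb1
            have hc := IsPGroup.card_modEq_card_fixedPoints (p := 5) (G := Subgroup.zpowers v)
              (IsPGroup.of_card (n := 1) (by rw [Nat.card_zpowers, hvo, pow_one])) P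
            have hc' : Nat.card P ≡ Nat.card C [MOD 5] := hc.trans ((fun {a b : ℕ} (e : a = b) => (e ▸ Nat.ModEq.refl a : a ≡ b [MOD 5])) (Nat.card_congr
              (Equiv.subtypeEquivRight fun q => ⟨fun h => h ⟨v, Subgroup.mem_zpowers v⟩, fun h g =>
                (Subgroup.zpowers_le.mpr (show v ∈ MulAction.stabilizer (MulAut P) q from h)) g.2⟩)))
            obtain ⟨i, hi, hCi⟩ := (Nat.dvd_prime_pow (show Nat.Prime 3 by norm_num) (m := 4)).mp
              (show Nat.card C ∣ 3 ^ 4 from (hP ▸ C.card_subgroup_dvd_card).trans (by norm_num))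
            have hne : Nat.card C ≠ 1 := fun h => hx1 (Subgroup.mem_bot.mp (Subgroup.card_eq_one.mp h ▸ (hx : x ∈ C)))
            have htop : C = ⊤ := Subgroup.eq_top_of_card_eq C (by
              rw [hP, hCi]
              rw [hP, hCi] at hc'
              rw [hCi] at hne
              interval_cases i <;> first | rfl | exact absurd hc' (by decide) | exact absurd (by norm_num) hne)
            exact MulEquiv.ext fun q => (htop ▸ Subgroup.mem_top q : q ∈ C)) 5 hB
        obtain ⟨g, hg⟩ := hcycB.exists_generator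
        have h25 : 5 ^ 2 ∣ 5 := by
          rw [← hB, ← orderOf_eq_card_of_forall_mem_zpowers hg]
          exact orderOf_dvd_of_pow_eq_one (Subtype.ext (hBexp g g.2))
        norm_num at h25
      obtain ⟨g, hg⟩ := hcyc.exists_generator
      rw [← orderOf_eq_card_of_forall_mem_zpowers hg]
      refine orderOf_eq_prime (Subtype.ext (hWexp g g.2)) fun h => hw1 ?_
      have := hg ⟨w, hw⟩
      rw [h, Subgroup.zpowers_one_eq_bot, Subgroup.mem_bot] at this
      exact congrArg Subtype.val this
    refine no_five_thirteen hexp hP (ι y) (ι w) (by rw [orderOf_injective ι hι, hy])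
      (by rw [orderOf_injective ι hι, hwr]) (fun C hC x hx => (hC _).mpr ?_)
    have hcomm : y * w = w * y := by
      have h1 : (MulAut.conjNormal (H := W) y) = 1 := by
        have hd : orderOf (MulAut.conjNormal (H := W) y) ∣ 13 := hy ▸ orderOf_map_dvd _ y
        have hd' : orderOf (MulAut.conjNormal (H := W) y) ∣ Nat.factorial 5 := by
          refine (orderOf_map_dvd (MulAut.toPerm W) _).antisymm' ?_ |>.dvd.trans ?_
          · rw [orderOf_injective (MulAut.toPerm W) (fun a b h => MulEquiv.ext fun q => Equiv.ext_iff.mp h q)]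
          · rw [← hW5, ← Nat.card_perm]
            exact orderOf_dvd_natCard _
        exact orderOf_eq_one_iff.mp (Nat.eq_one_of_dvd_coprimes (by decide) hd hd')
      have h2 := congrArg Subtype.val (DFunLike.congr_fun h1 ⟨w, hw⟩)
      rw [MulAut.conjNormal_apply, MulAut.one_apply] at h2
      exact mul_inv_eq_iff_eq_mul.mp h2
    rw [← MulAut.mul_apply, ← map_mul, hcomm, map_mul, MulAut.mul_apply, (hC x).mp hx]
  · refine no_five_thirteen hexp hP (ι w) (ι z) (by rw [orderOf_injective ι hι, hwr])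
      (by rw [orderOf_injective ι hι, hz]) (fun C hC x hx => (hC _).mpr ?_)
    -- `z` permutes the fixed points of the normal subgroup `W`
    have hfix : ∀ v : P, ι w v = v → ∀ w' ∈ W, ι w' v = v := by
      intro v hv w' hw'
      let CW : Subgroup P :=
        { carrier := {q | ∀ a ∈ W, ι a q = q}
          one_mem' := fun a _ => map_one _
          mul_mem' := fun {q q'} hq hq' a ha => by rw [map_mul, hq a ha, hq' a ha]
          inv_mem' := fun {q} hq a ha => by rw [map_inv, hq a ha] }
      have hCW : Nat.card CW = 3 := by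
        refine fixed_thirteen hP (W.map ι) (hWr.map ι) ?_ CW (fun q => ?_)
        · intro h
          exact hw1 (hι ((Subgroup.mem_bot.mp (h ▸ Subgroup.mem_map_of_mem ι hw)).trans (map_one ι).symm))
        · exact ⟨fun hq a ⟨a', ha', e⟩ => e ▸ hq a' ha', fun hq a ha => hq _ (Subgroup.mem_map_of_mem ι ha)⟩
      have hCw : Nat.card C = 3 := by
        refine fixed_thirteen hP (Subgroup.zpowers (ι w)) (IsPGroup.of_card (n := 1)
          (by rw [Nat.card_zpowers, orderOf_injective ι hι, hwr, pow_one])) ?_ C (fun q => ?_)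
        · rw [Ne, Subgroup.zpowers_eq_bot]
          exact fun h => hw1 (hι (h.trans (map_one ι).symm))
        · exact ⟨fun hq a ha => (Subgroup.zpowers_le.mpr
            (show ι w ∈ MulAction.stabilizer (MulAut P) q from (hC q).mp hq)) ha,
            fun hq => (hC q).mpr (hq _ (Subgroup.mem_zpowers _))⟩
      have heq : CW = C := Subgroup.eq_of_le_of_card_ge (fun q hq => (hC q).mpr (hq w hw)) (by rw [hCW, hCw])
      exact (heq.symm ▸ (hC v).mpr hv : v ∈ CW) w' hw'
    have h := hfix x ((hC x).mp hx) (z⁻¹ * w * z) (by simpa using hWn.conj_mem w hw z⁻¹)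
    rw [map_mul, map_mul, map_inv, MulAut.mul_apply, MulAut.mul_apply] at h
    have h' := congrArg (ι z) h
    rwa [MulAut.apply_inv_self] at h'

end exceptional

section main

variable {P : Type u} [CommGroup P] [Finite P] {p n : ℕ} [Fact p.Prime]

theorem pow_congr (hexp : ∀ x : P, x ^ p = 1) (x : P) {a b : ℕ} (h : a ≡ b [MOD p]) : x ^ a = x ^ b :=
  pow_eq_pow_iff_modEq.mpr (h.of_dvd (orderOf_dvd_of_pow_eq_one (hexp x)))

/-- The scalar automorphisms. -/
def scalar (hexp : ∀ x : P, x ^ p = 1) : (ZMod p)ˣ →* MulAut P where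
  toFun c :=
    { toFun := fun x => x ^ (c : ZMod p).val
      invFun := fun x => x ^ ((c⁻¹ : (ZMod p)ˣ) : ZMod p).val
      left_inv := fun x => by
        dsimp only
        rw [← pow_mul, pow_congr hexp x (b := 1) ((ZMod.natCast_eq_natCast_iff _ _ _).mp
          (by rw [Nat.cast_mul, ZMod.natCast_zmod_val, ZMod.natCast_zmod_val, Nat.cast_one, ← Units.val_mul,
            mul_inv_cancel, Units.val_one])), pow_one]
      right_inv := fun x => by
        dsimp only
        rw [← pow_mul, pow_congr hexp x (b := 1) ((ZMod.natCast_eq_natCast_iff _ _ _).mp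
          (by rw [Nat.cast_mul, ZMod.natCast_zmod_val, ZMod.natCast_zmod_val, Nat.cast_one, ← Units.val_mul,
            inv_mul_cancel, Units.val_one])), pow_one]
      map_mul' := fun x y => mul_pow x y _ }
  map_one' := MulEquiv.ext fun x => by
    show x ^ ((1 : (ZMod p)ˣ) : ZMod p).val = x
    rw [pow_congr hexp x (b := 1) ((ZMod.natCast_eq_natCast_iff _ _ _).mp (by simp)), pow_one]
  map_mul' c d := MulEquiv.ext fun x => by
    show x ^ ((c * d : (ZMod p)ˣ) : ZMod p).val = (x ^ (d : ZMod p).val) ^ (c : ZMod p).val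
    rw [← pow_mul]
    exact pow_congr hexp x ((ZMod.natCast_eq_natCast_iff _ _ _).mp (by simp [mul_comm]))

theorem main {H : Type u} [Group H] [Finite H] [Group.IsSolvable H] (hn : 3 ≤ n) (hexp : ∀ x : P, x ^ p = 1)
    (hP : Nat.card P = p ^ n) (act : H →* MulAut P) (hinj : Function.Injective act)
    (htr : ∀ A B : Subgroup P, Nat.card A = Nat.card B → ∃ h : H, A.map (act h).toMonoidHom = B) :
    ∃ (F : Type) (_ : Field F) (_ : Fintype F) (e : Additive P ≃+ F), Nat.card F = p ^ n ∧ IsSemilin act e ∧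
      (n = 3 ∨ (n = 5 ∧ p = 2)) ∧
      (p = 2 → (n = 5 → Nat.card H = 155) ∧ (n = 3 → Nat.card H = 21 ∨
        ∀ h : H, ∃ a : Fˣ, ∀ x : P, e (Additive.ofMul (act h x)) = a * e (Additive.ofMul x))) := by
  classical
  have hp : p.Prime := Fact.out
  have hn0 : n ≠ 0 := by omega
  haveI : Nontrivial P := Finite.one_lt_card_iff_nontrivial.mp (hP ▸ Nat.one_lt_pow hn0 hp.one_lt)
  haveI : Finite (MulAut P) := Finite.of_injective (fun a => (a : P → P)) DFunLike.coe_injective
  -- adjoin the scalars
  have hcomm : ∀ (h : H) (c : (ZMod p)ˣ), Commute (act h) (scalar hexp c) := fun h c =>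
    MulEquiv.ext fun x => map_pow (act h) x _
  let φ := act.noncommCoprod (scalar hexp) hcomm
  let G1 := φ.range
  haveI : Group.IsSolvable G1 := solvable_of_surjective φ.rangeRestrict_surjective
  have hG1act : ∀ h, act h ∈ G1 := fun h => ⟨(h, 1), by simp [φ]⟩
  have hG1sc : ∀ c, scalar hexp c ∈ G1 := fun c => ⟨(1, c), by simp [φ]⟩
  have hline : ∀ v w : P, v ≠ 1 → w ≠ 1 → ∃ g ∈ G1, g v = w := by
    intro v w hv hw
    obtain ⟨h, hh⟩ := htr (Subgroup.zpowers v) (Subgroup.zpowers w) (by
      rw [Nat.card_zpowers, Nat.card_zpowers, orderOf_eq_prime (hexp v) hv, orderOf_eq_prime (hexp w) hw])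
    obtain ⟨k, hk⟩ : ∃ k : ℕ, w ^ k = act h v := by
      have : act h v ∈ Subgroup.zpowers w := hh ▸ Subgroup.mem_map_of_mem _ (Subgroup.mem_zpowers v)
      exact (IsOfFinOrder.mem_powers_iff_mem_zpowers (isOfFinOrder_of_finite w)).mpr this
    have hk0 : (k : ZMod p) ≠ 0 := by
      rw [Ne, ZMod.natCast_eq_zero_iff]
      rintro ⟨c, rfl⟩
      rw [pow_mul, hexp, one_pow, eq_comm, MulEquiv.map_eq_one_iff] at hk
      exact hv hk
    refine ⟨scalar hexp (Units.mk0 _ hk0)⁻¹ * act h, G1.mul_mem (hG1sc _) (hG1act h), ?_⟩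
    show (act h v) ^ _ = w
    rw [← hk, ← pow_mul, pow_congr hexp w (b := 1) ((ZMod.natCast_eq_natCast_iff _ _ _).mp (by simp [hk0])), pow_one]
  -- transitivity on the subgroups of order `p ^ 2`
  set T := Nat.card {A : Subgroup P // Nat.card A = p ^ 2} with hT
  have hTeq := card_sq_subgroups hexp hP
  rw [← hT] at hTeq
  have hTdvd : T * (p - 1) ∣ Nat.card G1 := by
    obtain ⟨A0, hA0⟩ := Sylow.exists_subgroup_card_pow_prime p (hP ▸ pow_dvd_pow p (by omega : 2 ≤ n) : p ^ 2 ∣ Nat.card P)
    have horb : ∀ B : Subgroup P, Nat.card B = p ^ 2 → ∃ g : G1, g • A0 = B := by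
      intro B hB
      obtain ⟨h, hh⟩ := htr A0 B (hA0.trans hB.symm)
      exact ⟨⟨act h, hG1act h⟩, hh⟩
    have hcardorb : Nat.card (MulAction.orbit G1 A0) = T := by
      refine Nat.card_congr (Equiv.subtypeEquivRight fun B => ⟨?_, fun hB => ?_⟩)
      · rintro ⟨g, rfl⟩
        show Nat.card (A0.map ((g : MulAut P).toMonoidHom)) = _
        rw [Subgroup.card_map_of_injective (MulEquiv.injective _), hA0]
      · exact horb B hB
    let ι : (ZMod p)ˣ →* MulAction.stabilizer G1 A0 :=
      { toFun := fun c => ⟨⟨scalar hexp c, hG1sc c⟩, by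
          rw [MulAction.mem_stabilizer_iff]
          show A0.map (scalar hexp c).toMonoidHom = A0
          refine Subgroup.eq_of_le_of_card_ge ?_ ?_
          · rintro _ ⟨x, hx, rfl⟩
            exact A0.pow_mem hx _
          · rw [Subgroup.card_map_of_injective (MulEquiv.injective _)]⟩
        map_one' := Subtype.ext (Subtype.ext (map_one _))
        map_mul' := fun c d => Subtype.ext (Subtype.ext (map_mul _ c d)) }
    have hι : Function.Injective ι := by
      intro c d hcd
      obtain ⟨x, hx⟩ := exists_ne (1 : P)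
      have h1 : x ^ (c : ZMod p).val = x ^ (d : ZMod p).val :=
        congrArg (fun g : MulAction.stabilizer G1 A0 => ((g : G1) : MulAut P) x) hcd
      rw [pow_eq_pow_iff_modEq, orderOf_eq_prime (hexp x) hx, ← ZMod.natCast_eq_natCast_iff] at h1
      exact Units.ext (by simpa using h1)
    rw [← (MulAction.stabilizer G1 A0).card_mul_index, MulAction.index_stabilizer, mul_comm T, ← hcardorb]
    refine mul_dvd_mul ?_ (by rw [Nat.card_coe_set_eq])
    rw [← ZMod.card_units p, ← Nat.card_eq_fintype_card]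
    exact Subgroup.card_dvd_of_injective ι hι
  -- a semilinear structure
  haveI : Module (ZMod p) (Additive P) := AddCommGroup.zmodModule fun x => by
    apply Additive.toMul.injective
    exact hexp (Additive.toMul x)
  let L : G1 →* (Additive P ≃ₗ[ZMod p] Additive P) :=
    { toFun := fun g => LinearEquiv.ofLinear
        ((MonoidHom.toAdditive (g : MulAut P).toMonoidHom).toZModLinearMap p)
        ((MonoidHom.toAdditive (g : MulAut P)⁻¹.toMonoidHom).toZModLinearMap p)
        (LinearMap.ext fun x => congrArg Additive.ofMul (MulAut.apply_inv_self P (g : MulAut P) (Additive.toMul x)))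
        (LinearMap.ext fun x => congrArg Additive.ofMul (MulAut.inv_apply_self P (g : MulAut P) (Additive.toMul x)))
      map_one' := LinearEquiv.ext fun x => rfl
      map_mul' := fun g g' => LinearEquiv.ext fun x => rfl }
  have hLinj : Function.Injective L := fun g g' hgg => Subtype.ext (MulEquiv.ext fun x =>
    congrArg (fun l : Additive P ≃ₗ[ZMod p] Additive P => Additive.toMul (l (Additive.ofMul x))) hgg)
  have hhup := S3360.result p (V := Additive P) (inferInstance : Group.IsSolvable G1) L hLinj (fun v w hv hw => by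
    obtain ⟨g, hg, hgv⟩ := hline (Additive.toMul v) (Additive.toMul w) hv hw
    exact ⟨⟨g, hg⟩, congrArg Additive.ofMul hgv⟩)
  rcases hhup with ⟨F, instF, instFF, e, he⟩ | hexc
  swap
  · exfalso
    have hnat : Nat.card (Additive P) = p ^ n := (Nat.card_congr Additive.toMul).trans hP
    rw [hnat] at hexc
    have hsq : ∀ r : ℕ, r.Prime → p ^ n ≠ r ^ 2 := by
      intro r hr h
      have hpr : p = r := (Nat.prime_dvd_prime_iff_eq hp hr).mp (hp.dvd_of_dvd_pow (h ▸ dvd_pow_self p hn0))
      subst hpr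
      have := Nat.pow_right_injective hp.two_le h
      omega
    have h81 : p ^ n = 81 := by
      simp only [Set.mem_insert_iff, Set.mem_singleton_iff] at hexc
      rcases hexc with h | h | h | h | h | h
      · exact absurd (h.trans (by norm_num : (9 : ℕ) = 3 ^ 2)) (hsq 3 (by norm_num))
      · exact absurd (h.trans (by norm_num : (25 : ℕ) = 5 ^ 2)) (hsq 5 (by norm_num))
      · exact absurd (h.trans (by norm_num : (49 : ℕ) = 7 ^ 2)) (hsq 7 (by norm_num))
      · exact absurd (h.trans (by norm_num : (121 : ℕ) = 11 ^ 2)) (hsq 11 (by norm_num))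
      · exact absurd (h.trans (by norm_num : (529 : ℕ) = 23 ^ 2)) (hsq 23 (by norm_num))
      · exact h
    have hp3 : p = 3 := (Nat.prime_dvd_prime_iff_eq hp (by norm_num)).mp
      (hp.dvd_of_dvd_pow (show p ∣ 3 ^ 4 by rw [show (3 : ℕ) ^ 4 = p ^ n by rw [h81]; norm_num]; exact dvd_pow_self p hn0))
    subst hp3
    have hn4 : n = 4 := Nat.pow_right_injective (by norm_num : 2 ≤ 3) (h81.trans (by norm_num : (81 : ℕ) = 3 ^ 4))
    subst hn4
    norm_num at hTeq
    have hT130 : T = 130 := by omega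
    rw [hT130] at hTdvd
    exact not_five_thirteen hexp (hP.trans (by norm_num)) G1 (dvd_trans (by norm_num) hTdvd) (dvd_trans (by norm_num) hTdvd)
  have hF : Nat.card F = p ^ n := by
    rw [← Nat.card_congr e.toEquiv, Nat.card_congr Additive.toMul, hP]
  have hsemi : IsSemilin G1.subtype e := by
    intro g
    obtain ⟨a, σ, ha⟩ := he g
    obtain ⟨x, hx⟩ := exists_ne (1 : P)
    have ha0 : a ≠ 0 := by
      intro h0
      have h := ha (Additive.ofMul x)
      rw [h0, zero_mul, EmbeddingLike.map_eq_zero_iff] at h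
      exact hx (Additive.ofMul.injective ((L g).injective (h.trans (map_zero (L g)).symm)))
    exact ⟨Units.mk0 a ha0, σ, fun y => ha (Additive.ofMul y)⟩
  obtain ⟨ψ, hψ, hψn, -⟩ := card_dvd hF G1.subtype G1.subtype_injective e hsemi
  have hpk : ∀ k, 1 ≤ k → p ^ k - p = p * (p ^ (k - 1) - 1) := by
    intro k hk
    rw [Nat.mul_sub_one, ← pow_succ', Nat.sub_add_cancel hk]
  have hn35 : n = 3 ∨ (n = 5 ∧ p = 2) := by
    refine arith hp hn ?_
    have h1 : T * (p - 1) ∣ (p ^ n - 1) * n := (hTdvd.trans hψ).trans (mul_dvd_mul_left _ hψn)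
    have h2 := mul_dvd_mul_right h1 (p ^ 2 - 1)
    have h3 : T * (p - 1) * (p ^ 2 - 1) = (p ^ n - 1) * (p ^ (n - 1) - 1) := by
      rw [hpk 2 (by norm_num), hpk n (by omega), show (2 : ℕ) - 1 = 1 from rfl, pow_one] at hTeq
      apply Nat.eq_of_mul_eq_mul_left hp.pos
      linarith
    rw [h3, mul_assoc] at h2
    have hpos : 0 < p ^ n - 1 := Nat.sub_pos_of_lt (Nat.one_lt_pow hn0 hp.one_lt)
    exact (Nat.mul_dvd_mul_iff_left hpos).mp h2
  have hsemiH : IsSemilin act e := fun h => hsemi ⟨act h, hG1act h⟩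
  refine ⟨F, instF, instFF, e, hF, hsemiH, hn35, fun hp2 => ?_⟩
  subst hp2
  have hG1H : Nat.card G1 = Nat.card H := by
    have : G1 = act.range := by
      refine le_antisymm ?_ (fun g ⟨h, hh⟩ => hh ▸ hG1act h)
      rintro _ ⟨⟨h, c⟩, rfl⟩
      exact ⟨h, by simp [φ, Subsingleton.elim c 1]⟩
    rw [this, ← Nat.card_congr (MonoidHom.ofInjective hinj).toEquiv]
  obtain ⟨ψH, hψH, hψHn, hψHa⟩ := card_dvd hF act hinj e hsemiH
  rw [hG1H] at hTdvd
  constructor
  · rintro rfl
    norm_num at hTeq
    rw [show (2 : ℕ) ^ 5 - 1 = 31 from rfl] at hψH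
    have hT155 : T = 155 := by omega
    norm_num [hT155] at hTdvd
    refine Nat.dvd_antisymm (hψH.trans (mul_dvd_mul_left 31 hψHn)) hTdvd
  · rintro rfl
    norm_num at hTeq
    rw [show (2 : ℕ) ^ 3 - 1 = 7 from rfl] at hψH
    have hT7 : T = 7 := by omega
    norm_num [hT7] at hTdvd
    rcases (Nat.dvd_prime (by norm_num : Nat.Prime 3)).mp hψHn with hk | hk
    · refine Or.inr fun h => ?_
      obtain ⟨a, ha⟩ := hψHa h
      have hψ1 : ψH h = 1 := by
        have hbot := Subgroup.card_eq_one.mp hk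
        exact Subgroup.mem_bot.mp (hbot ▸ ⟨h, rfl⟩)
      exact ⟨a, fun x => by rw [ha x, hψ1]; rfl⟩
    · refine Or.inl ?_
      rw [hk] at hψH
      have h3 : 3 ∣ Nat.card H := hk ▸ Subgroup.card_range_dvd ψH
      exact Nat.dvd_antisymm hψH (Nat.Coprime.mul_dvd_of_dvd_of_dvd (by norm_num : Nat.Coprime 7 3) hTdvd h3)

end main

end Cfsg.Agent.H75.PlaneTransitive
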