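import Cfsg.Agent.H75.RealOverOdd
import Cfsg.Agent.S4914
import Cfsg.Agent.S4861
import Cfsg.Agent.Thompson.ZJ
import Cfsg.Agent.H85.RealClasses

/-!
# Real characters and real characters of `p'`-degree of a Sylow normalizer
-/

set_option autoImplicit false
set_option linter.unusedSectionVars false

open scoped ComplexConjugate

namespace Cfsg.Agent.H75.RealCorr

open Cfsg.Agent.CharBasic Cfsg.Agent.CharInduce Cfsg.Agent.H85 Cfsg.Agent.H75.RealOdd
open Subgroup (normalizer)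

universe u

variable {G : Type u} [Group G] [Finite G] {p : ℕ} [Fact p.Prime]

/-- Conjugates of a Sylow subgroup inside a subgroup are conjugate by it. -/
theorem exists_normalizer_mul (P : Sylow p G) (T : Subgroup G) (hP : (P : Subgroup G) ≤ T) {g : G}
    (hg : ∀ x ∈ (P : Subgroup G), g * x * g⁻¹ ∈ T) :
    ∃ n ∈ normalizer ((P : Subgroup G) : Set G), g * n⁻¹ ∈ T := by
  have hgP : ((g • P : Sylow p G) : Subgroup G) ≤ T := by
    intro y hy
    rw [Sylow.coe_subgroup_smul] at hy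
    obtain ⟨x, hx, rfl⟩ := hy
    exact hg x hx
  obtain ⟨t, ht⟩ := MulAction.exists_smul_eq T ((g • P : Sylow p G).subtype hgP) (P.subtype hP)
  have h : ((t : G) * g) • P = P := by
    rw [mul_smul]
    apply Sylow.subtype_injective (hP := ?_) (hQ := hP) (N := T)
    · rw [← ht]
      exact (Sylow.smul_subtype hgP t).symm
  refine ⟨(t : G) * g, Sylow.smul_eq_iff_mem_normalizer.1 h, ?_⟩
  rw [mul_inv_rev, mul_inv_cancel_left]
  exact inv_mem t.2

/-- The index of a subgroup containing a Sylow subgroup, modulo `p`. -/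
theorem index_modEq (P : Sylow p G) (T : Subgroup G) (hP : (P : Subgroup G) ≤ T) :
    ((T.index : ℕ) : ZMod p) =
      ((T.subgroupOf (normalizer ((P : Subgroup G) : Set G))).index : ZMod p) := by
  classical
  set N := normalizer ((P : Subgroup G) : Set G) with hN
  have h := P.isPGroup'.card_modEq_card_fixedPoints (G ⧸ T)
  rw [ZMod.natCast_eq_natCast_iff, Subgroup.index_eq_card]
  refine h.trans ?_
  have hfix : MulAction.fixedPoints (P : Subgroup G) (G ⧸ T) =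
      MulAction.orbit N ((1 : G) : G ⧸ T) := by
    ext q
    induction q using QuotientGroup.induction_on with
    | H g =>
      constructor
      · intro hq
        have hx : ∀ x ∈ (P : Subgroup G), g⁻¹ * x * g⁻¹⁻¹ ∈ T := fun x hx => by
          have h1 : ((x * g : G) : G ⧸ T) = (g : G ⧸ T) := hq ⟨x, hx⟩
          rw [inv_inv, mul_assoc]
          exact QuotientGroup.eq.1 h1.symm
        obtain ⟨n, hn, hgn⟩ := exists_normalizer_mul P T hP hx
        refine ⟨⟨n⁻¹, inv_mem hn⟩, ?_⟩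
        show ((n⁻¹ * 1 : G) : G ⧸ T) = (g : G ⧸ T)
        rw [mul_one, QuotientGroup.eq, inv_inv]
        simpa [mul_assoc] using inv_mem hgn
      · rintro ⟨⟨n, hn⟩, hq⟩ ⟨x, hx⟩
        replace hq : ((n * 1 : G) : G ⧸ T) = (g : G ⧸ T) := hq
        show ((x * g : G) : G ⧸ T) = (g : G ⧸ T)
        rw [← hq, mul_one]
        have : n⁻¹ * x * n ∈ (P : Subgroup G) := (Subgroup.mem_normalizer_iff''.1 hn x).1 hx
        rw [mul_one] at hq
        obtain ⟨t, ht, rfl⟩ : ∃ t ∈ T, g = n * t := ⟨n⁻¹ * g, QuotientGroup.eq.1 hq, by group⟩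
        rw [QuotientGroup.eq]
        have e : (x * (n * t))⁻¹ * n = t⁻¹ * (n⁻¹ * x * n)⁻¹ := by group
        rw [e]
        exact mul_mem (inv_mem ht) (inv_mem (hP this))
  rw [hfix, show (T.subgroupOf N) = MulAction.stabilizer N ((1 : G) : G ⧸ T) from ?_,
    MulAction.index_stabilizer, Nat.card_coe_set_eq]
  ext n
  rw [MulAction.mem_stabilizer_iff, Subgroup.mem_subgroupOf]
  show _ ↔ (((n : G) * 1 : G) : G ⧸ T) = ((1 : G) : G ⧸ T)
  rw [QuotientGroup.eq, mul_one, mul_one, inv_mem_iff]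

theorem le_inertia_conj {K : Subgroup G} [K.Normal] [Fintype G] {θ : K → ℂ} {P : Subgroup G} {n : G}
    (hn : n ∈ normalizer (P : Set G)) (hP : P ≤ CharInduce.inertia K θ) :
    P ≤ CharInduce.inertia K (conjFun K θ n) := fun x hx => by
  show conjFun K (conjFun K θ n) x = conjFun K θ n
  rw [conjFun_mul, show n * x = (n * x * n⁻¹) * n by group, ← conjFun_mul,
    show conjFun K θ (n * x * n⁻¹) = θ from hP ((Subgroup.mem_normalizer_iff.1 hn x).1 hx)]

theorem correspondence (p : ℕ) [Fact p.Prime]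
    (hsolv : Group.IsSolvable ↥(Subgroup.closure {g : G | ∃ k : ℕ, orderOf g = p ^ k}))
    (hreal : ∀ χ : Cfsg.IrrCharacter G, (∀ g : G, ((χ : G → ℂ) g).im = 0) →
      ¬ p ∣ Cfsg.charDegree (χ : G → ℂ)) (P : Sylow p G) :
    ∃ f : {χ : Cfsg.IrrCharacter G // ∀ g : G, ((χ : G → ℂ) g).im = 0} →
        {ξ : Cfsg.IrrCharacter ↥(normalizer ((P : Subgroup G) : Set G)) //
          (∀ n, ((ξ : ↥(normalizer ((P : Subgroup G) : Set G)) → ℂ) n).im = 0) ∧
          ¬ p ∣ Cfsg.charDegree (ξ : ↥(normalizer ((P : Subgroup G) : Set G)) → ℂ)},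
      Function.Bijective f ∧ ∀ χ,
        ((Cfsg.charDegree ((f χ).1 : ↥(normalizer ((P : Subgroup G) : Set G)) → ℂ) : ZMod p) =
            (Cfsg.charDegree (χ.1 : G → ℂ) : ZMod p) ∨
          (Cfsg.charDegree ((f χ).1 : ↥(normalizer ((P : Subgroup G) : Set G)) → ℂ) : ZMod p) =
            -(Cfsg.charDegree (χ.1 : G → ℂ) : ZMod p)) := by
  classical
  cases nonempty_fintype G
  set N := normalizer ((P : Subgroup G) : Set G) with hN
  let K : Subgroup G := pElemClosure 2 G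
  haveI : Fact (Nat.Prime 2) := ⟨Nat.prime_two⟩
  haveI : Fintype K := Fintype.ofFinite _
  haveI : Fintype N := Fintype.ofFinite _
  have hodd : Odd K.index := Nat.not_even_iff_odd.1 fun h =>
    not_dvd_index_pElemClosure (p := 2) (G := G) (even_iff_two_dvd.1 h)
  let C : Subgroup N := K.subgroupOf N
  haveI : C.Normal := inferInstanceAs (K.subgroupOf N).Normal
  haveI : Fintype C := Fintype.ofFinite _
  have hoddC : Odd C.index := hodd.of_dvd_nat (Subgroup.relIndex_dvd_index_of_normal K N)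
  have hPN : (P : Subgroup G) ≤ N := Subgroup.le_normalizer
  let Q : Subgroup G := (P : Subgroup G) ⊓ K
  obtain ⟨R, hR⟩ := Thompson.exists_sylow_inf_normal P K
  haveI hRn : (R : Subgroup K).Normal := S4861.result p hsolv hreal R
  have hQn : ∀ k ∈ K, ∀ q ∈ Q, k * q * k⁻¹ ∈ Q := by
    intro k hk q hq
    rw [show Q = (P : Subgroup G) ⊓ K from rfl, ← hR] at hq ⊢
    obtain ⟨r, hr, rfl⟩ := hq
    exact ⟨_, hRn.conj_mem r hr ⟨k, hk⟩, rfl⟩
  have hQp : ∃ a : ℕ, Nat.card ↥Q = p ^ a :=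
    IsPGroup.iff_card.1 (P.isPGroup'.to_le inf_le_left)
  have hQsyl : ¬ p ∣ Q.relIndex K := by
    rw [show Q = (P : Subgroup G) ⊓ K from rfl, ← hR, Subgroup.relIndex, Subgroup.subgroupOf,
      Subgroup.comap_map_eq_self_of_injective K.subtype_injective]
    exact R.not_dvd_index
  -- the relative Glauberman correspondence
  haveI : Fintype ↥(K ⊓ N) := Fintype.ofFinite _
  have hCmem : ∀ k : G, k ∈ K ⊓ N ↔ (k ∈ K ∧ ∀ x ∈ (P : Subgroup G), x * k * x⁻¹ * k⁻¹ ∈ Q) := by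
    intro k
    constructor
    · rintro ⟨hk, hkN⟩
      refine ⟨hk, fun x hx => ⟨?_, ?_⟩⟩
      · have := mul_mem hx ((Subgroup.mem_normalizer_iff.1 hkN _).1 (inv_mem hx))
        have e : x * k * x⁻¹ * k⁻¹ = x * (k * x⁻¹ * k⁻¹) := by group
        rw [e]
        exact this
      · exact K.mul_mem (Subgroup.Normal.conj_mem inferInstance k hk x) (K.inv_mem hk)
    · rintro ⟨hk, h⟩
      refine ⟨hk, Subgroup.mem_normalizer_fintype fun x hx => ?_⟩
      show k * x * k⁻¹ ∈ (P : Subgroup G)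
      have h1 := mul_mem hx (h x⁻¹ (inv_mem hx)).1
      simpa [mul_assoc] using h1
  obtain ⟨f₀, hf₀, hspec⟩ := S4914.result p (P : Subgroup G) K Q (K ⊓ N) P.isPGroup'
    (by rw [Subgroup.normalizer_eq_top (H := K)]; exact le_top) inf_le_right hQn hQp hQsyl
    inf_le_left hCmem
  let e : C ≃* ↥(K ⊓ N) :=
    { toFun := fun c => ⟨(c : G), Subgroup.mem_inf.2 ⟨c.2, c.1.2⟩⟩
      invFun := fun c => ⟨⟨c, c.2.2⟩, c.2.1⟩
      left_inv := fun _ => rfl
      right_inv := fun _ => rfl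
      map_mul' := fun _ _ => rfl }
  let InvK : Cfsg.IrrCharacter K → Prop := fun θ =>
    (P : Subgroup G) ≤ CharInduce.inertia K (θ : K → ℂ)
  let InvC : Cfsg.IrrCharacter C → Prop := fun ξ =>
    ∀ x : N, (x : G) ∈ (P : Subgroup G) → x ∈ CharInduce.inertia C (ξ : C → ℂ)
  let mult : (K → ℂ) → (C → ℂ) → ℂ := fun θ ξ =>
    Cfsg.classInner (fun c : C => θ ⟨(c : G), c.2⟩) ξ
  obtain ⟨Φ, hΦbij, hΦdeg, hΦspec⟩ : ∃ Φ : {θ // InvK θ} → {ξ // InvC ξ}, Function.Bijective Φ ∧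
      (∀ θ, (Cfsg.charDegree ((Φ θ).1 : C → ℂ) : ZMod p) = (Cfsg.charDegree (θ.1 : K → ℂ) : ZMod p) ∨
        (Cfsg.charDegree ((Φ θ).1 : C → ℂ) : ZMod p) = -(Cfsg.charDegree (θ.1 : K → ℂ) : ZMod p)) ∧
      ∀ θ ξ, ∃ m : ℕ, mult (θ.1 : K → ℂ) (ξ.1 : C → ℂ) = (m : ℂ) ∧ (ξ = Φ θ ↔ ¬ p ∣ m) := by
    have hK : ∀ θ : Cfsg.IrrCharacter K, InvK θ ↔ ∀ x ∈ (P : Subgroup G), ∀ k k' : K,
        (k' : G) = x * (k : G) * x⁻¹ → (θ : K → ℂ) k' = (θ : K → ℂ) k := fun θ => by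
      constructor
      · intro h x hx k k' hk
        have h1 := congrFun (show conjFun K (θ : K → ℂ) x = θ from h hx) k
        exact (congrArg (θ : K → ℂ) (Subtype.ext hk)).trans h1
      · intro h x hx
        exact funext fun k => h x hx k ⟨_, Subgroup.Normal.conj_mem inferInstance _ k.2 x⟩ rfl
    have hC : ∀ ξ : Cfsg.IrrCharacter C, InvC ξ ↔ ∀ x ∈ (P : Subgroup G), ∀ c c' : ↥(K ⊓ N),
        (c' : G) = x * (c : G) * x⁻¹ →
          (((H80.irrEquiv e.symm) ξ : Cfsg.IrrCharacter ↥(K ⊓ N)) : ↥(K ⊓ N) → ℂ) c' =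
            (((H80.irrEquiv e.symm) ξ : Cfsg.IrrCharacter ↥(K ⊓ N)) : ↥(K ⊓ N) → ℂ) c := fun ξ => by
      constructor
      · intro h x hx c c' hc
        have h1 := congrFun (show conjFun C (ξ : C → ℂ) ⟨x, hPN hx⟩ = ξ from h ⟨x, hPN hx⟩ hx)
          (e.symm c)
        exact (congrArg (ξ : C → ℂ) (Subtype.ext (Subtype.ext hc))).trans h1
      · intro h x hx
        exact funext fun c => h x hx (e c) (e ⟨x * c * x⁻¹,
          Subgroup.Normal.conj_mem inferInstance _ c.2 x⟩) rfl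
    let eK := (Equiv.refl (Cfsg.IrrCharacter K)).subtypeEquiv (p := InvK)
      (q := fun θ : Cfsg.IrrCharacter K => ∀ x ∈ (P : Subgroup G), ∀ k k' : K,
        (k' : G) = x * (k : G) * x⁻¹ → (θ : K → ℂ) k' = (θ : K → ℂ) k) (fun θ => hK θ)
    let eC := (H80.irrEquiv e.symm).subtypeEquiv (p := InvC)
      (q := fun ξ : Cfsg.IrrCharacter ↥(K ⊓ N) => ∀ x ∈ (P : Subgroup G), ∀ c c' : ↥(K ⊓ N),
        (c' : G) = x * (c : G) * x⁻¹ → (ξ : ↥(K ⊓ N) → ℂ) c' = (ξ : ↥(K ⊓ N) → ℂ) c)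
      (fun ξ => hC ξ)
    refine ⟨fun θ => eC.symm (f₀ (eK θ)), eC.symm.bijective.comp (hf₀.comp eK.bijective),
      fun θ => ?_, fun θ ξ => ?_⟩
    · have hd := (hspec (eK θ)).2
      have he : Cfsg.charDegree ((eC.symm (f₀ (eK θ))).1 : C → ℂ) =
          Cfsg.charDegree ((f₀ (eK θ)).1 : ↥(K ⊓ N) → ℂ) :=
        congrArg (fun z : ℂ => ⌊z.re⌋₊) (congrArg ((f₀ (eK θ)).1 : ↥(K ⊓ N) → ℂ) (map_one e))
      rw [he]
      exact hd
    · obtain ⟨m, hm, h1, h2⟩ := (hspec (eK θ)).1 (eC ξ)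
      refine ⟨m, ?_, ?_⟩
      · rw [← hm, finsum_eq_sum_of_fintype]
        exact (CharInduce.classInner_comp_mulEquiv e.symm
          (fun c : C => (θ.1 : K → ℂ) ⟨(c : G), c.2⟩) (ξ.1 : C → ℂ)).symm
      · constructor
        · intro h hdvd
          have h0 : (m : ZMod p) = 0 := (ZMod.natCast_eq_zero_iff m p).2 hdvd
          rcases h1 (by rw [h, Equiv.apply_symm_apply]) with h' | h' <;> rw [h'] at h0
          · exact one_ne_zero h0
          · exact neg_ne_zero.2 one_ne_zero h0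
        · intro h
          exact (Equiv.eq_symm_apply eC).2 (not_not.1 fun hne => h (h2 hne))
  -- equivariance
  have hconjK : ∀ (θ : {θ // InvK θ}) (n : N), InvK (conjIrrChar K θ.1 (n : G)) := fun θ n =>
    le_inertia_conj n.2 θ.2
  have hconjC : ∀ (ξ : {ξ // InvC ξ}) (n : N), InvC (conjIrrChar C ξ.1 n) := fun ξ n x hx => by
    show conjFun C (conjFun C (ξ.1 : C → ℂ) n) x = conjFun C (ξ.1 : C → ℂ) n
    rw [conjFun_mul, show n * x = (n * x * n⁻¹) * n by group, ← conjFun_mul,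
      show conjFun C (ξ.1 : C → ℂ) (n * x * n⁻¹) = ξ.1 from
        ξ.2 _ ((Subgroup.mem_normalizer_iff.1 n.2 _).1 hx)]
  have hequiv : ∀ (θ : {θ // InvK θ}) (n : N),
      Φ ⟨_, hconjK θ n⟩ = ⟨_, hconjC (Φ θ) n⟩ := by
    intro θ n
    obtain ⟨m, hm, hiff⟩ := hΦspec ⟨_, hconjK θ n⟩ ⟨_, hconjC (Φ θ) n⟩
    obtain ⟨m', hm', hiff'⟩ := hΦspec θ (Φ θ)
    have : mult (conjFun K (θ.1 : K → ℂ) (n : G)) (conjFun C ((Φ θ).1 : C → ℂ) n) =
        mult (θ.1 : K → ℂ) ((Φ θ).1 : C → ℂ) :=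
      CharInduce.classInner_conjFun_conjFun C (fun c : C => (θ.1 : K → ℂ) ⟨(c : G), c.2⟩) _ n
    have hmm : m = m' := Nat.cast_injective (R := ℂ) (hm.symm.trans (this.trans hm'))
    exact (hiff.2 (hmm ▸ hiff'.1 rfl)).symm
  have hbarK : ∀ θ : {θ // InvK θ}, InvK ⟨_, IsIrr.conj θ.1.2⟩ := fun θ x hx =>
    funext fun k => congrArg conj (congrFun (θ.2 hx) k)
  have hbarC : ∀ ξ : {ξ // InvC ξ}, InvC ⟨_, IsIrr.conj ξ.1.2⟩ := fun ξ x hx =>
    funext fun k => congrArg conj (congrFun (ξ.2 x hx) k)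
  have hbar : ∀ θ, Φ ⟨_, hbarK θ⟩ = ⟨_, hbarC (Φ θ)⟩ := by
    intro θ
    obtain ⟨m, hm, hiff⟩ := hΦspec ⟨_, hbarK θ⟩ ⟨_, hbarC (Φ θ)⟩
    obtain ⟨m', hm', hiff'⟩ := hΦspec θ (Φ θ)
    have : mult (fun k => conj ((θ.1 : K → ℂ) k)) (fun c => conj (((Φ θ).1 : C → ℂ) c)) =
        conj (mult (θ.1 : K → ℂ) ((Φ θ).1 : C → ℂ)) := by
      simp [mult, classInner_def, map_sum]
    rw [hm', Complex.conj_natCast] at this
    have hmm : m = m' := Nat.cast_injective (R := ℂ) (hm.symm.trans this)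
    exact (hiff.2 (hmm ▸ hiff'.1 rfl)).symm
  let RealK : Cfsg.IrrCharacter K → Prop := fun θ => ∀ k : K, ((θ : K → ℂ) k).im = 0
  let RealC : Cfsg.IrrCharacter C → Prop := fun ξ => ∀ c : C, ((ξ : C → ℂ) c).im = 0
  have hrealΦ : ∀ θ, RealC (Φ θ).1 ↔ RealK θ.1 := by
    intro θ
    constructor
    · intro h
      have h1 : Φ ⟨_, hbarK θ⟩ = Φ θ := by
        rw [hbar]
        exact Subtype.ext (Subtype.ext (funext fun c => Complex.conj_eq_iff_im.2 (h c)))
      exact fun k => Complex.conj_eq_iff_im.1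
        (congrFun (congrArg (fun z => ((z : {θ // InvK θ}).1 : K → ℂ)) (hΦbij.1 h1)) k)
    · intro h
      have h0 : (⟨_, hbarK θ⟩ : {θ // InvK θ}) = θ :=
        Subtype.ext (Subtype.ext (funext fun k => Complex.conj_eq_iff_im.2 (h k)))
      have h1 := hbar θ
      rw [h0] at h1
      exact fun c => Complex.conj_eq_iff_im.1
        (congrFun (congrArg (fun z => ((z : {ξ // InvC ξ}).1 : C → ℂ)) h1.symm) c)
  have hinert : ∀ θ : {θ // InvK θ}, CharInduce.inertia C ((Φ θ).1 : C → ℂ) =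
      (CharInduce.inertia K (θ.1 : K → ℂ)).subgroupOf N := by
    intro θ
    ext n
    rw [Subgroup.mem_subgroupOf, CharInduce.mem_inertia, CharInduce.mem_inertia]
    constructor
    · intro h
      have h1 : Φ ⟨_, hconjK θ n⟩ = Φ θ := (hequiv θ n).trans (Subtype.ext (Subtype.ext h))
      exact congrArg (fun z => ((z : {θ // InvK θ}).1 : K → ℂ)) (hΦbij.1 h1)
    · intro h
      have h0 : (⟨_, hconjK θ n⟩ : {θ // InvK θ}) = θ := Subtype.ext (Subtype.ext h)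
      have h1 := hequiv θ n
      rw [h0] at h1
      exact (congrArg (fun z => ((z : {ξ // InvC ξ}).1 : C → ℂ)) h1).symm
  -- an invariant real constituent of a real character
  have hθ : ∀ χ : RealIrrTop G, ∃ θ : {θ // InvK θ}, RealK θ.1 ∧ LiesOver K χ.1 θ.1 := by
    intro χ
    obtain ⟨θ, hθr, hθo⟩ := exists_real_below K hodd χ
    have hdeg := degree_eq K hodd hθr hθo
    have hT : ¬ p ∣ (CharInduce.inertia K (θ : K → ℂ)).index := fun h =>
      hreal χ.1 χ.2 (hdeg ▸ h.mul_right _)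
    obtain ⟨S, hS⟩ := H85.exists_sylow_le hT
    obtain ⟨g, hg⟩ := MulAction.exists_smul_eq G P S
    refine ⟨⟨conjIrrChar K θ g, fun x hx => ?_⟩, conjIrrChar_real K hθr g, liesOver_conj K hθo g⟩
    show conjFun K (conjFun K (θ : K → ℂ) g) x = conjFun K (θ : K → ℂ) g
    have hmem : g * x * g⁻¹ ∈ CharInduce.inertia K (θ : K → ℂ) := hS (by
      rw [← hg, Sylow.coe_subgroup_smul]
      exact ⟨x, hx, rfl⟩)
    rw [conjFun_mul, show g * x = (g * x * g⁻¹) * g by group, ← conjFun_mul,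
      show conjFun K (θ : K → ℂ) (g * x * g⁻¹) = θ from hmem]
  choose θf hθfr hθfo using hθ
  have hη := fun χ : RealIrrTop G =>
    exists_real_over_degree C hoddC (Φ (θf χ)).1 ((hrealΦ _).2 (hθfr χ))
  choose η hηo hηd using hη
  have hdegG : ∀ χ, Cfsg.charDegree (χ.1 : G → ℂ) =
      (CharInduce.inertia K ((θf χ).1 : K → ℂ)).index * Cfsg.charDegree ((θf χ).1 : K → ℂ) :=
    fun χ => degree_eq K hodd (hθfr χ) (hθfo χ)
  have hcong : ∀ χ : RealIrrTop G,
      (Cfsg.charDegree ((η χ).1 : N → ℂ) : ZMod p) = (Cfsg.charDegree (χ.1 : G → ℂ) : ZMod p) ∨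
      (Cfsg.charDegree ((η χ).1 : N → ℂ) : ZMod p) = -(Cfsg.charDegree (χ.1 : G → ℂ) : ZMod p) := by
    intro χ
    rw [hηd, hdegG, Nat.cast_mul, Nat.cast_mul, index_modEq P _ (θf χ).2, hinert]
    rcases hΦdeg (θf χ) with h | h <;> rw [h]
    · exact Or.inl rfl
    · exact Or.inr (mul_neg _ _)
  have hp' : ∀ χ : RealIrrTop G, ¬ p ∣ Cfsg.charDegree ((η χ).1 : N → ℂ) := by
    intro χ hdvd
    refine hreal χ.1 χ.2 ((ZMod.natCast_eq_zero_iff _ p).1 ?_)
    rcases hcong χ with h | h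
    · rw [← h]; exact (ZMod.natCast_eq_zero_iff _ p).2 hdvd
    · rw [← neg_neg (Cfsg.charDegree (χ.1 : G → ℂ) : ZMod p), ← h,
        (ZMod.natCast_eq_zero_iff _ p).2 hdvd, neg_zero]
  refine ⟨fun χ => ⟨(η χ).1, (η χ).2, hp' χ⟩, ⟨fun χ χ' h => ?_, fun ξ' => ?_⟩, hcong⟩
  · have he : (η χ).1 = (η χ').1 := by
      have h1 := congrArg Subtype.val h
      exact h1
    obtain ⟨n, hn⟩ := exists_conj_of_liesOver C (hηo χ) (he ▸ hηo χ' :
      LiesOver C (η χ).1 (Φ (θf χ')).1)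
    have h1 : θf χ' = ⟨_, hconjK (θf χ) n⟩ := hΦbij.1 ((hequiv _ n).trans (Subtype.ext hn.symm)).symm
    have h2 : LiesOver K χ.1 (θf χ').1 := by
      rw [h1]
      exact liesOver_conj K (hθfo χ) _
    exact (existsUnique_real_over K hodd _ (hθfr χ')).unique h2 (hθfo χ')
  · obtain ⟨ξ, hξr, hξo⟩ := exists_real_below C hoddC ⟨ξ'.1, ξ'.2.1⟩
    have hT : ¬ p ∣ (CharInduce.inertia C (ξ : C → ℂ)).index := fun h => ξ'.2.2 (by
      rw [degree_eq C hoddC (χ := ⟨ξ'.1, ξ'.2.1⟩) hξr hξo]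
      exact h.mul_right _)
    obtain ⟨S, hS⟩ := H85.exists_sylow_le hT
    let P' : Sylow p N := P.subtype hPN
    obtain ⟨g, hg⟩ := MulAction.exists_smul_eq N P' S
    have hinv : InvC ξ := fun x hx => hS (by
      rw [← hg, Sylow.coe_subgroup_smul]
      refine ⟨g⁻¹ * x * g, (Subgroup.mem_normalizer_iff''.1 g.2 _).1 hx, ?_⟩
      show g * (g⁻¹ * x * g) * g⁻¹ = x
      group)
    obtain ⟨θ, hθ⟩ := hΦbij.2 ⟨ξ, hinv⟩
    have hθr : RealK θ.1 := (hrealΦ θ).1 (by rw [hθ]; exact hξr)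
    obtain ⟨χ, hχo, -⟩ := exists_real_over_degree K hodd θ.1 hθr
    refine ⟨χ, Subtype.ext ?_⟩
    show (η χ).1 = ξ'.1
    obtain ⟨g₀, hg₀⟩ := exists_conj_of_liesOver K hχo (hθfo χ)
    have hgx : ∀ x ∈ (P : Subgroup G), g₀ * x * g₀⁻¹ ∈ CharInduce.inertia K (θ.1 : K → ℂ) := by
      intro x hx
      have h1 : conjFun K ((θf χ).1 : K → ℂ) x = (θf χ).1 := (θf χ).2 hx
      rw [show ((θf χ).1 : K → ℂ) = conjFun K (θ.1 : K → ℂ) g₀ from congrArg Subtype.val hg₀,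
        conjFun_mul, CharInduce.conjFun_eq_iff] at h1
      exact h1
    obtain ⟨n, hn, hgn⟩ := exists_normalizer_mul P _ θ.2 hgx
    have h1 : θf χ = ⟨_, hconjK θ ⟨n, hn⟩⟩ := Subtype.ext (hg₀.trans (Subtype.ext
      ((CharInduce.conjFun_eq_iff K _ g₀ n).2 hgn)))
    have h2 : LiesOver C ξ'.1 (Φ (θf χ)).1 := by
      rw [h1, hequiv, hθ]
      exact liesOver_conj C hξo _
    exact congrArg Subtype.val
      ((existsUnique_real_over C hoddC _ ((hrealΦ _).2 (hθfr χ))).unique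
        (y₁ := η χ) (y₂ := ⟨ξ'.1, ξ'.2.1⟩) (hηo χ) h2)

end Cfsg.Agent.H75.RealCorr
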