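import Cfsg.Agent.H85.RealUnique
import Cfsg.Agent.H85.CliffordExt
import Cfsg.Agent.H81.FixedOver
import Cfsg.Prelude.Def_Blocks

/-!
# Real characters over a normal subgroup of odd index

The real character over a real character `θ` of a normal subgroup of odd index is induced from a
real extension of `θ` to its inertia group; in particular its degree is `|G : T| θ(1)`.
-/

set_option autoImplicit false
set_option linter.unusedSectionVars false

open scoped ComplexConjugate

namespace Cfsg.Agent.H75.RealOdd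

open Cfsg.Agent.CharBasic Cfsg.Agent.CharInduce Cfsg.Agent.H85

variable {G : Type*} [Group G] [Fintype G] (K : Subgroup G) [K.Normal] [Fintype K]

theorem charDegree_eq {χ : G → ℂ} {d : ℕ} (h : χ 1 = (d : ℂ)) : Cfsg.charDegree χ = d := by
  rw [Cfsg.charDegree, h, Complex.natCast_re, Nat.floor_natCast]

theorem real_indFun (T : Subgroup G) {ψ : T → ℂ} (hψ : ∀ t : T, (ψ t).im = 0) (g : G) :
    (Cfsg.indFun T ψ g).im = 0 := by
  rw [← Complex.conj_eq_iff_im, CharInduce.indFun_apply, map_mul, map_inv₀, Complex.conj_natCast,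
    map_sum]
  congr 1
  refine Finset.sum_congr rfl fun x _ => ?_
  by_cases h : x⁻¹ * g * x ∈ T
  · rw [extendByZero_of_mem _ h]
    exact Complex.conj_eq_iff_im.2 (hψ _)
  · rw [extendByZero_of_not_mem _ h, map_zero]

/-- A real invariant character of a normal subgroup of odd index has a real extension. -/
theorem exists_real_extension {θ : K → ℂ} (hθ : Cfsg.IsIrrCharacter K θ)
    (hreal : ∀ k : K, (θ k).im = 0) (hinv : ∀ x : G, conjFun K θ x = θ) (hodd : Odd K.index) :
    ∃ χ : G → ℂ, Cfsg.IsIrrCharacter G χ ∧ (∀ k : K, χ k = θ k) ∧ ∀ g : G, (χ g).im = 0 := by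
  have hpos : 0 < Nat.card G := Nat.card_pos
  have hk : Nat.Coprime (Nat.card G - 1) (Nat.card G) := by
    have h : Nat.Coprime (Nat.card G - 1) (Nat.card G - 1 + 1) := Nat.coprime_self_add_right.2 (Nat.coprime_one_right _)
    rwa [Nat.sub_add_cancel hpos] at h
  have hpow : ∀ g : G, g ^ (Nat.card G - 1) = g⁻¹ := fun g => eq_inv_of_mul_eq_one_left (by
    rw [← pow_succ, Nat.sub_add_cancel hpos, pow_card_eq_one'])
  obtain ⟨χ, hχ, hres, hfix⟩ := H81.exists_fixed_extension K hθ hinv hodd hk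
    (fun g _ => hpow g) (fun n => by
      rw [show n ^ (Nat.card G - 1) = n⁻¹ from Subtype.ext (by rw [Subgroup.coe_pow, Subgroup.coe_inv, hpow]),
        CharBasic.IsChar.inv_apply (IsIrr.isCharacter hθ)]
      exact Complex.conj_eq_iff_im.2 (hreal n))
  refine ⟨χ, hχ, hres, fun g => Complex.conj_eq_iff_im.1 ?_⟩
  rw [← CharBasic.IsChar.inv_apply (IsIrr.isCharacter hχ), ← hpow g]
  exact hfix g

/-- The real character over a real character has degree `|G : T| θ(1)`. -/
theorem exists_real_over_degree (hodd : Odd K.index) (θ : Cfsg.IrrCharacter K)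
    (hθ : ∀ k : K, ((θ : K → ℂ) k).im = 0) :
    ∃ χ : RealIrrTop G, LiesOver K χ.1 θ ∧
      Cfsg.charDegree (χ.1 : G → ℂ) =
        (CharInduce.inertia K (θ : K → ℂ)).index * Cfsg.charDegree (θ : K → ℂ) := by
  classical
  set T := CharInduce.inertia K (θ : K → ℂ) with hT
  have hKT : K ≤ T := CharInduce.le_inertia K (IsIrr.isClassFunction θ.2)
  haveI := Fintype.ofFinite T
  haveI := Fintype.ofFinite (K.subgroupOf T)
  let e := Subgroup.subgroupOfEquivOfLe hKT
  have h' : Cfsg.IsIrrCharacter (K.subgroupOf T) (fun n => (θ : K → ℂ) (e n)) :=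
    CharInduce.IsIrr.comp θ.2 e.toMonoidHom e.surjective
  have hinv' : ∀ x : T, conjFun (K.subgroupOf T) (fun n => (θ : K → ℂ) (e n)) x =
      fun n => (θ : K → ℂ) (e n) := fun x => funext fun n =>
    congrFun (show conjFun K (θ : K → ℂ) (x : G) = θ from x.2) (e n)
  have hodd' : Odd (K.subgroupOf T).index :=
    hodd.of_dvd_nat (Subgroup.relIndex_dvd_index_of_normal K T)
  obtain ⟨ψ, hψ, hres, hψr⟩ := exists_real_extension (K.subgroupOf T) h' (fun n => hθ (e n))
    hinv' hodd'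
  have hψK : ∀ n : K, ψ (Subgroup.inclusion hKT n) = (θ : K → ℂ) n := fun n =>
    hres ⟨Subgroup.inclusion hKT n, n.2⟩
  obtain ⟨hirr, hone⟩ := isIrr_indFun_ext K θ.2 T hT hKT hψ hψK
  refine ⟨⟨⟨_, hirr⟩, real_indFun T hψr⟩, ?_, ?_⟩
  · show Cfsg.classInner (fun k : K => Cfsg.indFun T ψ k) (θ : K → ℂ) ≠ 0
    rw [hone]
    exact one_ne_zero
  · obtain ⟨d, -, hd⟩ := IsIrr.exists_degree θ.2
    rw [charDegree_eq hd]
    refine charDegree_eq ?_
    show Cfsg.indFun T ψ 1 = _
    rw [CharInduce.indFun_one, Nat.cast_mul, ← hd, ← hψK 1, map_one]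

theorem degree_eq (hodd : Odd K.index) {χ : RealIrrTop G} {θ : Cfsg.IrrCharacter K}
    (hθ : ∀ k : K, ((θ : K → ℂ) k).im = 0) (h : LiesOver K χ.1 θ) :
    Cfsg.charDegree (χ.1 : G → ℂ) =
      (CharInduce.inertia K (θ : K → ℂ)).index * Cfsg.charDegree (θ : K → ℂ) := by
  obtain ⟨χ', hχ', hdeg⟩ := exists_real_over_degree K hodd θ hθ
  rw [(existsUnique_real_over K hodd θ hθ).unique h hχ']
  exact hdeg

/-- A conjugate of a character. -/
def conjIrrChar (θ : Cfsg.IrrCharacter K) (x : G) : Cfsg.IrrCharacter K :=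
  ⟨conjFun K (θ : K → ℂ) x, CharInduce.isIrrCharacter_conjFun K θ.2 x⟩

theorem conjIrrChar_real {θ : Cfsg.IrrCharacter K} (hθ : ∀ k : K, ((θ : K → ℂ) k).im = 0) (x : G)
    (k : K) : ((conjIrrChar K θ x : K → ℂ) k).im = 0 :=
  hθ _

theorem liesOver_conj {χ : Cfsg.IrrCharacter G} {θ : Cfsg.IrrCharacter K} (h : LiesOver K χ θ)
    (x : G) : LiesOver K χ (conjIrrChar K θ x) := by
  show Cfsg.classInner (fun k : K => (χ : G → ℂ) k) (conjFun K (θ : K → ℂ) x) ≠ 0
  rw [CharInduce.classInner_res_conjFun K (IsIrr.isClassFunction χ.2)]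
  exact h

theorem exists_conj_of_liesOver {χ : Cfsg.IrrCharacter G} {a b : Cfsg.IrrCharacter K}
    (ha : LiesOver K χ a) (hb : LiesOver K χ b) : ∃ x : G, b = conjIrrChar K a x := by
  obtain ⟨x, hx⟩ := CharInduce.exists_conjFun_eq_of_constituent K χ.2 a.2 b.2 ha hb
  exact ⟨x, Subtype.ext hx⟩

/-- A real character lies over a real character. -/
theorem exists_real_below (hodd : Odd K.index) (χ : RealIrrTop G) :
    ∃ θ : Cfsg.IrrCharacter K, (∀ k : K, ((θ : K → ℂ) k).im = 0) ∧ LiesOver K χ.1 θ := by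
  classical
  set r := fun θ η : RealIrr K =>
    ∃ g : G, ∀ k k' : K, (k' : G) = g * (k : G) * g⁻¹ → (η.1 : K → ℂ) k' = (θ.1 : K → ℂ) k with hr
  choose h hh using fun q : Quot r => exists_realIrr_over K hodd q.out.1 q.out.2
  have hinj : Function.Injective h := by
    intro a b hab
    rw [← Quot.out_eq a, ← Quot.out_eq b]
    obtain ⟨x, hx⟩ := exists_conj_of_liesOver K (hh a) (hab ▸ hh b : LiesOver K (h a).1 b.out.1)
    refine Quot.sound ⟨x⁻¹, fun k k' hk => ?_⟩
    rw [hx]
    show (a.out.1 : K → ℂ) _ = _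
    exact congrArg _ (Subtype.ext (by simp [hk, mul_assoc]))
  have hsurj : Function.Surjective h := (Nat.bijective_iff_injective_and_card h).2
    ⟨hinj, by rw [card_realIrrTop K hodd]; exact card_real_orbits K hodd⟩ |>.2
  obtain ⟨q, rfl⟩ := hsurj χ
  exact ⟨q.out.1, q.out.2, hh q⟩

end Cfsg.Agent.H75.RealOdd
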