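import Mathlib
import Cfsg.Prelude.Def_Perm
import Cfsg.Agent.H75.PlaneTransitive

/-!
A split extension of an abelian group by a group acting semilinearly embeds in the one-dimensional
semi-affine group.
-/

set_option autoImplicit false

namespace Cfsg.Agent.H75.SemiaffineEmbed

open PlaneTransitive

universe u

variable {F : Type} [Field F] {P : Type u} [CommGroup P] {H : Type u} [Group H]

/-- Transfer of a semilinear structure along an isomorphism of fields. -/
theorem semilin_trans {F' : Type} [Field F'] {act : H →* MulAut P} {e : Additive P ≃+ F} (r : F ≃+* F')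
    (hs : IsSemilin act e) : IsSemilin act (e.trans r.toAddEquiv) := fun h => by
  obtain ⟨a, σ, ha⟩ := hs h
  exact ⟨Units.map (r : F →* F') a, (r.symm.trans σ).trans r, fun x => by simp [ha x]⟩

/-- Transfer of a linear structure along an isomorphism of fields. -/
theorem lin_trans {F' : Type} [Field F'] {act : H →* MulAut P} {e : Additive P ≃+ F} (r : F ≃+* F')
    (hs : ∀ h : H, ∃ a : Fˣ, ∀ x : P, e (Additive.ofMul (act h x)) = a * e (Additive.ofMul x)) :
    ∀ h : H, ∃ a : F'ˣ, ∀ x : P,
      (e.trans r.toAddEquiv) (Additive.ofMul (act h x)) = a * (e.trans r.toAddEquiv) (Additive.ofMul x) :=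
  fun h => by
    obtain ⟨a, ha⟩ := hs h
    exact ⟨Units.map (r : F →* F') a, fun x => by simp [ha x]⟩

theorem card_semiaffine_le [Fintype F] {p n : ℕ} [Fact p.Prime] (hF : Nat.card F = p ^ n) :
    Nat.card (Cfsg.semiaffineGroup F) ≤ (p ^ n - 1) * p ^ n * n := by
  haveI : Finite (F ≃+* F) := Finite.of_injective (fun σ => (σ : F → F)) DFunLike.coe_injective
  rw [← hF, ← Nat.card_units]
  conv_rhs => rw [← card_ringEquiv hF]
  rw [← Nat.card_prod, ← Nat.card_prod]
  refine Nat.card_le_card_of_surjective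
    (fun t : (Fˣ × F) × (F ≃+* F) =>
      (⟨((t.2 : F ≃+* F).toEquiv.trans (Units.mulLeft t.1.1)).trans (Equiv.addRight t.1.2),
        ⟨t.1.1, t.1.2, t.2, fun x => rfl⟩⟩ : Cfsg.semiaffineGroup F)) ?_
  rintro ⟨f, a, b, σ, hf⟩
  exact ⟨((a, b), σ), Subtype.ext (Equiv.ext fun x => (hf x).symm)⟩

theorem card_affine_le [Fintype F] {p n : ℕ} (hF : Nat.card F = p ^ n) :
    Nat.card (Cfsg.affineGroup F) ≤ (p ^ n - 1) * p ^ n := by
  rw [← hF, ← Nat.card_units, ← Nat.card_prod]
  refine Nat.card_le_card_of_surjective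
    (fun t : Fˣ × F =>
      (⟨(Units.mulLeft t.1).trans (Equiv.addRight t.2), ⟨t.1, t.2, fun x => rfl⟩⟩ : Cfsg.affineGroup F)) ?_
  rintro ⟨f, a, b, hf⟩
  exact ⟨(a, b), Subtype.ext (Equiv.ext fun x => (hf x).symm)⟩

/-- A split extension as a permutation group of the field. -/
theorem exists_perm {Q : Type u} [Group Q] (ι : P →* Q) (K : Subgroup Q) (act : K →* MulAut P)
    (hι : Function.Injective ι) (hc : Subgroup.IsComplement' ι.range K) [ι.range.Normal]
    (hinj : Function.Injective act) (hact : ∀ (k : K) (x : P), (k : Q) * ι x * (k : Q)⁻¹ = ι (act k x))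
    (e : Additive P ≃+ F) :
    ∃ f : Q →* Equiv.Perm F, Function.Injective f ∧
      ∀ q : Q, ∃ (x : P) (k : K), ∀ v : P,
        f q (e (Additive.ofMul v)) = e (Additive.ofMul (act k v)) + e (Additive.ofMul x) := by
  let u : P ≃ F := Additive.ofMul.trans e.toEquiv
  let fP : P →* Equiv.Perm F :=
    { toFun := fun x => Equiv.addRight (u x)
      map_one' := Equiv.ext fun y => by simp [u]
      map_mul' := fun x y => Equiv.ext fun z => by simp [u]; abel }
  let fK : K →* Equiv.Perm F :=
    { toFun := fun k => u.permCongr (act k).toEquiv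
      map_one' := Equiv.ext fun y => by simp [Equiv.permCongr_apply]
      map_mul' := fun k k' => Equiv.ext fun y => by simp [Equiv.permCongr_apply] }
  have hcompat : ∀ k : K, fP.comp (act k).toMonoidHom = (MulAut.conj (fK k)).toMonoidHom.comp fP := fun k => by
    refine MonoidHom.ext fun x => ?_
    show fP (act k x) = fK k * fP x * (fK k)⁻¹
    rw [eq_mul_inv_iff_mul_eq]
    refine Equiv.ext fun y => ?_
    obtain ⟨v, rfl⟩ := u.surjective y
    show u (act k (u.symm (u v))) + u (act k x) = u (act k (u.symm (u v + u x)))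
    have h1 : u v + u x = u (v * x) := (map_add e _ _).symm
    rw [h1, u.symm_apply_apply, u.symm_apply_apply, map_mul]
    exact (map_add e _ _).symm
  let f0 : P ⋊[act] K →* Equiv.Perm F := SemidirectProduct.lift fP fK hcompat
  have hf0 : ∀ (s : P ⋊[act] K) (v : P), f0 s (u v) = u (act s.right v) + u s.left := fun s v => by
    show (fP s.left * fK s.right) (u v) = _
    show u (act s.right (u.symm (u v))) + u s.left = _
    rw [u.symm_apply_apply]
  have hinj0 : Function.Injective f0 := by
    refine (injective_iff_map_eq_one f0).mpr fun s hs => ?_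
    have h0 : u s.left = 0 := by
      have h := hf0 s 1
      rw [hs, map_one (act s.right), Equiv.Perm.one_apply] at h
      exact left_eq_add.mp h
    have hl : s.left = 1 := u.injective (h0.trans (map_zero e).symm)
    have hr : s.right = 1 := hinj (MulEquiv.ext fun v => u.injective (by
      have h := hf0 s v
      rw [hs, h0, add_zero, Equiv.Perm.one_apply] at h
      rw [map_one, MulAut.one_apply]
      exact h.symm))
    exact SemidirectProduct.ext hl hr
  let g : P ⋊[act] K →* Q := SemidirectProduct.lift ι K.subtype fun k => MonoidHom.ext fun x =>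
    (hact k x).symm
  have hg : Function.Bijective g := by
    constructor
    · intro s t hst
      have h := hc.1 (a₁ := (⟨ι s.left, ⟨_, rfl⟩⟩, s.right)) (a₂ := (⟨ι t.left, ⟨_, rfl⟩⟩, t.right)) hst
      exact SemidirectProduct.ext (hι (congrArg (fun z => (z.1 : Q)) h)) (congrArg Prod.snd h)
    · intro q
      obtain ⟨⟨⟨_, x, rfl⟩, k⟩, hq⟩ := hc.2 q
      exact ⟨⟨x, k⟩, hq⟩
  let j := MulEquiv.ofBijective g hg
  refine ⟨f0.comp j.symm.toMonoidHom, hinj0.comp j.symm.injective, fun q => ?_⟩
  exact ⟨(j.symm q).left, (j.symm q).right, fun v => hf0 (j.symm q) v⟩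

/-- The embedding into the semi-affine group. -/
theorem exists_semiaffine {Q : Type u} [Group Q] (ι : P →* Q) (K : Subgroup Q) (act : K →* MulAut P)
    (hι : Function.Injective ι) (hc : Subgroup.IsComplement' ι.range K) [ι.range.Normal]
    (hinj : Function.Injective act) (hact : ∀ (k : K) (x : P), (k : Q) * ι x * (k : Q)⁻¹ = ι (act k x))
    (e : Additive P ≃+ F) (hs : IsSemilin act e) :
    ∃ f : Q →* Cfsg.semiaffineGroup F, Function.Injective f := by
  obtain ⟨f, hf, hq⟩ := exists_perm ι K act hι hc hinj hact e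
  refine ⟨f.codRestrict (Cfsg.semiaffineGroup F) fun q => ?_, (MonoidHom.injective_codRestrict f _ _).mpr hf⟩
  obtain ⟨x, k, hk⟩ := hq q
  obtain ⟨a, σ, ha⟩ := hs k
  refine ⟨a, e (Additive.ofMul x), σ, fun y => ?_⟩
  obtain ⟨v, rfl⟩ := e.surjective y
  exact (hk (Additive.toMul v)).trans (congrArg (· + _) (ha _))

/-- The embedding into the affine group. -/
theorem exists_affine {Q : Type u} [Group Q] (ι : P →* Q) (K : Subgroup Q) (act : K →* MulAut P)
    (hι : Function.Injective ι) (hc : Subgroup.IsComplement' ι.range K) [ι.range.Normal]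
    (hinj : Function.Injective act) (hact : ∀ (k : K) (x : P), (k : Q) * ι x * (k : Q)⁻¹ = ι (act k x))
    (e : Additive P ≃+ F)
    (hs : ∀ k : K, ∃ a : Fˣ, ∀ x : P, e (Additive.ofMul (act k x)) = a * e (Additive.ofMul x)) :
    ∃ f : Q →* Cfsg.affineGroup F, Function.Injective f := by
  obtain ⟨f, hf, hq⟩ := exists_perm ι K act hι hc hinj hact e
  refine ⟨f.codRestrict (Cfsg.affineGroup F) fun q => ?_, (MonoidHom.injective_codRestrict f _ _).mpr hf⟩
  obtain ⟨x, k, hk⟩ := hq q
  obtain ⟨a, ha⟩ := hs k
  refine ⟨a, e (Additive.ofMul x), fun y => ?_⟩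
  obtain ⟨v, rfl⟩ := e.surjective y
  exact (hk (Additive.toMul v)).trans (congrArg (· + _) (ha _))

end Cfsg.Agent.H75.SemiaffineEmbed
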