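import Cfsg.Prelude.Def_Solvable
import Cfsg.Agent.Frobenius.Basic
import Cfsg.Agent.Coprime.Action

/-!
A solvable subgroup central in every solvable overgroup is central, relative to the
existence of Frobenius kernels.  In a minimal counterexample `C_G(A)/Z(G)` is a Frobenius
complement in `G/Z(G)`.
-/

set_option autoImplicit false

namespace Cfsg.Agent.H75

open Subgroup
open scoped Pointwise

universe u

/-- The statement of Frobenius' kernel theorem, as a hypothesis. -/
def KernelExists : Prop :=
  ∀ {G : Type u} [Group G] [Finite G] (H : Subgroup G), Cfsg.IsFrobeniusComplement H →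
    ∃ N : Subgroup G, N.Normal ∧ IsComplement' N H

theorem solvableCentral_aux (hker : KernelExists.{u}) (n : ℕ) :
    ∀ {G : Type u} [Group G] [Finite G], Nat.card G = n → ∀ A : Subgroup G, Group.IsSolvable A →
      (∀ S : Subgroup G, A ≤ S → Group.IsSolvable S → ∀ a ∈ A, ∀ s ∈ S, a * s = s * a) →
      A ≤ center G := by
  induction n using Nat.strong_induction_on with
  | _ n ih =>
  intro G _ _ hn A hA hc
  by_contra hcent
  set M := centralizer (A : Set G) with hMdef
  -- proper subgroups over A centralise A
  have hmax : ∀ H : Subgroup G, A ≤ H → H ≠ ⊤ → H ≤ M := by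
    intro H hAH hH
    have hlt : Nat.card H < n := by
      rw [← hn]
      exact lt_of_le_of_ne (Subgroup.card_le_card_group H) fun e => hH (eq_top_of_card_eq H e)
    have hsolA : Group.IsSolvable (A.subgroupOf H) :=
      Group.isSolvable_of_isSolvable_injective (f := (subgroupOfEquivOfLe hAH).toMonoidHom)
        (subgroupOfEquivOfLe hAH).injective
    have := ih _ hlt rfl (A.subgroupOf H) hsolA fun S hAS hS a ha s hs => by
      have h1 : A ≤ S.map H.subtype := fun x hx =>
        ⟨⟨x, hAH hx⟩, hAS hx, rfl⟩
      haveI := hS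
      have h2 : Group.IsSolvable (S.map H.subtype) :=
        Group.isSolvable_of_surjective (f := H.subtype.subgroupMap S)
          (H.subtype.subgroupMap_surjective S)
      exact Subtype.ext (hc _ h1 h2 (a : G) ha (s : G) ⟨s, hs, rfl⟩)
    intro y hy
    rw [hMdef, mem_centralizer_iff]
    intro a ha
    have ha' := this (show (⟨a, hAH ha⟩ : H) ∈ A.subgroupOf H from ha)
    exact (congrArg Subtype.val (mem_center_iff.1 ha' ⟨y, hy⟩)).symm
  have hAA : A ≤ M := by
    intro a ha
    rw [hMdef, mem_centralizer_iff]
    exact fun b hb => hc A le_rfl hA b hb a ha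
  have hMne : M ≠ ⊤ := by
    intro h
    refine hcent fun a ha => mem_center_iff.2 fun g => ?_
    exact ((mem_centralizer_iff.1 (by rw [← hMdef, h]; exact mem_top g : g ∈ centralizer (A : Set G))) a ha).symm
  have hMnn : ¬ M.Normal := by
    intro hMn
    haveI := hMn
    set Z := (center M).map M.subtype with hZdef
    haveI : Z.Normal := ConjAct.normal_of_characteristic_of_normal
    have hAZ : A ≤ Z := by
      intro a ha
      refine ⟨⟨a, hAA ha⟩, mem_center_iff.2 fun m => Subtype.ext ?_, rfl⟩
      exact ((mem_centralizer_iff.1 m.2) a ha).symm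
    refine hcent fun a ha => mem_center_iff.2 fun g => ?_
    set S := Z ⊔ zpowers g with hSdef
    have hSsol : Group.IsSolvable S := by
      haveI : Group.IsSolvable (center M) :=
        Group.isSolvable_of_comm fun a b => Subtype.ext (mem_center_iff.1 b.2 a)
      haveI : Group.IsSolvable (zpowers g) :=
        Group.isSolvable_of_comm fun a b => by
          obtain ⟨_, i, rfl⟩ := a; obtain ⟨_, j, rfl⟩ := b
          exact Subtype.ext (Commute.zpow_zpow_self g i j).eq
      have hZab : Group.IsSolvable Z := by
        refine Group.isSolvable_of_surjective (f := M.subtype.subgroupMap (center M))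
          (M.subtype.subgroupMap_surjective _)
      have hq : Group.IsSolvable (S ⧸ Z.subgroupOf S) := by
        refine Group.isSolvable_of_surjective
          (f := (QuotientGroup.mk' (Z.subgroupOf S)).comp
            (inclusion (le_sup_right : zpowers g ≤ S))) ?_
        intro q
        induction q using QuotientGroup.induction_on with
        | H s =>
        obtain ⟨z, hz, t, ht, hzt⟩ : ∃ z ∈ Z, ∃ t ∈ zpowers g, z * t = (s : G) := by
          have hs : (s : G) ∈ ((Z ⊔ zpowers g : Subgroup G) : Set G) := s.2
          rw [normal_mul] at hs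
          exact hs
        refine ⟨⟨t, ht⟩, ?_⟩
        apply QuotientGroup.eq.2
        rw [mem_subgroupOf]
        have : t⁻¹ * (s : G) = t⁻¹ * z * t := by rw [← hzt]; group
        show t⁻¹ * (s : G) ∈ Z
        rw [this]
        exact Subgroup.Normal.conj_mem' inferInstance z hz t
      haveI : Group.IsSolvable (Z.subgroupOf S) :=
        Group.isSolvable_of_isSolvable_injective
          (f := (subgroupOfEquivOfLe (le_sup_left : Z ≤ S)).toMonoidHom)
          (subgroupOfEquivOfLe (le_sup_left : Z ≤ S)).injective
      exact Group.isSolvable_of_ker_le_range (Z.subgroupOf S).subtype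
        (QuotientGroup.mk' (Z.subgroupOf S)) (by rw [QuotientGroup.ker_mk', range_subtype])
    exact (hc S (hAZ.trans le_sup_left) hSsol a ha g
      (mem_sup_right (mem_zpowers g))).symm
  have hNM : normalizer (M : Set G) = M := by
    refine le_antisymm (hmax _ (hAA.trans le_normalizer) fun h => hMnn ?_) le_normalizer
    exact normalizer_eq_top_iff.1 h
  -- conjugates of A outside M generate with A everything
  have hgen : ∀ g : G, g ∉ M → A ⊔ A.map (MulAut.conj g).toMonoidHom = ⊤ := by
    intro g hg
    by_contra hne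
    have h1 : A.map (MulAut.conj g).toMonoidHom ≤ M := le_sup_right.trans (hmax _ le_sup_left hne)
    have h2 : A ≤ M.map (MulAut.conj g).toMonoidHom := by
      intro a ha
      refine ⟨g⁻¹ * a * g, ?_, by simp [mul_assoc]⟩
      show g⁻¹ * a * g ∈ M
      rw [hMdef, mem_centralizer_iff]
      intro b hb
      have := (mem_centralizer_iff.1 (h1 ⟨b, hb, rfl⟩)) a ha
      simp only [MulEquiv.coe_toMonoidHom, MulAut.conj_apply] at this
      calc b * (g⁻¹ * a * g) = g⁻¹ * ((g * b * g⁻¹) * a) * g := by group
        _ = g⁻¹ * (a * (g * b * g⁻¹)) * g := by rw [this]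
        _ = g⁻¹ * a * g * b := by group
    have h3 : M.map (MulAut.conj g).toMonoidHom ≠ ⊤ := by
      intro h
      apply hMne
      refine eq_top_of_card_eq _ ?_
      rw [← card_map_of_injective (f := (MulAut.conj g).toMonoidHom) (MulAut.conj g).injective, h,
        Subgroup.card_top]
    have h4 : M.map (MulAut.conj g).toMonoidHom = M :=
      eq_of_le_of_card_ge (hmax _ h2 h3)
        (card_map_of_injective (f := (MulAut.conj g).toMonoidHom) (MulAut.conj g).injective).ge
    exact hg (hNM ▸ Coprime.mem_normalizer_of_map_conj h4)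
  set Z := center G with hZdef
  have hZM : Z ≤ M := center_le_centralizer _
  set f := QuotientGroup.mk' Z with hfdef
  have hfker : f.ker = Z := QuotientGroup.ker_mk' _
  set Mb := M.map f with hMbdef
  have hcomap : Mb.comap f = M := by
    rw [hMbdef, comap_map_eq, hfker, sup_eq_left.2 hZM]
  have hFC : Cfsg.IsFrobeniusComplement Mb := by
    refine Frobenius.isFrobeniusComplement_of ?_ ?_ ?_
    · intro h
      rw [hMbdef, Subgroup.map_eq_bot_iff, hfker] at h
      exact hcent (hAA.trans h)
    · intro h
      exact hMne (by rw [← hcomap, h, comap_top])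
    · intro gb xb hx hx1 hgx
      obtain ⟨g, rfl⟩ := QuotientGroup.mk'_surjective Z gb
      obtain ⟨x, hx', rfl⟩ := hx
      by_contra hg
      have hgM : g ∉ M := fun h => hg (mem_map_of_mem f h)
      apply hx1
      rw [← MonoidHom.mem_ker, hfker, hZdef, mem_center_iff]
      have hconj : g⁻¹ * x * g ∈ M := by
        rw [← hcomap, mem_comap, map_mul, map_mul, map_inv]
        exact hgx
      -- x centralises A and its conjugate
      have hle : A ⊔ A.map (MulAut.conj g).toMonoidHom ≤ centralizer ({x} : Set G) := by
        refine sup_le (fun a ha => ?_) ?_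
        · rw [mem_centralizer_singleton_iff]
          exact (mem_centralizer_iff.1 hx') a ha
        · rintro _ ⟨a, ha, rfl⟩
          rw [mem_centralizer_singleton_iff]
          have := (mem_centralizer_iff.1 hconj) a ha
          simp only [MulEquiv.coe_toMonoidHom, MulAut.conj_apply]
          calc g * a * g⁻¹ * x = g * (a * (g⁻¹ * x * g)) * g⁻¹ := by group
            _ = g * (g⁻¹ * x * g * a) * g⁻¹ := by rw [this]
            _ = x * (g * a * g⁻¹) := by group
      rw [hgen g hgM] at hle
      intro y
      exact mem_centralizer_singleton_iff.1 (hle (mem_top y))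
  obtain ⟨K, hKn, hK⟩ := hker Mb hFC
  haveI := hKn
  set Ab := A.map f with hAbdef
  have hAM : Ab ≤ Mb := map_mono hAA
  have hKM : Disjoint K Mb := hK.disjoint
  -- K and Ab generate
  have hKA : K ⊔ Ab = ⊤ := by
    by_contra hne
    have h1 : (K ⊔ Ab).comap f ≤ M := by
      refine hmax _ (fun a ha => mem_sup_right (mem_map_of_mem f ha)) fun h => hne ?_
      have := congrArg (Subgroup.map f) h
      rwa [map_comap_eq_self_of_surjective (QuotientGroup.mk'_surjective Z),
        map_top_of_surjective _ (QuotientGroup.mk'_surjective Z)] at this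
    have h2 : K ≤ Mb := by
      intro k hk
      obtain ⟨g, rfl⟩ := QuotientGroup.mk'_surjective Z k
      exact mem_map_of_mem f (h1 (mem_sup_left (show f g ∈ K from hk)))
    have hKbot : K = ⊥ := le_bot_iff.1 (hKM le_rfl h2)
    have := hK.sup_eq_top
    rw [hKbot, bot_sup_eq] at this
    exact hFC.2.1 this
  have hMA : Mb = Ab := by
    refine le_antisymm ?_ hAM
    intro m hm
    have : m ∈ ((K ⊔ Ab : Subgroup (G ⧸ Z)) : Set (G ⧸ Z)) := by rw [hKA]; exact mem_top m
    rw [normal_mul] at this
    obtain ⟨k, hk, a, ha, rfl⟩ := this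
    beta_reduce at hm ⊢
    have hk1 : k ∈ Mb := by
      have := Mb.mul_mem hm (Mb.inv_mem (hAM ha))
      rwa [mul_inv_cancel_right] at this
    have : k = 1 := mem_bot.1 (disjoint_iff_inf_le.1 hKM ⟨hk, hk1⟩)
    rwa [this, one_mul]
  have hcop : (Nat.card Ab).Coprime (Nat.card K) := by
    have := Frobenius.coprime_card_index hFC
    rwa [hK.index_eq_card, hMA] at this
  have hAbsol : Group.IsSolvable Ab := Coprime.isSolvable_map f hA
  -- choose a prime dividing |K|
  have hK1 : Nat.card K ≠ 1 := by
    intro h
    rw [Subgroup.card_eq_one] at h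
    rw [h, bot_sup_eq] at hKA
    exact hFC.2.1 (hMA.trans hKA)
  obtain ⟨q, hq, hqd⟩ := Nat.exists_prime_and_dvd hK1
  haveI : Fact q.Prime := ⟨hq⟩
  have hAK : Ab ≤ normalizer (K : Set (G ⧸ Z)) := by rw [normalizer_eq_top_iff.2 hKn]; exact le_top
  obtain ⟨P, hP⟩ := Coprime.exists_invariant_sylow hAK hcop (Or.inl hAbsol) q
  set S := (P : Subgroup K).map K.subtype with hSdef
  have hSne : S ≠ ⊥ := by
    rw [hSdef, Ne, map_eq_bot_iff_of_injective _ K.subtype_injective]
    exact P.ne_bot_of_dvd_card hqd
  -- S ⊔ Ab is solvable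
  set T := S ⊔ Ab with hTdef
  have hTsol : Group.IsSolvable T := by
    haveI hn' : (S.subgroupOf T).Normal :=
      normal_subgroupOf_of_le_normalizer (sup_le le_normalizer hP)
    haveI : Group.IsNilpotent (P : Subgroup K) := P.isPGroup'.isNilpotent
    have hSsol : Group.IsSolvable S :=
      Group.isSolvable_of_surjective (f := K.subtype.subgroupMap (P : Subgroup K))
        (K.subtype.subgroupMap_surjective _)
    haveI : Group.IsSolvable (S.subgroupOf T) :=
      Group.isSolvable_of_isSolvable_injective
        (f := (subgroupOfEquivOfLe (le_sup_left : S ≤ T)).toMonoidHom)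
        (subgroupOfEquivOfLe (le_sup_left : S ≤ T)).injective
    have hq : Group.IsSolvable (T ⧸ S.subgroupOf T) := by
      refine Group.isSolvable_of_surjective
        (f := (QuotientGroup.mk' (S.subgroupOf T)).comp
          (inclusion (le_sup_right : Ab ≤ T))) ?_
      intro x
      induction x using QuotientGroup.induction_on with
      | H t =>
      obtain ⟨s, hs, a, ha, hsa⟩ : ∃ s ∈ S, ∃ a ∈ Ab, s * a = (t : G ⧸ Z) := by
        have ht : (t : G ⧸ Z) ∈ ((S ⊔ Ab : Subgroup (G ⧸ Z)) : Set (G ⧸ Z)) := t.2
        rw [sup_comm, coe_mul_of_left_le_normalizer_right _ _ hP] at ht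
        obtain ⟨a, ha, s, hs, h⟩ := ht
        refine ⟨a * s * a⁻¹, Coprime.conj_mem (hP ha) hs, a, ha, ?_⟩
        rw [inv_mul_cancel_right]
        exact h
      refine ⟨⟨a, ha⟩, ?_⟩
      apply QuotientGroup.eq.2
      rw [mem_subgroupOf]
      show a⁻¹ * (t : G ⧸ Z) ∈ S
      have : a⁻¹ * (t : G ⧸ Z) = a⁻¹ * s * a := by rw [← hsa]; group
      rw [this]
      exact Coprime.conj_mem' (hP ha) hs
    exact Group.isSolvable_of_ker_le_range (S.subgroupOf T).subtype
      (QuotientGroup.mk' (S.subgroupOf T)) (by rw [QuotientGroup.ker_mk', range_subtype])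
  set T' := T.comap f with hT'def
  have hT'sol : Group.IsSolvable T' := by
    haveI := hTsol
    haveI : Group.IsSolvable Z :=
      Group.isSolvable_of_comm fun a b => Subtype.ext (mem_center_iff.1 b.2 a)
    refine Group.isSolvable_of_ker_le_range
      (inclusion (show Z ≤ T' from fun z hz => by
        rw [hT'def, mem_comap, show f z = 1 from (QuotientGroup.eq_one_iff z).2 hz]
        exact T.one_mem))
      (f.subgroupComap T) ?_
    intro x hx
    have hxZ : (x : G) ∈ Z := by
      rw [← hfker, MonoidHom.mem_ker]
      exact congrArg Subtype.val (MonoidHom.mem_ker.1 hx)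
    exact ⟨⟨x, hxZ⟩, Subtype.ext rfl⟩
  have hT'M : T' ≤ M := by
    intro t ht
    rw [hMdef, mem_centralizer_iff]
    exact fun a ha => hc T' (fun a ha => mem_sup_right (mem_map_of_mem f ha)) hT'sol a ha t ht
  apply hSne
  rw [← le_bot_iff]
  refine (le_inf (map_subtype_le _) ?_).trans (disjoint_iff_inf_le.1 hKM)
  intro s hs
  obtain ⟨g, rfl⟩ := QuotientGroup.mk'_surjective Z s
  exact mem_map_of_mem f (hT'M (mem_sup_left hs))

theorem le_center_of_solvableCentral (hker : KernelExists.{u}) {G : Type u} [Group G] [Finite G]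
    (A : Subgroup G) (hA : Group.IsSolvable A)
    (hc : ∀ S : Subgroup G, A ≤ S → Group.IsSolvable S → ∀ a ∈ A, ∀ s ∈ S, a * s = s * a) :
    A ≤ center G :=
  solvableCentral_aux hker _ rfl A hA hc

end Cfsg.Agent.H75
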