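import Mathlib
import Cfsg.Agent.Cores.PCore
import Cfsg.Agent.H77.Subnormal
import Cfsg.Agent.PGroups.Basic

/-!
`H` is subnormal in `⟨H, g⟩` iff `g` normalises a `p`-subgroup containing the `p`-subgroup `H`.
-/

set_option autoImplicit false

namespace Cfsg.Agent.H75

open Subgroup
open scoped Pointwise

variable {G : Type*} [Group G] [Finite G] {p : ℕ}

/-- Conjugation-invariant characterisation of subnormalisers of p-subgroups. -/
theorem subnormalizer_iff [Fact p.Prime] {H : Subgroup G} (hH : IsPGroup p H) (g : G) :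
    (H.subgroupOf (H ⊔ zpowers g)).IsSubnormal ↔
      ∃ R : Subgroup G, H ≤ R ∧ IsPGroup p R ∧ g ∈ normalizer (R : Set G) := by
  set X := H ⊔ zpowers g with hX
  have hHX : H ≤ X := le_sup_left
  constructor
  · intro hsn
    have hp : IsPGroup p (H.subgroupOf X) := hH.of_equiv (subgroupOfEquivOfLe hHX).symm
    have hle := Cores.le_pCore_of_isSubnormal hsn hp
    refine ⟨(Cfsg.pCore p X).map X.subtype, ?_, Cores.pCore_isPGroup.map _, ?_⟩
    · intro x hx
      exact ⟨⟨x, hHX hx⟩, hle hx, rfl⟩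
    · exact le_normalizer_map X.subtype ⟨⟨g, mem_sup_right (mem_zpowers g)⟩,
        (normalizer_eq_top_iff.2 (inferInstance : (Cfsg.pCore p X).Normal)).symm ▸ mem_top _, rfl⟩
  · rintro ⟨R, hHR, hRp, hgR⟩
    have hXN : X ≤ normalizer (R : Set G) :=
      sup_le (hHR.trans le_normalizer) (zpowers_le.2 hgR)
    have hn : ((R ⊓ X).subgroupOf X).Normal := by
      rw [inf_subgroupOf_right]
      exact normal_subgroupOf_of_le_normalizer hXN
    have hle : H.subgroupOf X ≤ (R ⊓ X).subgroupOf X := fun x hx => ⟨hHR hx, x.2⟩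
    refine IsSubnormal.trans hle ?_ hn.isSubnormal
    have hp : IsPGroup p ((R ⊓ X).subgroupOf X) :=
      (hRp.to_le inf_le_left).of_equiv (subgroupOfEquivOfLe inf_le_right).symm
    exact H77.isSubnormal_of_isNilpotent hp.isNilpotent _

/-- Any p-subgroup normalised by `g` lies in one which is `O_p` of its normaliser. -/
theorem exists_radical [Fact p.Prime] {R : Subgroup G} (hRp : IsPGroup p R) {g : G}
    (hg : g ∈ normalizer (R : Set G)) :
    ∃ S : Subgroup G, R ≤ S ∧ g ∈ normalizer (S : Set G) ∧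
      (Cfsg.pCore p (normalizer (S : Set G))).map (normalizer (S : Set G)).subtype = S := by
  haveI : Finite (Subgroup G) := Finite.of_injective _ SetLike.coe_injective
  obtain ⟨S, ⟨hRS, hSp, hgS⟩, hmax⟩ :=
    (Set.toFinite {S : Subgroup G | R ≤ S ∧ IsPGroup p S ∧ g ∈ normalizer (S : Set G)}).exists_maximal
      ⟨R, le_rfl, hRp, hg⟩
  refine ⟨S, hRS, hgS, ?_⟩
  set N := normalizer (S : Set G)
  set O := (Cfsg.pCore p N).map N.subtype with hO
  have hSO : S ≤ O := by
    intro x hx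
    refine ⟨⟨x, le_normalizer hx⟩, ?_, rfl⟩
    haveI : (S.subgroupOf N).Normal := normal_subgroupOf_of_le_normalizer le_rfl
    exact Cores.le_pCore (hSp.of_equiv (subgroupOfEquivOfLe le_normalizer).symm) hx
  have hgO : g ∈ normalizer (O : Set G) :=
    le_normalizer_map N.subtype ⟨⟨g, hgS⟩,
      (normalizer_eq_top_iff.2 (inferInstance : (Cfsg.pCore p N).Normal)).symm ▸ mem_top _, rfl⟩
  exact le_antisymm (hmax ⟨hRS.trans hSO, Cores.pCore_isPGroup.map _, hgO⟩ hSO) hSO

/-- A subgroup which is `O_p` of its normaliser is the intersection of the Sylow subgroups over it. -/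
theorem sInf_sylow_le_of_radical [Fact p.Prime] {R : Subgroup G} (hRp : IsPGroup p R)
    (hR : (Cfsg.pCore p (normalizer (R : Set G))).map (normalizer (R : Set G)).subtype = R)
    {H : Subgroup G} (hHR : H ≤ R) :
    sInf {K : Subgroup G | ∃ Q : Sylow p G, H ≤ (Q : Subgroup G) ∧ K = (Q : Subgroup G)} ≤ R := by
  set D := sInf {K : Subgroup G | ∃ Q : Sylow p G, R ≤ (Q : Subgroup G) ∧ K = (Q : Subgroup G)}
    with hD
  have hDD : sInf {K : Subgroup G | ∃ Q : Sylow p G, H ≤ (Q : Subgroup G) ∧ K = (Q : Subgroup G)} ≤ D :=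
    sInf_le_sInf fun K ⟨Q, hQ, hK⟩ => ⟨Q, hHR.trans hQ, hK⟩
  refine hDD.trans ?_
  set N := normalizer (R : Set G)
  have hRD : R ≤ D := le_sInf fun K ⟨Q, hQ, hK⟩ => hK ▸ hQ
  obtain ⟨Q0, hQ0⟩ := hRp.exists_le_sylow
  have hDp : IsPGroup p D := Q0.isPGroup'.to_le (sInf_le ⟨Q0, hQ0, rfl⟩)
  -- D is normalised by N
  have hconj : ∀ n ∈ N, ∀ x ∈ D, n * x * n⁻¹ ∈ D := by
    intro n hn x hx
    rw [hD, mem_sInf] at hx ⊢
    rintro K ⟨Q, hQ, rfl⟩
    have hQ' : R ≤ ((MulAut.conj n⁻¹ • Q : Sylow p G) : Subgroup G) := by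
      intro r hr
      rw [Sylow.pointwise_smul_def, mem_pointwise_smul_iff_inv_smul_mem]
      have := hQ ((Subgroup.mem_normalizer_iff.1 hn r).1 hr)
      simpa [MulAut.conj_apply] using this
    have := hx _ ⟨_, hQ', rfl⟩
    rw [Sylow.pointwise_smul_def, mem_pointwise_smul_iff_inv_smul_mem] at this
    simpa [MulAut.conj_apply] using this
  have hND : N ≤ normalizer (D : Set G) := by
    intro n hn
    rw [Subgroup.mem_normalizer_iff]
    exact fun x => ⟨hconj n hn x, fun hx => by simpa [mul_assoc] using hconj n⁻¹ (inv_mem hn) _ hx⟩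
  have hDN : D ⊓ N ≤ R := by
    intro x hx
    rw [← hR]
    refine ⟨⟨x, hx.2⟩, ?_, rfl⟩
    haveI : ((D ⊓ N).subgroupOf N).Normal := by
      rw [inf_subgroupOf_right]
      exact normal_subgroupOf_of_le_normalizer hND
    exact Cores.le_pCore ((hDp.to_le inf_le_left).of_equiv (subgroupOfEquivOfLe inf_le_right).symm)
      (show (⟨x, hx.2⟩ : N) ∈ (D ⊓ N).subgroupOf N from hx)
  by_contra hne
  have hlt : R.subgroupOf D ≠ ⊤ := fun h => hne (subgroupOf_eq_top.1 h)
  obtain ⟨x, hxN, hxR⟩ := SetLike.exists_of_lt (PGroups.lt_normalizer hDp hlt)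
  apply hxR
  refine hDN ⟨x.2, ?_⟩
  show (x : G) ∈ normalizer (R : Set G)
  rw [Subgroup.mem_normalizer_iff]
  intro y
  rw [Subgroup.mem_normalizer_iff] at hxN
  constructor
  · intro hy
    exact (hxN ⟨y, hRD hy⟩).1 hy
  · intro hy
    have hyD : y ∈ D := by
      have := D.mul_mem (D.mul_mem (D.inv_mem x.2) (hRD hy)) x.2
      simpa [mul_assoc] using this
    exact (hxN ⟨y, hyD⟩).2 hy

end Cfsg.Agent.H75
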