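import Mathlib
import Cfsg.Agent.H75.Subnormalizer

/-!
Casolo's count of a subnormaliser: the number of elements normalising some `p`-subgroup over `H` is the number
of Sylow subgroups over `H` times the order of a Sylow normaliser.

For an element `g`, `w g` is the weight on `g`-invariant `p`-subgroups `L` of `X` whose sum over every upper
interval is one.  Summing `w g L` over `g` gives `0` unless `L` is a maximal `p`-subgroup.
-/

set_option autoImplicit false

namespace Cfsg.Agent.H75

open Subgroup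

variable {G : Type*} [Group G] [Finite G]

/-- The finite set of `g`-invariant `p`-subgroups of `X` containing `L`. -/
noncomputable def above (p : ℕ) (X : Subgroup G) (g : G) (L : Subgroup G) : Finset (Subgroup G) :=
  (Set.toFinite {M : Subgroup G | L ≤ M ∧ M ≤ X ∧ IsPGroup p M ∧ g ∈ normalizer (M : Set G)}).toFinset

theorem mem_above {p : ℕ} {X L M : Subgroup G} {g : G} :
    M ∈ above p X g L ↔ L ≤ M ∧ M ≤ X ∧ IsPGroup p M ∧ g ∈ normalizer (M : Set G) := by
  simp [above]

open Classical in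
/-- The weights. -/
noncomputable def weight (p : ℕ) (X : Subgroup G) (g : G) (L : Subgroup G) : ℤ :=
  (Finite.to_wellFoundedGT (α := Subgroup G)).wf.fix
    (C := fun _ => ℤ) (fun L rec => (1 : ℤ) - ∑ M : {M // M ∈ (above p X g L).filter (L < ·)}, rec M.1 (Finset.mem_filter.mp M.2).2) L

open Classical in
theorem weight_eq (p : ℕ) (X : Subgroup G) (g : G) (L : Subgroup G) :
    weight p X g L = 1 - ∑ M ∈ (above p X g L).filter (L < ·), weight p X g M := by
  rw [weight, WellFounded.fix_eq]
  show (1 : ℤ) - _ = _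
  exact congrArg (fun z : ℤ => 1 - z)
    (Finset.sum_coe_sort ((above p X g L).filter (L < ·)) (weight p X g))

theorem sum_above {p : ℕ} {X L : Subgroup G} {g : G} (hLX : L ≤ X) (hL : IsPGroup p L)
    (hg : g ∈ normalizer (L : Set G)) : ∑ M ∈ above p X g L, weight p X g M = 1 := by
  classical
  have h : above p X g L = insert L ((above p X g L).filter (L < ·)) := by
    ext M
    simp only [Finset.mem_insert, Finset.mem_filter, mem_above]
    constructor
    · intro h
      rcases h.1.lt_or_eq with h' | h'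
      · exact Or.inr ⟨h, h'⟩
      · exact Or.inl h'.symm
    · rintro (rfl | h)
      · exact ⟨le_rfl, hLX, hL, hg⟩
      · exact h.1
  rw [h, Finset.sum_insert (by simp), weight_eq]
  ring

/-- A weight with unit sums over the upper intervals is `weight`. -/
theorem weight_unique {p : ℕ} {X : Subgroup G} {g : G} {L₀ : Subgroup G} (v : Subgroup G → ℤ)
    (hv : ∀ K, L₀ ≤ K → K ≤ X → IsPGroup p K → g ∈ normalizer (K : Set G) →
      ∑ M ∈ above p X g K, v M = 1) :
    ∀ K, L₀ ≤ K → K ≤ X → IsPGroup p K → g ∈ normalizer (K : Set G) → v K = weight p X g K := by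
  classical
  intro K
  induction K using (Finite.to_wellFoundedGT (α := Subgroup G)).wf.induction with
  | _ K ih =>
    intro h1 h2 h3 h4
    have e1 := hv K h1 h2 h3 h4
    have e2 := sum_above h2 h3 h4
    rw [← Finset.add_sum_erase _ _ (mem_above.mpr ⟨le_rfl, h2, h3, h4⟩)] at e1 e2
    have hs : ∑ M ∈ (above p X g K).erase K, v M = ∑ M ∈ (above p X g K).erase K, weight p X g M := by
      refine Finset.sum_congr rfl fun M hM => ?_
      obtain ⟨hne, hM⟩ := Finset.mem_erase.mp hM
      obtain ⟨a, b, c, d⟩ := mem_above.mp hM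
      exact ih M (lt_of_le_of_ne a (Ne.symm hne)) (h1.trans a) b c d
    linarith

theorem normalizerIn_gt {p : ℕ} [Fact p.Prime] {L M : Subgroup G} (hM : IsPGroup p M) (h : L < M) :
    L < M ⊓ normalizer (L : Set G) := by
  refine lt_of_le_of_ne (le_inf h.le le_normalizer) fun heq => ?_
  have hlt : L.subgroupOf M ≠ ⊤ := fun hh => h.not_ge (subgroupOf_eq_top.1 hh)
  obtain ⟨x, hxN, hxL⟩ := SetLike.exists_of_lt (PGroups.lt_normalizer hM hlt)
  apply hxL
  show (x : G) ∈ L
  rw [heq]
  refine ⟨x.2, ?_⟩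
  show (x : G) ∈ normalizer (L : Set G)
  rw [Subgroup.mem_normalizer_iff]
  intro y
  constructor
  · intro hy
    exact (Subgroup.mem_normalizer_iff.1 hxN ⟨y, h.le hy⟩).1 hy
  · intro hy
    have hyM : y ∈ M := by
      have := M.mul_mem (M.mul_mem (M.inv_mem x.2) (h.le hy)) x.2
      simpa [mul_assoc] using this
    exact (Subgroup.mem_normalizer_iff.1 hxN ⟨y, hyM⟩).2 hy

/-- The weight at `L` only sees the normaliser of `L`. -/
theorem weight_normalizer {p : ℕ} [Fact p.Prime] {X L : Subgroup G} {g : G} (hLX : L ≤ X)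
    (hL : IsPGroup p L) (hg : g ∈ normalizer (L : Set G)) :
    weight p X g L = weight p (X ⊓ normalizer (L : Set G)) g L := by
  classical
  set N := X ⊓ normalizer (L : Set G) with hN
  set v : Subgroup G → ℤ := fun K =>
    ∑ M ∈ (above p X g L).filter (fun M => M ⊓ normalizer (L : Set G) = K), weight p X g M with hv
  have key := weight_unique (p := p) (X := N) (g := g) (L₀ := L) v ?_ L le_rfl
    (le_inf hLX le_normalizer) hL hg
  · rw [← key, hv]
    have hset : (above p X g L).filter (fun M => M ⊓ normalizer (L : Set G) = L) = {L} := by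
      ext M
      simp only [Finset.mem_filter, Finset.mem_singleton, mem_above]
      constructor
      · rintro ⟨⟨hLM, -, hM, -⟩, he⟩
        by_contra hne
        exact (normalizerIn_gt hM (lt_of_le_of_ne hLM (Ne.symm hne))).ne he.symm
      · rintro rfl
        exact ⟨⟨le_rfl, hLX, hL, hg⟩, inf_eq_left.mpr le_normalizer⟩
    show _ = ∑ M ∈ (above p X g L).filter (fun M => M ⊓ normalizer (L : Set G) = L), weight p X g M
    rw [hset, Finset.sum_singleton]
  · intro K hLK hKN hK hgK
    have hKX : K ≤ X := hKN.trans inf_le_left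
    rw [← sum_above hKX hK hgK]
    simp only [hv]
    refine (Finset.sum_fiberwise_eq_sum_filter (above p X g L) (above p N g K)
      (fun M => M ⊓ normalizer (L : Set G)) (weight p X g)).trans ?_
    refine Finset.sum_congr ?_ fun _ _ => rfl
    ext M
    simp only [Finset.mem_filter, mem_above]
    constructor
    · rintro ⟨⟨-, hMX, hM, hgM⟩, hKM, -, -, -⟩
      exact ⟨hKM.trans inf_le_left, hMX, hM, hgM⟩
    · rintro ⟨hKM, hMX, hM, hgM⟩
      refine ⟨⟨hLK.trans hKM, hMX, hM, hgM⟩, le_inf hKM (hKN.trans inf_le_right),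
        inf_le_inf hMX le_rfl, hM.to_le inf_le_left, ?_⟩
      have hgg : g ∈ normalizer ((normalizer (L : Set G) : Subgroup G) : Set G) := le_normalizer hg
      rw [Subgroup.mem_normalizer_iff]
      intro y
      rw [mem_inf, mem_inf, Subgroup.mem_normalizer_iff.1 hgM y, Subgroup.mem_normalizer_iff.1 hgg y]

/-- Maximal `p`-subgroups of `X`. -/
def IsMaxP (p : ℕ) (X M : Subgroup G) : Prop :=
  M ≤ X ∧ IsPGroup p M ∧ ∀ K, M ≤ K → K ≤ X → IsPGroup p K → K = M

theorem isMaxP_sylow {p : ℕ} {X : Subgroup G} (Q : Sylow p X) :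
    IsMaxP p X ((Q : Subgroup X).map X.subtype) := by
  refine ⟨map_subtype_le _, Q.isPGroup'.map _, fun K hQK hKX hK => ?_⟩
  have h := Q.3 (hK.of_equiv (subgroupOfEquivOfLe hKX).symm)
    (fun x hx => hQK ⟨x, hx, rfl⟩)
  rw [← h, subgroupOf_map_subtype, inf_eq_left.mpr hKX]

theorem exists_sylow_of_isMaxP {p : ℕ} {X M : Subgroup G} (h : IsMaxP p X M) :
    ∃ Q : Sylow p X, (Q : Subgroup X).map X.subtype = M := by
  obtain ⟨Q, hQ⟩ := (h.2.1.of_equiv (subgroupOfEquivOfLe h.1).symm).exists_le_sylow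
  exact ⟨Q, h.2.2 _ (fun x hx => ⟨⟨x, h.1 hx⟩, hQ hx, rfl⟩) (map_subtype_le _) (Q.isPGroup'.map _)⟩

theorem card_normalizer_map {p : ℕ} [Fact p.Prime] {X : Subgroup G} (Q : Sylow p X) :
    Nat.card (Sylow p X) *
      Nat.card ↥(X ⊓ normalizer (((Q : Subgroup X).map X.subtype : Subgroup G) : Set G)) = Nat.card X := by
  have e : (X ⊓ normalizer (((Q : Subgroup X).map X.subtype : Subgroup G) : Set G)).subgroupOf X =
      normalizer ((Q : Subgroup X) : Set X) := by
    ext x
    rw [mem_subgroupOf, mem_inf, Subgroup.mem_normalizer_iff, Subgroup.mem_normalizer_iff]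
    refine ⟨fun h y => ?_, fun h => ⟨x.2, fun y => ⟨?_, fun hy => ?_⟩⟩⟩
    · have := h.2 (y : G)
      constructor
      · intro hy
        obtain ⟨z, hz, hze⟩ := this.1 ⟨y, hy, rfl⟩
        have : z = x * y * x⁻¹ := Subtype.ext (by simpa using hze)
        exact this ▸ hz
      · intro hy
        obtain ⟨z, hz, hze⟩ := this.2 ⟨_, hy, by simp⟩
        exact (Subtype.ext (by simpa using hze) : z = y) ▸ hz
    · rintro ⟨z, hz, rfl⟩
      exact ⟨_, (h z).1 hz, by simp⟩
    · obtain ⟨z, hz, hze⟩ := hy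
      refine ⟨x⁻¹ * z * x, ?_, ?_⟩
      · have hz' : x * (x⁻¹ * z * x) * x⁻¹ = z := by group
        have := (h (x⁻¹ * z * x)).2 (by rw [hz']; exact hz)
        exact this
      · simp only [map_mul, map_inv, Subgroup.coe_subtype] at hze ⊢
        rw [hze]
        group
  rw [Sylow.card_eq_index_normalizer Q]
  change (normalizer ((Q : Subgroup X) : Set X)).index * _ = _
  rw [← e,
    ← Nat.card_congr (subgroupOfEquivOfLe (inf_le_left : X ⊓ _ ≤ X)).toEquiv, mul_comm,
    Subgroup.card_mul_index]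

open Classical in
theorem sum_maxP {p : ℕ} [Fact p.Prime] (X : Subgroup G) [Fintype (Subgroup G)] :
    ∑ M ∈ Finset.univ.filter (IsMaxP p X), Nat.card ↥(X ⊓ normalizer (M : Set G)) = Nat.card X := by
  haveI := Fintype.ofFinite (Sylow p X)
  let Q₀ : Sylow p X := default
  have himg : Finset.univ.filter (IsMaxP p X) =
      (Finset.univ : Finset (Sylow p X)).image (fun Q : Sylow p X => (Q : Subgroup X).map X.subtype) := by
    ext M
    simp only [Finset.mem_filter, Finset.mem_univ, true_and, Finset.mem_image]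
    exact ⟨exists_sylow_of_isMaxP, fun ⟨Q, hQ⟩ => hQ ▸ isMaxP_sylow Q⟩
  rw [himg, Finset.sum_image (fun a _ b _ h => Sylow.ext (Subgroup.map_injective X.subtype_injective h))]
  have hn : 0 < Nat.card (Sylow p X) := Nat.card_pos
  apply Nat.eq_of_mul_eq_mul_left hn
  rw [Finset.mul_sum, Finset.sum_congr rfl fun Q _ => card_normalizer_map Q, Finset.sum_const,
    Finset.card_univ, Nat.card_eq_fintype_card (α := Sylow p X)]
  rfl

open Classical in
/-- Summed weight. -/
noncomputable def total (p : ℕ) (X L : Subgroup G) [Fintype G] : ℤ :=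
  ∑ g ∈ Finset.univ.filter (fun g => g ∈ X ⊓ normalizer (L : Set G)), weight p X g L

theorem total_maxP [Fintype G] {p : ℕ} {X L : Subgroup G} (h : IsMaxP p X L) :
    total p X L = Nat.card ↥(X ⊓ normalizer (L : Set G)) := by
  classical
  rw [total, Finset.sum_congr rfl (g := fun _ => (1 : ℤ)) fun g _ => ?_]
  · rw [Finset.sum_const, nsmul_eq_mul, mul_one, Nat.card_eq_fintype_card, Fintype.card_subtype]
  · rw [weight_eq, sub_eq_self]
    refine Finset.sum_eq_zero fun M hM => ?_
    obtain ⟨hM, hlt⟩ := Finset.mem_filter.mp hM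
    obtain ⟨a, b, c, -⟩ := mem_above.mp hM
    exact absurd (h.2.2 M a b c) hlt.ne'

/-- Summed weights vanish off the Sylow subgroups. -/
theorem total_eq_zero [Fintype G] {p : ℕ} [Fact p.Prime] :
    ∀ (n : ℕ) (X : Subgroup G), Nat.card X = n → ∀ L ≤ X, IsPGroup p L → ¬ IsMaxP p X L →
      total p X L = 0 := by
  classical
  intro n
  induction n using Nat.strong_induction_on with
  | _ n IH =>
  intro X hXn L
  induction L using (Finite.to_wellFoundedGT (α := Subgroup G)).wf.induction with
  | _ L ihL =>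
  intro hLX hL hnmax
  by_cases hnor : X ≤ normalizer (L : Set G)
  swap
  · have hlt : Nat.card ↥(X ⊓ normalizer (L : Set G)) < n := by
      rw [← hXn]
      refine lt_of_le_of_ne (card_le_of_le inf_le_left) fun h => hnor ?_
      exact inf_eq_left.mp (eq_of_le_of_card_ge inf_le_left h.ge)
    have hnmax' : ¬ IsMaxP p (X ⊓ normalizer (L : Set G)) L := by
      intro hmax
      apply hnmax
      refine ⟨hLX, hL, fun K hLK hKX hK => ?_⟩
      by_contra hne
      have hgt := normalizerIn_gt hK (lt_of_le_of_ne hLK (Ne.symm hne))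
      exact hgt.ne' (hmax.2.2 _ hgt.le (inf_le_inf hKX le_rfl) (hK.to_le inf_le_left))
    rw [← IH _ hlt _ rfl L (le_inf hLX le_normalizer) hL hnmax', total, total]
    refine Finset.sum_congr (by simp) fun g hg => ?_
    exact weight_normalizer hLX hL (mem_inf.mp (Finset.mem_filter.mp hg).2).2
  · have hall : (Finset.univ.filter fun g => g ∈ X ⊓ normalizer (L : Set G)) =
        Finset.univ.filter (fun g => g ∈ X) := by
      rw [inf_eq_left.mpr hnor]
    set U := Finset.univ.filter (fun M : Subgroup G => L < M ∧ M ≤ X ∧ IsPGroup p M)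
    have h1 : total p X L = Nat.card X - ∑ M ∈ U, total p X M := by
      rw [total, hall, Finset.sum_congr rfl fun g _ => weight_eq p X g L, Finset.sum_sub_distrib,
        Finset.sum_const, nsmul_eq_mul, mul_one, Nat.card_eq_fintype_card, Fintype.card_subtype]
      congr 1
      simp only [total]
      refine Finset.sum_comm' fun g M => ?_
      simp only [Finset.mem_filter, Finset.mem_univ, true_and, mem_above, mem_inf, U]
      exact ⟨fun ⟨hg, ⟨_, hMX, hM, hgM⟩, hlt⟩ => ⟨⟨hg, hgM⟩, hlt, hMX, hM⟩,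
        fun ⟨⟨hg, hgM⟩, hlt, hMX, hM⟩ => ⟨hg, ⟨hlt.le, hMX, hM, hgM⟩, hlt⟩⟩
    have hsup : ∀ M, IsMaxP p X M → L < M := by
      intro M hM
      have hLM : L ⊔ M = M := hM.2.2 _ le_sup_right (sup_le hLX hM.1)
        (hL.to_sup_of_normal_left' hM.2.1 (hM.1.trans hnor))
      exact lt_of_le_of_ne (sup_eq_right.mp hLM) fun h => hnmax (h ▸ hM)
    have h2 : ∑ M ∈ U, total p X M = Nat.card X := by
      rw [← sum_maxP (p := p) X, Nat.cast_sum,
        ← Finset.sum_subset (s₁ := Finset.univ.filter (IsMaxP p X)) (s₂ := U)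
          (fun M hM => by
            have hM' := (Finset.mem_filter.mp hM).2
            exact Finset.mem_filter.mpr ⟨Finset.mem_univ _, hsup M hM', hM'.1, hM'.2.1⟩)
          (fun M hM hM' => ihL M (Finset.mem_filter.mp hM).2.1 (Finset.mem_filter.mp hM).2.2.1
            (Finset.mem_filter.mp hM).2.2.2
            fun h => hM' (Finset.mem_filter.mpr ⟨Finset.mem_univ _, h⟩))]
      exact Finset.sum_congr rfl fun M hM => total_maxP (Finset.mem_filter.mp hM).2
    rw [h1, h2, sub_self]

/-- **Casolo's count.** -/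
theorem card_subnormalizer {p : ℕ} [Fact p.Prime] {H : Subgroup G} (hH : IsPGroup p H) (P : Sylow p G) :
    Nat.card {g : G // ∃ R : Subgroup G, H ≤ R ∧ IsPGroup p R ∧ g ∈ normalizer (R : Set G)} =
      Nat.card {Q : Sylow p G // H ≤ (Q : Subgroup G)} * Nat.card (normalizer ((P : Subgroup G) : Set G)) := by
  classical
  haveI := Fintype.ofFinite G
  haveI := Fintype.ofFinite (Subgroup G)
  haveI := Fintype.ofFinite (Sylow p G)
  have hsum : ∀ g : G, (∃ R : Subgroup G, H ≤ R ∧ IsPGroup p R ∧ g ∈ normalizer (R : Set G)) →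
      ∑ M ∈ above p ⊤ g H, weight p ⊤ g M = 1 := by
    rintro g ⟨R, hHR, hR, hgR⟩
    set K := sInf {M : Subgroup G | H ≤ M ∧ g ∈ normalizer (M : Set G)} with hK
    have hHK : H ≤ K := le_sInf fun M hM => hM.1
    have hgK : g ∈ normalizer (K : Set G) := by
      rw [Subgroup.mem_normalizer_iff]
      intro y
      simp only [hK, mem_sInf]
      exact ⟨fun h M hM => (Subgroup.mem_normalizer_iff.1 hM.2 y).1 (h M hM),
        fun h M hM => (Subgroup.mem_normalizer_iff.1 hM.2 y).2 (h M hM)⟩
    have hKp : IsPGroup p K := hR.to_le (sInf_le ⟨hHR, hgR⟩)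
    rw [← sum_above (X := ⊤) le_top hKp hgK]
    refine Finset.sum_congr ?_ fun _ _ => rfl
    ext M
    simp only [mem_above]
    exact ⟨fun ⟨a, b, c, d⟩ => ⟨sInf_le ⟨a, d⟩, b, c, d⟩, fun ⟨a, b, c, d⟩ => ⟨hHK.trans a, b, c, d⟩⟩
  set T := Finset.univ.filter
    (fun g : G => ∃ R : Subgroup G, H ≤ R ∧ IsPGroup p R ∧ g ∈ normalizer (R : Set G))
  set U := Finset.univ.filter (fun M : Subgroup G => H ≤ M ∧ IsPGroup p M)
  have h1 : (T.card : ℤ) = ∑ M ∈ U, total p ⊤ M := by
    rw [Finset.card_eq_sum_ones, Nat.cast_sum,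
      Finset.sum_congr rfl (g := fun g => ∑ M ∈ above p ⊤ g H, weight p ⊤ g M)
        (fun g hg => by rw [Nat.cast_one, hsum g (Finset.mem_filter.mp hg).2])]
    simp only [total]
    refine Finset.sum_comm' fun g M => ?_
    simp only [Finset.mem_filter, Finset.mem_univ, true_and, mem_above, mem_inf, mem_top, T, U, le_top]
    exact ⟨fun ⟨_, a, b, c⟩ => ⟨c, a, b⟩, fun ⟨c, a, b⟩ => ⟨⟨M, a, b, c⟩, a, b, c⟩⟩
  have hmax : ∀ M : Subgroup G, IsMaxP p ⊤ M ↔ ∃ Q : Sylow p G, (Q : Subgroup G) = M := by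
    intro M
    constructor
    · intro h
      obtain ⟨Q, hQ⟩ := h.2.1.exists_le_sylow
      exact ⟨Q, h.2.2 _ hQ le_top Q.isPGroup'⟩
    · rintro ⟨Q, rfl⟩
      exact ⟨le_top, Q.isPGroup', fun K hK _ hKp => Q.3 hKp hK⟩
  have h2 : ∑ M ∈ U, total p ⊤ M =
      ((Nat.card {Q : Sylow p G // H ≤ (Q : Subgroup G)} *
        Nat.card (normalizer ((P : Subgroup G) : Set G)) : ℕ) : ℤ) := by
    rw [← Finset.sum_subset (s₁ := ((Finset.univ.filter (fun Q : Sylow p G => H ≤ (Q : Subgroup G))).image
        (fun Q : Sylow p G => (Q : Subgroup G)))) (s₂ := U)]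
    · rw [Finset.sum_image (fun a _ b _ h => Sylow.ext h),
        Finset.sum_congr rfl (g := fun _ => (Nat.card (normalizer ((P : Subgroup G) : Set G)) : ℤ))]
      · rw [Finset.sum_const, nsmul_eq_mul, Nat.cast_mul,
          Nat.card_eq_fintype_card (α := {Q : Sylow p G // H ≤ (Q : Subgroup G)}), Fintype.card_subtype]
      · intro Q _
        rw [total_maxP ((hmax _).mpr ⟨Q, rfl⟩), top_inf_eq]
        have e1 : Nat.card (Sylow p G) = (normalizer ((Q : Subgroup G) : Set G)).index :=
          Sylow.card_eq_index_normalizer Q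
        have e2 : Nat.card (Sylow p G) = (normalizer ((P : Subgroup G) : Set G)).index :=
          Sylow.card_eq_index_normalizer P
        have e := (Subgroup.card_mul_index (normalizer ((Q : Subgroup G) : Set G))).trans
          (Subgroup.card_mul_index (normalizer ((P : Subgroup G) : Set G))).symm
        rw [← e1, ← e2] at e
        exact_mod_cast Nat.eq_of_mul_eq_mul_right Nat.card_pos e
    · intro M hM
      obtain ⟨Q, hQ, rfl⟩ := Finset.mem_image.mp hM
      exact Finset.mem_filter.mpr ⟨Finset.mem_univ _, (Finset.mem_filter.mp hQ).2, Q.isPGroup'⟩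
    · intro M hM hM'
      refine total_eq_zero _ ⊤ rfl M le_top (Finset.mem_filter.mp hM).2.2 fun h => hM' ?_
      obtain ⟨Q, rfl⟩ := (hmax M).mp h
      exact Finset.mem_image.mpr
        ⟨Q, Finset.mem_filter.mpr ⟨Finset.mem_univ _, (Finset.mem_filter.mp hM).2.1⟩, rfl⟩
  have h3 := h1.trans h2
  rw [Nat.card_eq_fintype_card, Fintype.card_subtype]
  exact_mod_cast h3

end Cfsg.Agent.H75
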