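import Mathlib
import Cfsg.Agent.H75.SylowCount
import Cfsg.Agent.FusionSys.Group

/-!
How the number of elements conjugating a `p`-subgroup into a Sylow subgroup times a normal subgroup changes along a
normal series.
-/

set_option autoImplicit false

namespace Cfsg.Agent.H75

open Subgroup

variable {G : Type*} [Group G] [Finite G] {p : ℕ}

/-- Elements conjugating `H` into `T`. -/
noncomputable def intoCount (H T : Subgroup G) : ℕ :=
  Nat.card {x : G // ∀ h ∈ H, x * h * x⁻¹ ∈ T}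

/-- Elements of `L` centralising `H` modulo `K`. -/
def centModulo (H K L : Subgroup G) [K.Normal] : Subgroup G :=
  L ⊓ (centralizer ((H.map (QuotientGroup.mk' K) : Subgroup (G ⧸ K)) : Set (G ⧸ K))).comap (QuotientGroup.mk' K)

omit [Finite G] in
theorem mem_centModulo {H K L : Subgroup G} [K.Normal] {u : G} :
    u ∈ centModulo H K L ↔ u ∈ L ∧ ∀ h ∈ H, h * u * h⁻¹ * u⁻¹ ∈ K := by
  rw [centModulo, mem_inf, mem_comap, mem_centralizer_iff]
  refine and_congr Iff.rfl ⟨fun h x hx => ?_, fun h y hy => ?_⟩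
  · have := h _ ⟨x, hx, rfl⟩
    rw [← QuotientGroup.eq_one_iff]
    simp only [QuotientGroup.mk'_apply] at this
    simp only [QuotientGroup.mk_mul, QuotientGroup.mk_inv]
    rw [this]
    group
  · obtain ⟨x, hx, rfl⟩ := hy
    have := (QuotientGroup.eq_one_iff _).mpr (h x hx)
    simp only [QuotientGroup.mk_mul, QuotientGroup.mk_inv] at this
    simp only [QuotientGroup.mk'_apply]
    rw [mul_inv_eq_one, mul_inv_eq_iff_eq_mul] at this
    exact this

omit [Finite G] in
theorem commModulo_iff {K : Subgroup G} [K.Normal] (a b : G) :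
    a * b * a⁻¹ * b⁻¹ ∈ K ↔ b * a * b⁻¹ * a⁻¹ ∈ K := by
  rw [show b * a * b⁻¹ * a⁻¹ = (a * b * a⁻¹ * b⁻¹)⁻¹ by group, inv_mem_iff]

variable [Fact p.Prime]

/-- A coprime step. -/
theorem intoCount_step_coprime {H K L : Subgroup G} [K.Normal] [L.Normal] (hH : IsPGroup p H) (P : Sylow p G)
    (hKL : K ≤ L) (hcop : (K.relIndex L).Coprime p) :
    intoCount H ((P : Subgroup G) ⊔ K) * Nat.card L =
      Nat.card (centModulo H K L) * intoCount H ((P : Subgroup G) ⊔ L) := by
  classical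
  set T := (P : Subgroup G) ⊔ K with hT
  set T' := (P : Subgroup G) ⊔ L with hT'
  have hKT : K ≤ T := le_sup_right
  have hTT' : T ≤ T' := sup_le_sup_left hKL _
  have hLT' : L ≤ T' := le_sup_right
  have hmeet : ∀ x ∈ L, x ∈ T → x ∈ K := by
    intro x hxL hxT
    obtain ⟨a, ha, k, hk, rfl⟩ := Subgroup.mem_sup_of_normal_right.mp hxT
    have haL : a ∈ L := by
      have := L.mul_mem hxL (L.inv_mem (hKL hk))
      simpa using this
    refine K.mul_mem ?_ hk
    obtain ⟨e, he⟩ := IsPGroup.iff_orderOf.mp P.isPGroup' ⟨a, ha⟩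
    rw [Subgroup.orderOf_mk] at he
    have h1 : a ^ K.relIndex L ∈ K := by
      haveI : (K.subgroupOf L).Normal := inferInstance
      have := Subgroup.pow_index_mem (K.subgroupOf L) (⟨a, haL⟩ : L)
      exact this
    have hg : Nat.Coprime (K.relIndex L) (orderOf a) := he ▸ hcop.pow_right e
    have hd : a ∈ zpowers (a ^ K.relIndex L) := by
      rw [mem_zpowers_pow_iff]
      exact hg
    exact zpowers_le.mpr h1 hd
  let Φ : {x : G // ∀ h ∈ H, x * h * x⁻¹ ∈ T} × L → {x : G // ∀ h ∈ H, x * h * x⁻¹ ∈ T'} :=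
    fun z => ⟨(z.2 : G) * z.1, fun h hh => by
      have := T'.mul_mem (T'.mul_mem (hLT' z.2.2) (hTT' (z.1.2 h hh))) (T'.inv_mem (hLT' z.2.2))
      simpa [mul_assoc] using this⟩
  have hfib : ∀ x, Nat.card {z // Φ z = x} = Nat.card (centModulo H K L) := by
    rintro ⟨x, hx⟩
    -- conjugate `xHx⁻¹` into `P` inside `T'`
    obtain ⟨y, l, hy⟩ : ∃ (y : {x : G // ∀ h ∈ H, x * h * x⁻¹ ∈ T}) (l : L), (l : G) * y = x := by
      let H' := H.map (MulAut.conj x).toMonoidHom
      have hH'T : H' ≤ T' := by rintro _ ⟨h, hh, rfl⟩; exact hx h hh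
      obtain ⟨Q, hQ⟩ := ((hH.map (MulAut.conj x).toMonoidHom).of_equiv
        (subgroupOfEquivOfLe hH'T).symm).exists_le_sylow
      obtain ⟨t, ht⟩ := MulAction.exists_smul_eq T' Q (P.subtype le_sup_left : Sylow p T')
      obtain ⟨l, hl, a, ha, hla⟩ := Subgroup.mem_sup_of_normal_left.mp
        (show (t : G)⁻¹ ∈ L ⊔ (P : Subgroup G) by rw [sup_comm]; exact inv_mem t.2)
      refine ⟨⟨l⁻¹ * x, fun h hh => ?_⟩, ⟨l, hl⟩, by simp⟩
      have hm : (⟨(t : G) * (x * h * x⁻¹) * (t : G)⁻¹,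
          T'.mul_mem (T'.mul_mem t.2 (hx h hh)) (inv_mem t.2)⟩ : T') ∈ ((P.subtype le_sup_left : Sylow p T') : Subgroup T') := by
        rw [← ht, Sylow.coe_subgroup_smul]
        exact ⟨⟨x * h * x⁻¹, hx h hh⟩, hQ ⟨h, hh, rfl⟩, rfl⟩
      have hm' : (t : G) * (x * h * x⁻¹) * (t : G)⁻¹ ∈ (P : Subgroup G) := hm
      have he : l⁻¹ * x * h * (l⁻¹ * x)⁻¹ = a * ((t : G) * (x * h * x⁻¹) * (t : G)⁻¹) * a⁻¹ := by
        have : (t : G)⁻¹ = l * a := hla.symm
        rw [this, show (t : G) = a⁻¹ * l⁻¹ by rw [← inv_inv (t : G), this, mul_inv_rev]]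
        group
      rw [he]
      exact mem_sup_left (mul_mem (mul_mem ha hm') (inv_mem ha))
    -- the fibre is a coset of the centraliser of `H` modulo `K`
    have hc : ∀ c : L, (∀ h ∈ H, ((c : G) * y) * h * ((c : G) * y)⁻¹ ∈ T) ↔
        (y : G)⁻¹ * c * y ∈ centModulo H K L := by
      intro c
      rw [mem_centModulo]
      have hmemL : (y : G)⁻¹ * c * y ∈ L := by
        simpa using (inferInstance : L.Normal).conj_mem c c.2 (y : G)⁻¹
      refine ⟨fun h => ⟨hmemL, fun x hxH => ?_⟩, fun h x hxH => ?_⟩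
      · rw [commModulo_iff]
        have hb := y.2 x hxH
        have h1 : ((c : G) * y) * x * ((c : G) * y)⁻¹ * ((y : G) * x * (y : G)⁻¹)⁻¹ ∈ T :=
          T.mul_mem (h x hxH) (T.inv_mem hb)
        have h2 : ((c : G) * y) * x * ((c : G) * y)⁻¹ * ((y : G) * x * (y : G)⁻¹)⁻¹ ∈ L := by
          have := L.mul_mem c.2 ((inferInstance : L.Normal).conj_mem _ (L.inv_mem c.2) ((y : G) * x * (y : G)⁻¹))
          simpa [mul_assoc] using this
        have := (inferInstance : K.Normal).conj_mem _ (hmeet _ h2 h1) (y : G)⁻¹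
        simpa [mul_assoc] using this
      · have := (inferInstance : K.Normal).conj_mem _ ((commModulo_iff _ _).mpr (h.2 x hxH)) (y : G)
        have h3 := T.mul_mem (hKT this) (y.2 x hxH)
        simpa [mul_assoc] using h3
    let e : {z // Φ z = ⟨x, hx⟩} → centModulo H K L := fun z =>
      ⟨(y : G)⁻¹ * (z.1.2⁻¹ * l : L) * y, (hc _).mp (fun h hh => by
        have he : ((z.1.2⁻¹ * l : L) : G) * y = (z.1.1 : G) := by
          rw [Subgroup.coe_mul, Subgroup.coe_inv, mul_assoc, hy, inv_mul_eq_iff_eq_mul]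
          exact (congrArg Subtype.val z.2).symm
        rw [he]
        exact z.1.1.2 h hh)⟩
    refine Nat.card_eq_of_bijective e ⟨fun z z' h => ?_, fun c => ?_⟩
    · have h' := congrArg Subtype.val h
      simp only [e, Subgroup.coe_mul, Subgroup.coe_inv, mul_left_inj, mul_right_inj, inv_inj] at h'
      apply Subtype.ext
      refine Prod.ext (Subtype.ext ?_) (Subtype.ext h')
      have e1 := congrArg Subtype.val z.2
      have e2 := congrArg Subtype.val z'.2
      simp only [Φ] at e1 e2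
      rw [h'] at e1
      exact mul_left_cancel (e1.trans e2.symm)
    · have hcL : (y : G) * c * (y : G)⁻¹ ∈ L := by
        exact (inferInstance : L.Normal).conj_mem _ (mem_centModulo.mp c.2).1 _
      let d : L := ⟨(y : G) * c * (y : G)⁻¹, hcL⟩
      have hd : (y : G)⁻¹ * d * y ∈ centModulo H K L := by simp [d, mul_assoc]
      refine ⟨⟨(⟨(d : G) * y, (hc d).mpr hd⟩, l * d⁻¹), ?_⟩, ?_⟩
      · apply Subtype.ext
        simp [Φ, mul_assoc, hy]
      · apply Subtype.ext
        simp [e, d, mul_assoc]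
  haveI := Fintype.ofFinite {x : G // ∀ h ∈ H, x * h * x⁻¹ ∈ T'}
  calc intoCount H T * Nat.card L = Nat.card ({x : G // ∀ h ∈ H, x * h * x⁻¹ ∈ T} × L) := by
        rw [Nat.card_prod]; rfl
    _ = Nat.card (Σ x, {z // Φ z = x}) := Nat.card_congr (Equiv.sigmaFiberEquiv Φ).symm
    _ = Nat.card (centModulo H K L) * intoCount H T' := by
        rw [Nat.card_sigma]
        simp only [hfib, Finset.sum_const, Finset.card_univ, smul_eq_mul, intoCount,
          Nat.card_eq_fintype_card (α := {x : G // ∀ h ∈ H, x * h * x⁻¹ ∈ T'}), mul_comm]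

/-- A `p`-step. -/
theorem intoCount_step_prime {H K L : Subgroup G} [K.Normal] [L.Normal] (P : Sylow p G) (hKL : K ≤ L)
    {m : ℕ} (hm : K.relIndex L = p ^ m) :
    intoCount H ((P : Subgroup G) ⊔ K) = intoCount H ((P : Subgroup G) ⊔ L) := by
  have hsup : (P : Subgroup G) ⊔ L = (P : Subgroup G) ⊔ K := by
    refine le_antisymm (sup_le le_sup_left ?_) (sup_le_sup_left hKL _)
    rw [← relIndex_eq_one]
    have h1 : ((P : Subgroup G) ⊔ K).relIndex L ∣ p ^ m := hm ▸ relIndex_dvd_of_le_left L le_sup_right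
    obtain ⟨j, -, hj⟩ := (Nat.dvd_prime_pow Fact.out).mp h1
    rcases Nat.eq_zero_or_pos j with h | h
    · rw [hj, h, pow_zero]
    · exfalso
      have hi : ¬ p ∣ ((P : Subgroup G) ⊔ K).index := fun hd =>
        P.not_dvd_index (hd.trans (index_dvd_of_le le_sup_left))
      exact FusionSys.not_dvd_relIndex_of_normal _ L hi (hj ▸ dvd_pow_self p h.ne')
  rw [hsup]

theorem intoCount_bot (H : Subgroup G) (P : Sylow p G) :
    intoCount H ((P : Subgroup G) ⊔ ⊥) =
      Nat.card {Q : Sylow p G // H ≤ (Q : Subgroup G)} * Nat.card (normalizer ((P : Subgroup G) : Set G)) := by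
  classical
  rw [sup_bot_eq, intoCount]
  have hcount : ∀ x : G, (∀ h ∈ H, x * h * x⁻¹ ∈ (P : Subgroup G)) ↔ H ≤ ((x⁻¹ • P : Sylow p G) : Subgroup G) := by
    intro x
    rw [Sylow.coe_subgroup_smul]
    constructor
    · exact fun h y hy => ⟨_, h y hy, by simp [mul_assoc]⟩
    · intro h y hy
      obtain ⟨z, hz, rfl⟩ := h hy
      simp [mul_assoc]
      exact hz
  rw [← Nat.card_prod]
  have hs : ∀ Q : Sylow p G, ∃ x : G, x • P = Q := fun Q => MulAction.exists_smul_eq G P Q
  choose f hf using hs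
  refine Nat.card_congr
    { toFun := fun x => (⟨(x : G)⁻¹ • P, (hcount x).mp x.2⟩, ⟨(f ((x : G)⁻¹ • P))⁻¹ * (x : G)⁻¹, ?_⟩)
      invFun := fun z => ⟨(f z.1 * z.2)⁻¹, ?_⟩
      left_inv := fun x => ?_
      right_inv := fun z => ?_ }
  · refine Sylow.smul_eq_iff_mem_normalizer.mp ?_
    rw [mul_smul, inv_smul_eq_iff]
    exact (hf _).symm
  · rw [hcount, inv_inv, mul_smul, Sylow.smul_eq_iff_mem_normalizer.mpr z.2.2, hf]
    exact z.1.2
  · apply Subtype.ext
    simp
  · have he : ((f z.1 * z.2)⁻¹)⁻¹ • P = (z.1 : Sylow p G) := by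
      rw [inv_inv, mul_smul, Sylow.smul_eq_iff_mem_normalizer.mpr z.2.2, hf]
    refine Prod.ext (Subtype.ext he) (Subtype.ext ?_)
    dsimp only
    rw [he, inv_inv, inv_mul_cancel_left]

end Cfsg.Agent.H75
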