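import Mathlib
import Cfsg.Agent.PGroups.Basic

/-!
A `p`-group of unitriangular `e × e` matrices over `ZMod p` is generated by at most `e ^ 2 / 4` elements:
the positions of leading entries of a generating set form a triangle-free graph.
-/

set_option autoImplicit false

namespace Cfsg.Agent.H75

open Matrix
open scoped commutatorElement

variable {R : Type*} [CommRing R] {e : ℕ}

/-- Lexicographic order of positions: first the distance to the diagonal, then the row. -/
def posKey (i j : Fin e) : ℕ := ((j : ℕ) - i) * e + i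

theorem posKey_lt_of_dist {i j x y : Fin e} (h : (j : ℕ) - i < (y : ℕ) - x) : posKey i j < posKey x y := by
  unfold posKey
  have := i.2
  calc ((j : ℕ) - i) * e + i < ((j : ℕ) - i + 1) * e := by rw [add_mul, one_mul]; omega
    _ ≤ ((y : ℕ) - x) * e := Nat.mul_le_mul_right _ h
    _ ≤ _ := Nat.le_add_right _ _

theorem posKey_le_iff {i j x y : Fin e} :
    posKey i j ≤ posKey x y ↔ (j : ℕ) - i < (y : ℕ) - x ∨ ((j : ℕ) - i = (y : ℕ) - x ∧ (i : ℕ) ≤ x) := by
  constructor
  · intro h
    rcases lt_trichotomy ((j : ℕ) - i) ((y : ℕ) - x) with h' | h' | h'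
    · exact Or.inl h'
    · refine Or.inr ⟨h', ?_⟩
      unfold posKey at h
      rw [h'] at h
      omega
    · exact absurd h (not_le.mpr (posKey_lt_of_dist h'))
  · rintro (h | ⟨h1, h2⟩)
    · exact (posKey_lt_of_dist h).le
    · unfold posKey
      rw [h1]
      omega

/-- Strictly upper triangular. -/
def StrictUpper (A : Matrix (Fin e) (Fin e) R) : Prop := ∀ i j : Fin e, j ≤ i → A i j = 0

/-- All entries at positions before `r` vanish. -/
def ZeroBefore (r : ℕ) (A : Matrix (Fin e) (Fin e) R) : Prop :=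
  ∀ i j : Fin e, i < j → posKey i j < r → A i j = 0

theorem StrictUpper.mul {A B : Matrix (Fin e) (Fin e) R} (hA : StrictUpper A) (hB : StrictUpper B) :
    StrictUpper (A * B) := by
  intro i j hji
  rw [Matrix.mul_apply]
  refine Finset.sum_eq_zero fun z _ => ?_
  rcases le_or_gt z i with h | h
  · rw [hA i z h, zero_mul]
  · rw [hB z j (hji.trans h.le), mul_zero]

theorem ZeroBefore.mul {A B : Matrix (Fin e) (Fin e) R} (hA : StrictUpper A) (hB : StrictUpper B) {r : ℕ}
    (h : ZeroBefore r A) {i l : Fin e} (hr : posKey i l ≤ r) : (A * B) i l = 0 := by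
  rw [Matrix.mul_apply]
  refine Finset.sum_eq_zero fun z _ => ?_
  rcases le_or_gt z i with h1 | h1
  · rw [hA i z h1, zero_mul]
  rcases le_or_gt l z with h2 | h2
  · rw [hB z l h2, mul_zero]
  rw [h i z h1 (lt_of_lt_of_le (posKey_lt_of_dist (by omega)) hr), zero_mul]

/-- The leading term of a commutator. -/
theorem sub_comm_apply {A B : Matrix (Fin e) (Fin e) R} (hA : StrictUpper A) (hB : StrictUpper B)
    {i j l : Fin e} (hij : i < j) (hjl : j < l) (ha : ZeroBefore (posKey i j) A) (hb : ZeroBefore (posKey j l) B) :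
    (A * B - B * A) i l = A i j * B j l ∧
      ∀ x y : Fin e, posKey x y < posKey i l → (A * B - B * A) x y = 0 := by
  have key1 : ∀ x y z : Fin e, posKey x y ≤ posKey i l → A x z * B z y ≠ 0 → x = i ∧ z = j ∧ y = l := by
    intro x y z hle hne
    have h1 : x < z := not_le.mp fun h => hne (by rw [hA x z h, zero_mul])
    have h2 : z < y := not_le.mp fun h => hne (by rw [hB z y h, mul_zero])
    have h3 : posKey i j ≤ posKey x z := not_lt.mp fun h => hne (by rw [ha x z h1 h, zero_mul])
    have h4 : posKey j l ≤ posKey z y := not_lt.mp fun h => hne (by rw [hb z y h2 h, mul_zero])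
    rw [posKey_le_iff] at hle h3 h4
    refine ⟨Fin.ext ?_, Fin.ext ?_, Fin.ext ?_⟩ <;> omega
  have key2 : ∀ x y z : Fin e, posKey x y ≤ posKey i l → B x z * A z y = 0 := by
    intro x y z hle
    by_contra hne
    have h1 : x < z := not_le.mp fun h => hne (by rw [hB x z h, zero_mul])
    have h2 : z < y := not_le.mp fun h => hne (by rw [hA z y h, mul_zero])
    have h3 : posKey j l ≤ posKey x z := not_lt.mp fun h => hne (by rw [hb x z h1 h, zero_mul])
    have h4 : posKey i j ≤ posKey z y := not_lt.mp fun h => hne (by rw [ha z y h2 h, mul_zero])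
    rw [posKey_le_iff] at hle h3 h4
    omega
  refine ⟨?_, fun x y hxy => ?_⟩
  · rw [Matrix.sub_apply, Matrix.mul_apply, Matrix.mul_apply,
      Finset.sum_eq_zero (fun z _ => key2 i l z le_rfl), sub_zero]
    refine Finset.sum_eq_single j (fun z _ hz => ?_) (fun h => absurd (Finset.mem_univ j) h)
    by_contra hne
    exact hz (key1 i l z le_rfl hne).2.1
  · rw [Matrix.sub_apply, Matrix.mul_apply, Matrix.mul_apply,
      Finset.sum_eq_zero (fun z _ => key2 x y z hxy.le), sub_zero]
    refine Finset.sum_eq_zero fun z _ => ?_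
    by_contra hne
    obtain ⟨rfl, -, rfl⟩ := key1 x y z hxy.le hne
    exact lt_irrefl _ hxy

/-- Multiplying by a unitriangular matrix on the right keeps the leading entry. -/
theorem lead_mul_right {X B : Matrix (Fin e) (Fin e) R} (hB : StrictUpper B) {i l : Fin e} (hil : i < l)
    (hX : ∀ x y : Fin e, posKey x y < posKey i l → X x y = 0) {x y : Fin e} (hle : posKey x y ≤ posKey i l) :
    (X * (1 + B)) x y = X x y := by
  rw [mul_add, mul_one, Matrix.add_apply]
  suffices h : (X * B) x y = 0 by rw [h, add_zero]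
  rw [Matrix.mul_apply]
  refine Finset.sum_eq_zero fun z _ => ?_
  rcases le_or_gt y z with h | h
  · rw [hB z y h, mul_zero]
  · rw [hX x z ?_, zero_mul]
    rcases le_or_gt z x with hzx | hzx
    · unfold posKey
      have h1 : 1 * e ≤ ((l : ℕ) - i) * e := Nat.mul_le_mul_right _ (by omega)
      have h2 : (z : ℕ) - x = 0 := by omega
      rw [h2, zero_mul]
      have := x.2
      omega
    · exact lt_of_lt_of_le (posKey_lt_of_dist (by omega)) hle

theorem finset_card_le_of_triangleFree (T : Finset (Fin e × Fin e)) (h1 : ∀ t ∈ T, t.1 < t.2)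
    (h2 : ∀ i j l, (i, j) ∈ T → (j, l) ∈ T → (i, l) ∉ T) : T.card ≤ e ^ 2 / 4 := by
  classical
  let Gr : SimpleGraph (Fin e) :=
    { Adj := fun a b => (a, b) ∈ T ∨ (b, a) ∈ T
      symm := ⟨fun a b h => h.symm⟩
      loopless := ⟨fun a h => absurd (h.elim (h1 _) (h1 _)) (lt_irrefl _)⟩ }
  have hord : ∀ a b, Gr.Adj a b → a < b → (a, b) ∈ T := fun a b h hab =>
    h.resolve_right fun h' => lt_asymm hab (h1 _ h')
  have hfree : Gr.CliqueFree 3 := by
    intro s hs
    obtain ⟨a, b, c, hab, hbc, hac, hlt1, hlt2⟩ : ∃ a b c, Gr.Adj a b ∧ Gr.Adj b c ∧ Gr.Adj a c ∧ a < b ∧ b < c := by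
      obtain ⟨x, y, z, hxy, hxz, hyz, rfl⟩ := Finset.card_eq_three.mp hs.2
      have e1 : Gr.Adj x y := hs.1 (by simp) (by simp) hxy
      have e2 : Gr.Adj x z := hs.1 (by simp) (by simp) hxz
      have e3 : Gr.Adj y z := hs.1 (by simp) (by simp) hyz
      rcases lt_trichotomy x y with h | h | h
      · rcases lt_trichotomy y z with h' | h' | h'
        · exact ⟨x, y, z, e1, e3, e2, h, h'⟩
        · exact absurd h' hyz
        · rcases lt_trichotomy x z with h'' | h'' | h''
          · exact ⟨x, z, y, e2, e3.symm, e1, h'', h'⟩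
          · exact absurd h'' hxz
          · exact ⟨z, x, y, e2.symm, e1, e3.symm, h'', h⟩
      · exact absurd h hxy
      · rcases lt_trichotomy x z with h' | h' | h'
        · exact ⟨y, x, z, e1.symm, e2, e3, h, h'⟩
        · exact absurd h' hxz
        · rcases lt_trichotomy y z with h'' | h'' | h''
          · exact ⟨y, z, x, e3, e2.symm, e1.symm, h'', h'⟩
          · exact absurd h'' hyz
          · exact ⟨z, y, x, e3.symm, e1.symm, e2.symm, h'', h⟩
    exact h2 a b c (hord a b hab hlt1) (hord b c hbc hlt2) (hord a c hac (hlt1.trans hlt2))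
  have hle := hfree.card_edgeFinset_le (r := 2)
  simp only [Fintype.card_fin] at hle
  have hT : T.card ≤ Gr.edgeFinset.card := by
    refine Finset.card_le_card_of_injOn (fun t => s(t.1, t.2)) ?_ ?_
    · intro t ht
      simp only [Finset.mem_coe, SimpleGraph.mem_edgeFinset, SimpleGraph.mem_edgeSet]
      exact Or.inl ht
    · rintro ⟨a, b⟩ hab ⟨c, d⟩ hcd heq
      rcases Sym2.eq_iff.mp heq with ⟨rfl, rfl⟩ | ⟨rfl, rfl⟩
      · rfl
      · exact absurd (h1 _ hcd) (lt_asymm (h1 _ hab))
  refine (hT.trans hle).trans ?_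
  rcases Nat.mod_two_eq_zero_or_one e with h | h <;> rw [h]
  · simp
  · simp only [Nat.choose_eq_zero_of_lt one_lt_two, one_pow, add_zero]
    exact Nat.div_le_div_right (by omega)

variable {p : ℕ} [Fact p.Prime]

/-- A `p`-group of unitriangular matrices over `ZMod p` is generated by at most `e ^ 2 / 4` elements. -/
theorem exists_generators_unitriangular {Q : Type*} [Group Q] [Finite Q] (hQ : IsPGroup p Q)
    (M : Q →* Matrix (Fin e) (Fin e) (ZMod p)) (hM : Function.Injective M)
    (htri : ∀ q, StrictUpper (M q - 1)) :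
    ∃ S : Finset Q, S.card ≤ e ^ 2 / 4 ∧ Subgroup.closure (S : Set Q) = ⊤ := by
  classical
  set N : Q → Matrix (Fin e) (Fin e) (ZMod p) := fun q => M q - 1 with hN
  have hNmul : ∀ a b, N (a * b) = N a + N b + N a * N b := by
    intro a b
    simp only [hN, map_mul]
    noncomm_ring
  have hzero : ∀ (r : ℕ) (a b : Q), ZeroBefore r (N a) → ∀ x y : Fin e, posKey x y ≤ r →
      N (a * b) x y = N a x y + N b x y := by
    intro r a b ha x y hxy
    rw [hNmul, Matrix.add_apply, Matrix.add_apply, ha.mul (htri a) (htri b) hxy, add_zero]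
  have hclosed : ∀ (r : ℕ) (a b : Q), ZeroBefore r (N a) → ZeroBefore r (N b) → ZeroBefore r (N (a * b)) := by
    intro r a b ha hb x y hxy hr
    rw [hzero r a b ha x y hr.le, ha x y hxy hr, hb x y hxy hr, add_zero]
  have hN1 : N 1 = 0 := by simp [hN]
  set Qr : ℕ → Submonoid Q := fun r =>
    { carrier := {q | ZeroBefore r (N q)}
      one_mem' := fun x y _ _ => by rw [hN1]; rfl
      mul_mem' := fun {a b} ha hb => hclosed r a b ha hb } with hQr
  have hinv : ∀ r, ∀ q ∈ Qr r, q⁻¹ ∈ Qr r := by
    intro r q hq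
    have h1 : q⁻¹ ∈ Submonoid.powers q := by
      rw [mem_powers_iff_mem_zpowers]; exact inv_mem (Subgroup.mem_zpowers q)
    exact (Submonoid.powers_le.mpr hq) h1
  let good : Fin e × Fin e → Prop := fun t => t.1 < t.2 ∧
    (∃ q, ZeroBefore (posKey t.1 t.2) (N q) ∧ N q t.1 t.2 ≠ 0) ∧
    ¬ ∃ w ∈ frattini Q, ZeroBefore (posKey t.1 t.2) (N w) ∧ N w t.1 t.2 ≠ 0
  set T := Finset.univ.filter good with hT
  have hTcard : T.card ≤ e ^ 2 / 4 := by
    refine finset_card_le_of_triangleFree T (fun t ht => (Finset.mem_filter.mp ht).2.1) ?_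
    intro i j l h12 h23 h13
    obtain ⟨-, hij, ⟨a, ha, hane⟩, -⟩ := Finset.mem_filter.mp h12
    obtain ⟨-, hjl, ⟨b, hb, hbne⟩, -⟩ := Finset.mem_filter.mp h23
    obtain ⟨-, -, -, hno⟩ := Finset.mem_filter.mp h13
    dsimp only at *
    refine hno ⟨⁅a, b⁆, PGroups.commutator_le_frattini hQ ?_, ?_, ?_⟩
    · rw [commutator_def]
      exact Subgroup.commutator_mem_commutator (Subgroup.mem_top _) (Subgroup.mem_top _)
    all_goals
      obtain ⟨hlead, hlow⟩ := sub_comm_apply (htri a) (htri b) hij hjl ha hb
      have heq : N ⁅a, b⁆ = (N a * N b - N b * N a) * (1 + N ((b * a)⁻¹)) := by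
        have h1 : M (a * b) = M ⁅a, b⁆ * M (b * a) := by
          rw [← map_mul]; congr 1; rw [commutatorElement_def]; group
        have h2 : N a * N b - N b * N a = M (a * b) - M (b * a) := by
          simp only [hN, map_mul]; noncomm_ring
        have h3 : 1 + N ((b * a)⁻¹) = M ((b * a)⁻¹) := by simp [hN]
        rw [h2, h3, sub_mul, ← map_mul, ← map_mul]
        simp only [hN]
        rw [show a * b * (b * a)⁻¹ = ⁅a, b⁆ by rw [commutatorElement_def]; group, mul_inv_cancel, map_one]
    · intro x y hxy hlt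
      rw [heq, lead_mul_right (htri _) (hij.trans hjl) hlow hlt.le, hlow x y hlt]
    · rw [heq, lead_mul_right (htri _) (hij.trans hjl) hlow le_rfl, hlead]
      exact mul_ne_zero hane hbne
  -- choose an element for each good position
  have hwit : ∀ t ∈ T, ∃ q, ZeroBefore (posKey t.1 t.2) (N q) ∧ N q t.1 t.2 ≠ 0 :=
    fun t ht => (Finset.mem_filter.mp ht).2.2.1
  choose g hg1 hg2 using hwit
  set S : Finset Q := T.attach.image (fun t => g t.1 t.2) with hS
  refine ⟨S, (Finset.card_image_le.trans (by rw [Finset.card_attach])).trans hTcard, ?_⟩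
  set K := Subgroup.closure (S : Set Q) ⊔ frattini Q with hK
  have step : ∀ (n : ℕ) (r : ℕ), e * e + e ≤ r + n → ∀ q, ZeroBefore r (N q) → q ∈ K := by
    intro n
    induction n with
    | zero =>
      intro r hr q hq
      have hq0 : N q = 0 := by
        ext x y
        rcases le_or_gt y x with h | h
        · exact htri q x y h
        · refine hq x y h ?_
          unfold posKey
          have h2 : ((y : ℕ) - x) * e ≤ e * e := Nat.mul_le_mul_right _ (by have := y.2; omega)
          have := x.2
          omega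
      have : q = 1 := hM (by rw [map_one, ← sub_eq_zero]; exact hq0)
      rw [this]
      exact one_mem _
    | succ n ih =>
      intro r hr q hq
      by_cases hpos : ∃ x y : Fin e, x < y ∧ posKey x y = r ∧ N q x y ≠ 0
      · obtain ⟨i, j, hij, rfl, hne⟩ := hpos
        obtain ⟨w, hwK, hw, hwne⟩ : ∃ w ∈ K, ZeroBefore (posKey i j) (N w) ∧ N w i j ≠ 0 := by
          by_cases hgood : (i, j) ∈ T
          · exact ⟨g (i, j) hgood, Subgroup.mem_sup_left (Subgroup.subset_closure (Finset.mem_coe.mpr
              (Finset.mem_image.mpr ⟨⟨(i, j), hgood⟩, Finset.mem_attach _ _, rfl⟩))), hg1 _ hgood, hg2 _ hgood⟩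
          · have hng : ¬ good (i, j) := fun h => hgood (Finset.mem_filter.mpr ⟨Finset.mem_univ _, h⟩)
            have h' : ∃ w ∈ frattini Q, ZeroBefore (posKey i j) (N w) ∧ N w i j ≠ 0 :=
              by_contra fun h' => hng ⟨hij, ⟨q, hq, hne⟩, h'⟩
            obtain ⟨w, hwF, hw, hwne⟩ := h'
            exact ⟨w, Subgroup.mem_sup_right hwF, hw, hwne⟩
        set c : ℕ := (-(N q i j) / N w i j).val with hc
        have hwc : ∀ m : ℕ, w ^ m ∈ Qr (posKey i j) := fun m => pow_mem hw m
        have hadd : ∀ m : ℕ, N (w ^ m) i j = (m : ZMod p) * N w i j := by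
          intro m
          induction m with
          | zero => rw [pow_zero, hN1, Nat.cast_zero, zero_mul]; rfl
          | succ m ihm =>
            rw [pow_succ, hzero _ _ _ (hwc m) i j le_rfl, ihm]
            push_cast; ring
        have hnew : ZeroBefore (posKey i j + 1) (N (q * w ^ c)) := by
          intro x y hxy hlt
          rw [hzero _ _ _ hq x y (Nat.lt_succ_iff.mp hlt)]
          rcases (Nat.lt_succ_iff.mp hlt).lt_or_eq with h | h
          · rw [hq x y hxy h, (hwc c) x y hxy h, add_zero]
          · obtain ⟨hx, hy⟩ : x = i ∧ y = j := by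
              have h1 := posKey_le_iff.mp h.le
              have h2 := posKey_le_iff.mp h.ge
              constructor <;> apply Fin.ext <;> omega
            rw [hx, hy, hadd, hc, ZMod.natCast_zmod_val, div_mul_cancel₀ _ hwne, add_neg_cancel]
        have := mul_mem (ih (posKey i j + 1) (by omega) _ hnew) (inv_mem (pow_mem hwK c))
        rwa [mul_inv_cancel_right] at this
      · push Not at hpos
        refine ih (r + 1) (by omega) q fun x y hxy hlt => ?_
        rcases (Nat.lt_succ_iff.mp hlt).lt_or_eq with h | h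
        · exact hq x y hxy h
        · exact hpos x y hxy h
  have htop : K = ⊤ := eq_top_iff.mpr fun q _ =>
    step (e * e + e) 0 (by omega) q fun x y _ h => absurd h (Nat.not_lt_zero _)
  exact frattini_nongenerating (K := Subgroup.closure (S : Set Q)) htop

end Cfsg.Agent.H75
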